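import Mathlib
import Cfsg.Agent.J2Sylow.InvSylow
import Cfsg.Agent.Lib.TwoClassEnd_m3
import Cfsg.Agent.J2Sylow.TabZ_mg
import Cfsg.Agent.Lib.ProductSet
import Cfsg.Prelude.Def_Solvable
import Cfsg.Agent.Lib.Cores
import Cfsg.Agent.Lib.MinNormal
import Cfsg.Agent.Lib.MinNormalNonabelian
import Cfsg.Agent.Lib.SylowNormalInf
import Cfsg.Agent.J2Type.TransferAb
import Cfsg.Agent.S0215
import Cfsg.Agent.Lib.ElemAbGL
import Cfsg.Agent.Lib.DicksonAct
import Cfsg.Agent.J2Type.Model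
import Cfsg.Agent.S0023
import Cfsg.Agent.S0024
import Cfsg.Agent.S0025
import Cfsg.Agent.StandardComponent.CentCore
import Cfsg.Agent.SignalizersComponents.CoprimeBasic
import Cfsg.Prelude.Def_Local
import Cfsg.Prelude.Def_Involutions
import Cfsg.Agent.Lib.CoprimeCommutator
import Cfsg.Agent.J2Sylow.Model
import Cfsg.Agent.S0213
import Cfsg.Prelude.Def_CaseTheorems
import Cfsg.Agent.J2Sylow.StarPSL
import Cfsg.Agent.Lib.KleinGen
import Cfsg.Agent.Lib.SolvableNormalP
import Cfsg.Agent.TwoFusion.PSLTwoGood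
import Cfsg.Agent.Lib.PermCode
import Cfsg.Agent.S0058
import Cfsg.Agent.S1295
import Cfsg.Agent.SignalizersComponents.PConstrained
import Cfsg.Agent.S0205
import Cfsg.Agent.J2Sylow.BalancedEnd
import Cfsg.Agent.S1665
import Cfsg.Agent.J2.ExtQuot
import Cfsg.Agent.S1658
import Cfsg.Prelude.Def_Balance
import Cfsg.Agent.SignalizersComponents.FermatEnd
import Cfsg.Agent.J2Sylow.SporSylow
import Cfsg.Agent.S1221
import Cfsg.Agent.Lib.FastPerm
import Cfsg.Agent.FastGrp
import Cfsg.Agent.Prune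
set_option linter.all false

section
prune_inst 0x7fbcfefbadf8addfffff7e7ffefddffc39d4dfffffdffb4bffedebffafdf23673be5fb8f1de458ffdef6e2b630b87813f97eca3fee6bdc7ffffd5ff45ffbee1fe5ffbd8d51d6b8340ffe6ffffbf17f8e7f3fffffffffffffffffffffffffffffffffffffffff

-- part: J2Sylow/CoreTools_mg
section
prune_inst 0x400000020410000000000001000003c6282000002004800010040050204898c4000020820882000101000000400340068124c00100010000000000000011801a0002200029008a100000000000007180c00000000000000000000000000000000000000000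
set_option linter.all false
open scoped Cfsg.Agent.FastGrp

-- part: J2Sylow/CoreTools
section
set_option autoImplicit false

/-!
# General tools for the balance step: odd normal subgroups and involutions, `r`-parts
-/

namespace Cfsg.Agent.J2Sylow.CoreTools

open Subgroup Cfsg.Agent.J2Sylow.Functor

variable {G : Type*} [Group G]

/-- square roots in a subgroup of odd order, of an element inverted by `z` -/
theorem exists_sqrt_inverted [Finite G] {N : Subgroup G} (hN : Odd (Nat.card N)) {z m : G}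
    (hm : m ∈ N) (hinv : z * m * z⁻¹ = m⁻¹) : ∃ k ∈ N, k * k = m ∧ z * k * z⁻¹ = k⁻¹ := by
  have ho := odd_orderOf_of_mem hN hm
  obtain ⟨j, hj⟩ := ho
  refine ⟨m ^ (j + 1), N.pow_mem hm _, ?_, ?_⟩
  · rw [← pow_add]
    have : j + 1 + (j + 1) = (2 * j + 1) + 1 := by ring
    rw [this, pow_add, ← hj, pow_orderOf_eq_one, one_mul, pow_one]
  · have h1 : z * m ^ (j + 1) * z⁻¹ = (z * m * z⁻¹) ^ (j + 1) := by
      rw [conj_pow]
    rw [h1, hinv, inv_pow]

/-- If `g` normalises `N`, `N` has odd order, `z` an involution normalising `N` and `[z, g] ∈ N`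
then some element of the coset `g N` commutes with `z`. -/
theorem exists_commute_coset [Finite G] {N : Subgroup G} (hN : Odd (Nat.card N)) {z g : G}
    (hz : z * z = 1) (hgN : ∀ x ∈ N, g * x * g⁻¹ ∈ N)
    (hc : z * g * z⁻¹ * g⁻¹ ∈ N) : ∃ n ∈ N, (g * n) * z = z * (g * n) := by
  have hzi : z⁻¹ = z := inv_eq_of_mul_eq_one_right hz
  have hgN' := mem_normalizer_of_conj' hgN
  -- m = g⁻¹ z g z
  have hm : g⁻¹ * z * g * z ∈ N := by
    have h1 : g⁻¹ * (z * g * z⁻¹ * g⁻¹) * g ∈ N := by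
      have h2 := (mem_normalizer_iff.mp ((normalizer (N : Set G)).inv_mem hgN')
        (z * g * z⁻¹ * g⁻¹)).mp hc
      simpa using h2
    have h3 : g⁻¹ * (z * g * z⁻¹ * g⁻¹) * g = g⁻¹ * z * g * z := by rw [hzi]; group
    rwa [h3] at h1
  have hinv : z * (g⁻¹ * z * g * z) * z⁻¹ = (g⁻¹ * z * g * z)⁻¹ := by
    rw [hzi]
    have h1 : (g⁻¹ * z * g * z)⁻¹ = z⁻¹ * g⁻¹ * z⁻¹ * g := by group
    rw [h1, hzi]
    calc z * (g⁻¹ * z * g * z) * z = z * g⁻¹ * z * g * (z * z) := by group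
      _ = z * g⁻¹ * z * g := by rw [hz, mul_one]
  obtain ⟨k, hk, hkk, hki⟩ := exists_sqrt_inverted hN hm hinv
  refine ⟨k, hk, ?_⟩
  -- g⁻¹ z g = k z k⁻¹
  have h1 : g⁻¹ * z * g = k * k * z := by
    rw [hkk]
    calc g⁻¹ * z * g = g⁻¹ * z * g * (z * z) := by rw [hz, mul_one]
      _ = _ := by group
  have h2 : k * z = z * k⁻¹ := by
    have h3 : z * k = k⁻¹ * z := by
      rw [← hki]; group
    calc k * z = (k⁻¹)⁻¹ * z := by rw [inv_inv]
      _ = (z * k * z⁻¹)⁻¹ * z := by rw [hki]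
      _ = z * k⁻¹ * (z⁻¹ * z) := by group
      _ = z * k⁻¹ := by group
  have h4 : g⁻¹ * z * g * k = k * z := by
    calc g⁻¹ * z * g * k = k * k * z * k := by rw [h1]
      _ = k * (k * z) * k := by group
      _ = k * (z * k⁻¹) * k := by rw [h2]
      _ = k * z := by group
  calc g * k * z = g * (k * z) := by group
    _ = g * (g⁻¹ * z * g * k) := by rw [h4]
    _ = z * (g * k) := by group

theorem mem_sup_iff {N L : Subgroup G} (h : ∀ l ∈ L, ∀ n ∈ N, l * n * l⁻¹ ∈ N) {x : G} [Finite G] :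
    x ∈ N ⊔ L ↔ ∃ n ∈ N, ∃ l ∈ L, x = n * l := by
  have hle : L ≤ normalizer (N : Set G) := fun l hl => mem_normalizer_of_conj' (h l hl)
  rw [← SetLike.mem_coe, Subgroup.coe_mul_of_right_le_normalizer_left N L hle, Set.mem_mul]
  constructor
  · rintro ⟨n, hn, l, hl, rfl⟩; exact ⟨n, hn, l, hl, rfl⟩
  · rintro ⟨n, hn, l, hl, rfl⟩; exact ⟨n, hn, l, hl, rfl⟩

/-- the product of two odd order subgroups, one normalising the other, is odd -/
theorem odd_sup [Finite G] {N L : Subgroup G} (hN : Odd (Nat.card N)) (hL : Odd (Nat.card L))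
    (h : ∀ l ∈ L, ∀ n ∈ N, l * n * l⁻¹ ∈ N) : Odd (Nat.card ↥(N ⊔ L)) := by
  rw [← Nat.not_even_iff_odd, even_iff_two_dvd]
  intro h2
  have : Fact (Nat.Prime 2) := ⟨Nat.prime_two⟩
  obtain ⟨⟨t, ht⟩, ht2⟩ := exists_prime_orderOf_dvd_card' 2 h2
  rw [Subgroup.orderOf_mk] at ht2
  obtain ⟨k, hk, l, hl, hkl⟩ := (mem_sup_iff h).1 ht
  have h3 := pow_mul_inv_mem hk (h l hl) (Nat.card L)
  have h4 : l ^ Nat.card L = 1 := by
    have h5 : (⟨l, hl⟩ : L) ^ Nat.card L = 1 := pow_card_eq_one'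
    have h6 := congrArg Subtype.val h5
    rw [Subgroup.coe_pow] at h6
    exact h6
  rw [h4, inv_one, mul_one, ← hkl] at h3
  have h5 : t ^ Nat.card L = t := by
    obtain ⟨m, hm⟩ := hL
    have h6 : t ^ 2 = 1 := by rw [← ht2]; exact pow_orderOf_eq_one t
    rw [hm, pow_add, pow_mul, h6, one_pow, one_mul, pow_one]
  rw [h5] at h3
  have h6 := odd_orderOf_of_mem hN h3
  rw [ht2] at h6
  exact absurd h6 (by decide)

theorem card_mul_relIndex {L N : Subgroup G} (hLN : L ≤ N) :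
    Nat.card L * L.relIndex N = Nat.card N := by
  have h1 := relIndex_mul_relIndex ⊥ L N bot_le hLN
  rwa [relIndex_bot_left, relIndex_bot_left] at h1

/-- `x` commutes with `z` in conjugation form -/
theorem comm_iff_mem {z g : G} : g ∈ centralizer ({z} : Set G) ↔ g * z = z * g :=
  mem_centralizer_singleton_iff

end Cfsg.Agent.J2Sylow.CoreTools
end

-- part: J2Sylow/E1J2
section
set_option autoImplicit false

/-! The J2-type case: `E1 - U` contains no conjugate of `z`.  `E1` is a Sylow 2-subgroup of `C(a)`,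
`a ∈ E1 - U`, and `N(E1) ∩ C(a)` acts on `E1` as a group of order 3 with fixed points `Va h a`. -/

namespace Cfsg.Agent.J2Sylow.E1J2

open Subgroup Model E1Fusion

variable {G : Type*} [Group G] (h : Setup G)

/-- the J2-type hypothesis -/
def J2 : Prop := ∀ x ∈ h.E1, x ∉ h.U → ¬ IsConj h.z x

theorem conj_v (hf : Fused h) : IsConj h.z h.v := by
  obtain ⟨g, -, hg⟩ := hf.f1
  exact (isConj_iff.mpr ⟨g, hg⟩ : IsConj h.v h.z).symm

theorem conj_tau (hf : Fused h) : IsConj h.z h.tau := by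
  obtain ⟨g, -, -, hg⟩ := hf.f2
  exact (conj_v h hf).trans (isConj_iff.mpr ⟨g, hg⟩ : IsConj h.tau h.v).symm

theorem conj_U (hf : Fused h) {x : G} (hx : x ∈ h.U) (hx1 : x ≠ 1) : IsConj h.z x := by
  rcases BasicA.U_cases h hx with rfl | rfl | rfl | rfl
  · exact absurd rfl hx1
  · exact IsConj.refl _
  · exact conj_v h hf
  · exact (conj_v h hf).trans (isConj_iff.mpr ⟨h.tau, BasicA.tau_conj_v h⟩)

theorem card_centralizer_conj [Finite G] {a k : G} :
    Nat.card (centralizer ({k * a * k⁻¹} : Set G)) = Nat.card (centralizer ({a} : Set G)) := by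
  have hmap : (centralizer ({a} : Set G)).map (MulAut.conj k).toMonoidHom =
      centralizer ({k * a * k⁻¹} : Set G) := by
    ext w
    simp only [mem_map, MulEquiv.coe_toMonoidHom, MulAut.conj_apply,
      mem_centralizer_singleton_iff]
    constructor
    · rintro ⟨s, hs, rfl⟩
      calc (k * s * k⁻¹) * (k * a * k⁻¹) = k * (s * a) * k⁻¹ := by group
        _ = k * (a * s) * k⁻¹ := by rw [hs]
        _ = _ := by group
    · intro hw
      refine ⟨k⁻¹ * w * k, ?_, by group⟩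
      calc k⁻¹ * w * k * a = k⁻¹ * (w * (k * a * k⁻¹)) * k := by group
        _ = k⁻¹ * ((k * a * k⁻¹) * w) * k := by rw [hw]
        _ = _ := by group
  rw [← hmap]
  exact (Nat.card_congr ((centralizer ({a} : Set G)).equivMapOfInjective _
    (MulAut.conj k).injective).toEquiv).symm

theorem E1_le_centralizer {a : G} (ha : a ∈ h.E1) : h.E1 ≤ centralizer ({a} : Set G) := by
  intro x hx
  rw [mem_centralizer_singleton_iff]
  exact BasicA.E1_comm h hx ha

theorem inf_centralizer_E1 {y : G} (hy : y ∈ h.E1) (hyU : y ∉ h.U) :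
    h.S ⊓ centralizer ({y} : Set G) = h.E1 := by
  apply le_antisymm
  · intro x hx
    exact BasicA.comm_E1 h hy hyU hx.1 (mem_centralizer_singleton_iff.mp hx.2).symm
  · exact le_inf (BasicA.E1_le_S h) (E1_le_centralizer h hy)

theorem inf_centralizer_E2 {y : G} (hy : y ∈ h.E2) (hyU : y ∉ h.U) :
    h.S ⊓ centralizer ({y} : Set G) = h.E2 := by
  apply le_antisymm
  · intro x hx
    exact BasicA.comm_E2 h hy hyU hx.1 (mem_centralizer_singleton_iff.mp hx.2).symm
  · refine le_inf (BasicA.E2_le_S h) ?_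
    intro x hx
    rw [mem_centralizer_singleton_iff]
    exact BasicA.E2_comm h hx hy

/-- `E1` is a Sylow 2-subgroup of `C(a)`. -/
theorem odd_relIndex [Finite G] (hf : Fused h) (hJ : J2 h) {a : G} (ha : a ∈ h.E1)
    (haU : a ∉ h.U) : Odd (h.E1.relIndex (centralizer ({a} : Set G))) := by
  obtain ⟨k, hkS, -, hodd⟩ := exists_extremal h.S (BasicA.S_isPGroup h) h.odd_index a
    (BasicA.E1_le_S h ha)
  set y := k * a * k⁻¹ with hy
  have ha1 : a ≠ 1 := fun e => haU (e ▸ h.U.one_mem)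
  have hy1 : y ≠ 1 := fun e => ha1 (by
    have : a = k⁻¹ * y * k := by rw [hy]; group
    rw [this, e]; group)
  have hyy : y * y = 1 := by
    have : y * y = k * (a * a) * k⁻¹ := by rw [hy]; group
    rw [this, BasicA.E1_sq h ha]; group
  have hay : IsConj a y := isConj_iff.mpr ⟨k, rfl⟩
  have hcard : Nat.card (h.S ⊓ centralizer ({y} : Set G) : Subgroup G) = 16 := by
    rcases BasicA.invol_cases h hkS hyy hy1 with h1 | h1 | h1 | ⟨g, -, h1⟩
    · exact absurd ((conj_U h hf h1 hy1).trans hay.symm) (hJ a ha haU)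
    · rw [inf_centralizer_E1 h h1.1 h1.2, BasicA.card_E1]
    · rw [inf_centralizer_E2 h h1.1 h1.2, BasicA.card_E2]
    · exact absurd ((conj_tau h hf).trans ((isConj_iff.mpr ⟨g, h1⟩ : IsConj y h.tau).symm.trans
        hay.symm)) (hJ a ha haU)
  have h1 := relIndex_mul_relIndex (⊥ : Subgroup G) (h.S ⊓ centralizer ({y} : Set G))
    (centralizer ({y} : Set G)) bot_le inf_le_right
  have h2 := relIndex_mul_relIndex (⊥ : Subgroup G) h.E1 (centralizer ({a} : Set G)) bot_le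
    (E1_le_centralizer h ha)
  rw [relIndex_bot_left, relIndex_bot_left, hcard] at h1
  rw [relIndex_bot_left, relIndex_bot_left, BasicA.card_E1] at h2
  have h3 : Nat.card (centralizer ({y} : Set G)) = Nat.card (centralizer ({a} : Set G)) :=
    card_centralizer_conj
  rw [← h1, ← h2] at h3
  have h4 := Nat.eq_of_mul_eq_mul_left (by norm_num) h3
  rw [← h4]
  exact hodd

/-- the elements normalising `E1` and centralising `a`. -/
structure Na (a n : G) : Prop where
  comm : n * a = a * n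
  nrm : Nrm h.E1 n

variable {h}

theorem Na.mul {a m n : G} (hm : Na h a m) (hn : Na h a n) : Na h a (m * n) :=
  ⟨by rw [mul_assoc, hn.comm, ← mul_assoc, hm.comm, mul_assoc], hm.nrm.mul hn.nrm⟩

theorem Na.pow {a n : G} (hn : Na h a n) (k : ℕ) : Na h a (n ^ k) :=
  ⟨(Commute.pow_left (show Commute n a from hn.comm) k).eq, hn.nrm.pow k⟩

theorem Na.odd_pow [Finite G] (hf : Fused h) (hJ : J2 h) {a n : G} (ha : a ∈ h.E1)
    (haU : a ∉ h.U) (hn : Na h a n) : ∃ k : ℕ, Odd k ∧ ∀ x ∈ h.E1, n ^ k * x * (n ^ k)⁻¹ = x := by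
  obtain ⟨k, hk, hkE⟩ := CentAux.exists_odd_pow_mem h.E1 (centralizer ({a} : Set G))
    (BasicA.isPGroup_of_le h (BasicA.E1_le_S h)) (E1_le_centralizer h ha)
    (odd_relIndex h hf hJ ha haU) (mem_centralizer_singleton_iff.mpr hn.comm) hn.nrm
  exact ⟨k, hk, fun x hx => by rw [BasicA.E1_comm h hkE hx, mul_inv_cancel_right]⟩

/-- elements normalising `E1` normalise `U`. -/
theorem nrm_U (hf : Fused h) (hJ : J2 h) {n : G} (hn : Nrm h.E1 n) : Nrm h.U n := by
  intro u hu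
  by_contra hcon
  have hu1 : u ≠ 1 := by
    rintro rfl
    apply hcon
    rw [mul_one, mul_inv_cancel]
    exact h.U.one_mem
  exact hJ _ (hn u (BasicA.U_le_E1 h hu)) hcon
    ((conj_U h hf hu hu1).trans (isConj_iff.mpr ⟨n, rfl⟩))

theorem mem_U_of_conj [Finite G] (hf : Fused h) (hJ : J2 h) {n x : G} (hn : Nrm h.E1 n)
    (hx : n * x * n⁻¹ ∈ h.U) : x ∈ h.U := by
  have h1 := (nrm_U hf hJ hn.inv) _ hx
  have h2 : n⁻¹ * (n * x * n⁻¹) * n⁻¹⁻¹ = x := by group
  rwa [h2] at h1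

theorem pow_conj_succ (n x : G) (k : ℕ) :
    n ^ (k + 1) * x * (n ^ (k + 1))⁻¹ = n * (n ^ k * x * (n ^ k)⁻¹) * n⁻¹ := by
  rw [pow_succ']
  group

/-- elements of `N(E1) ∩ C(a)` act trivially on `E1/U`. -/
theorem Na.triv [Finite G] (hf : Fused h) (hJ : J2 h) {a n : G} (ha : a ∈ h.E1)
    (haU : a ∉ h.U) (hn : Na h a n) {x : G} (hx : x ∈ h.E1) : n * x * n⁻¹ * x⁻¹ ∈ h.U := by
  have hnU := nrm_U hf hJ hn.nrm
  have hna : n * a * n⁻¹ = a := by rw [hn.comm, mul_inv_cancel_right]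
  have inv_eq : ∀ y ∈ h.E1, y⁻¹ = y := fun y hy => inv_eq_of_mul_eq_one_left (BasicA.E1_sq h hy)
  by_cases hxU : x ∈ h.U
  · exact h.U.mul_mem (hnU x hxU) (h.U.inv_mem hxU)
  by_cases haxU : a * x ∈ h.U
  · have h1 := hnU _ haxU
    have h2 : n * (a * x) * n⁻¹ = a * (n * x * n⁻¹) := by
      have : n * (a * x) * n⁻¹ = (n * a * n⁻¹) * (n * x * n⁻¹) := by group
      rw [this, hna]
    rw [h2] at h1
    have hnx := hn.nrm x hx
    have h3 : n * x * n⁻¹ * x⁻¹ = (a * (n * x * n⁻¹)) * (a * x) := by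
      have e1 : a * (n * x * n⁻¹) * (a * x) = (a * a) * (n * x * n⁻¹) * x := by
        rw [BasicA.E1_comm h ha hnx, mul_assoc, ← mul_assoc a a x, BasicA.E1_sq h ha, one_mul,
          one_mul]
      rw [e1, BasicA.E1_sq h ha, one_mul, inv_eq x hx]
    rw [h3]
    exact h.U.mul_mem h1 haxU
  · have hnx := hn.nrm x hx
    obtain ⟨s, hs, hse⟩ := ha
    obtain ⟨t, ht, hte⟩ := hx
    obtain ⟨r, hr, hre⟩ := hnx
    have ha : a ∈ h.E1 := ⟨s, hs, hse⟩
    have hx : x ∈ h.E1 := ⟨t, ht, hte⟩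
    have hcos : n * x * n⁻¹ ∈ h.U ∨ a * (n * x * n⁻¹) ∈ h.U ∨ x * (n * x * n⁻¹) ∈ h.U ∨
        a * x * (n * x * n⁻¹) ∈ h.U := by
      rw [← hse, ← hte] at haxU
      rw [← hse] at haU
      rw [← hte] at hxU
      rw [← map_mul] at haxU
      have := ModelA.cosets s t r hs ht hr (fun e => haU ((BasicA.mem_map_iff h).mpr e))
        (fun e => hxU ((BasicA.mem_map_iff h).mpr e))
        (fun e => haxU ((BasicA.mem_map_iff h).mpr e))
      rw [← hre, ← hse, ← map_mul]
      refine this.imp (BasicA.mem_map_iff h).mpr (Or.imp (BasicA.mem_map_iff h).mpr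
        (Or.imp (fun e => ?_) (fun e => ?_)))
      · rw [← hte, ← map_mul]
        exact (BasicA.mem_map_iff h).mpr e
      · rw [← hte, ← map_mul, ← map_mul]
        exact (BasicA.mem_map_iff h).mpr e
    have hnx := hn.nrm x hx
    rcases hcos with h1 | h1 | h1 | h1
    · exact absurd (mem_U_of_conj hf hJ hn.nrm h1) hxU
    · exfalso
      apply haxU
      apply mem_U_of_conj hf hJ hn.nrm
      have : n * (a * x) * n⁻¹ = (n * a * n⁻¹) * (n * x * n⁻¹) := by group
      rw [this, hna]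
      exact h1
    · rw [inv_eq x hx, BasicA.E1_comm h hnx hx]
      exact h1
    · exfalso
      -- n swaps the cosets of x and ax
      have key : ∀ k : ℕ, a ^ k * x * (n ^ k * x * (n ^ k)⁻¹) ∈ h.U := by
        intro k
        induction k with
        | zero =>
          rw [pow_zero, pow_zero, one_mul, inv_one, mul_one, BasicA.E1_sq h hx]
          exact h.U.one_mem
        | succ k ih =>
          rw [pow_conj_succ]
          have h2 := hnU _ ih
          have hkx := hn.nrm.pow k x hx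
          have hak : a ^ k ∈ h.E1 := h.E1.pow_mem ha k
          have hnk := hn.nrm _ hkx
          have h3 : n * (a ^ k * x * (n ^ k * x * (n ^ k)⁻¹)) * n⁻¹ =
              a ^ k * (n * x * n⁻¹) * (n * (n ^ k * x * (n ^ k)⁻¹) * n⁻¹) := by
            have e1 : n * (a ^ k * x * (n ^ k * x * (n ^ k)⁻¹)) * n⁻¹ =
              (n * a ^ k * n⁻¹) * (n * x * n⁻¹) * (n * (n ^ k * x * (n ^ k)⁻¹) * n⁻¹) := by group
            have e2 : n * a ^ k * n⁻¹ = a ^ k := by
              rw [(Commute.pow_right (show Commute n a from hn.comm) k).eq, mul_inv_cancel_right]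
            rw [e1, e2]
          rw [h3] at h2
          have h4 := h.U.mul_mem h1 h2
          have h5 : a * x * (n * x * n⁻¹) * (a ^ k * (n * x * n⁻¹) *
              (n * (n ^ k * x * (n ^ k)⁻¹) * n⁻¹)) =
              a ^ (k + 1) * x * (n * (n ^ k * x * (n ^ k)⁻¹) * n⁻¹) := by
            set p := n * x * n⁻¹ with hp
            set q := n * (n ^ k * x * (n ^ k)⁻¹) * n⁻¹ with hq
            have e1 : a * x * p * (a ^ k * p * q) = a * (x * p * a ^ k * p) * q := by group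
            have e2 : x * p * a ^ k * p = a ^ k * x := by
              rw [mul_assoc (x * p), BasicA.E1_comm h hak hnx, ← mul_assoc, mul_assoc x p p,
                BasicA.E1_sq h hnx, mul_one, BasicA.E1_comm h hx hak]
            rw [e1, e2, pow_succ']
            group
          rw [h5] at h4
          exact h4
      obtain ⟨k, hk, hkx⟩ := hn.odd_pow hf hJ ha haU
      have h2 := key k
      rw [hkx x hx, mul_assoc, BasicA.E1_sq h hx, mul_one] at h2
      apply haU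
      obtain ⟨j, rfl⟩ := hk
      rw [pow_succ, pow_mul, pow_two, BasicA.E1_sq h ha, one_pow, one_mul] at h2
      exact h2

theorem vz_comm : h.v * h.z = h.z * h.v := (BasicA.z_comm h (BasicA.U_le_S h
  (BasicA.v_mem_U h))).symm

theorem vz_ne_one : h.v * h.z ≠ 1 := by
  intro e
  apply BasicA.v_ne_z h
  have h1 := eq_inv_of_mul_eq_one_left e
  rw [h1]
  exact inv_eq_of_mul_eq_one_left (BasicA.z_sq h)

/-- elements of `N(E1) ∩ C(a)` centralising `z` centralise `E1`. -/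
theorem Na.cent [Finite G] (hf : Fused h) (hJ : J2 h) {a n : G} (ha : a ∈ h.E1)
    (haU : a ∉ h.U) (hn : Na h a n) (hnz : n * h.z * n⁻¹ = h.z) {x : G} (hx : x ∈ h.E1) :
    n * x * n⁻¹ = x := by
  have hnU := nrm_U hf hJ hn.nrm
  obtain ⟨k, hk, hkE⟩ := hn.odd_pow hf hJ ha haU
  have hvE : h.v ∈ h.E1 := BasicA.U_le_E1 h (BasicA.v_mem_U h)
  have hv : n * h.v * n⁻¹ = h.v := by
    rcases BasicA.U_cases h (hnU _ (BasicA.v_mem_U h)) with e | e | e | e
    · exfalso
      apply BasicA.v_ne h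
      have : h.v = n⁻¹ * (n * h.v * n⁻¹) * n := by group
      rw [this, e]; group
    · exfalso
      apply BasicA.v_ne_z h
      rw [← hnz] at e
      simpa using e
    · exact e
    · exfalso
      have key : ∀ j : ℕ, n ^ j * h.v * (n ^ j)⁻¹ = h.v * h.z ^ j := by
        intro j
        induction j with
        | zero => simp
        | succ j ih =>
          rw [pow_conj_succ, ih]
          have : n * (h.v * h.z ^ j) * n⁻¹ = (n * h.v * n⁻¹) * (n * h.z * n⁻¹) ^ j := by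
            rw [conj_pow]; group
          rw [this, e, hnz, pow_succ', mul_assoc]
      have h1 := key k
      rw [hkE _ hvE] at h1
      obtain ⟨j, rfl⟩ := hk
      rw [pow_succ, pow_mul, pow_two, BasicA.z_sq h, one_pow, one_mul] at h1
      exact BasicA.z_ne h (left_eq_mul.mp h1)
  have hU : ∀ u ∈ h.U, n * u * n⁻¹ = u := by
    intro u hu
    rcases BasicA.U_cases h hu with rfl | rfl | rfl | rfl
    · group
    · exact hnz
    · exact hv
    · have : n * (h.v * h.z) * n⁻¹ = (n * h.v * n⁻¹) * (n * h.z * n⁻¹) := by group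
      rw [this, hv, hnz]
  -- x ↦ x u
  set u := n * x * n⁻¹ * x⁻¹ with hu
  have huU : u ∈ h.U := hn.triv hf hJ ha haU hx
  have hnx : n * x * n⁻¹ = u * x := by rw [hu]; group
  have key : ∀ j : ℕ, n ^ j * x * (n ^ j)⁻¹ = u ^ j * x := by
    intro j
    induction j with
    | zero => simp
    | succ j ih =>
      rw [pow_conj_succ, ih]
      have e1 : n * (u ^ j * x) * n⁻¹ = (n * u ^ j * n⁻¹) * (n * x * n⁻¹) := by group
      rw [e1, hU _ (h.U.pow_mem huU j), hnx, pow_succ]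
      group
  have h1 := key k
  rw [hkE _ hx] at h1
  have h2 : u ^ k = 1 := (right_eq_mul.mp h1)
  obtain ⟨j, rfl⟩ := hk
  rw [pow_succ, pow_mul, pow_two, BasicA.E1_sq h (BasicA.U_le_E1 h huU), one_pow, one_mul] at h2
  rw [hnx, h2, one_mul]

end Cfsg.Agent.J2Sylow.E1J2
end

-- part: J2Sylow/VaSub
section
set_option autoImplicit false
open scoped Pointwise

/-! The subgroup `Va h a = E1 ∩ Z*(C(a))`. -/

namespace Cfsg.Agent.J2Sylow.VaSub

open Subgroup Model E1Fusion E1J2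

variable {G : Type*} [Group G] {h : Setup G}

/-- the CentZ facts -/
structure CZ0 (h : Setup G) : Prop where
  normal : ((h.Q ⊔ Cfsg.centralizerPPrimeCore 2 h.z).subgroupOf
      (centralizer ({h.z} : Set G))).Normal
  quot : Nonempty (↥(centralizer ({h.z} : Set G)) ⧸
      ((h.Q ⊔ Cfsg.centralizerPPrimeCore 2 h.z).subgroupOf (centralizer ({h.z} : Set G))) ≃*
      alternatingGroup (Fin 5))

/-- an element of `N(E1) ∩ C(a)` moving `v` to `z`. -/
theorem exists_c0 [Finite G] (hf : Fused h) (hc : CZ0 h) {a : G} (ha : a ∈ h.E1)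
    (haU : a ∉ h.U) : ∃ c, Na h a c ∧ c * h.v * c⁻¹ = h.z := by
  obtain ⟨g, hgE, hgU, -, hgv⟩ := exists_g1 h hf
  have hga := hgE a ha
  have hgaU : g * a * g⁻¹ ∉ h.U := by
    intro h1
    apply haU
    have h2 := hgU.surj h1
    have h3 : g⁻¹ * (g * a * g⁻¹) * g = a := by group
    rwa [h3] at h2
  obtain ⟨k, hkz, hkE, -, hka⟩ := trans_E1 h hc.normal hc.quot hga hgaU ha haU
  refine ⟨k * g, ⟨?_, hkE.mul hgE⟩, ?_⟩
  · have h1 : k * g * a * (k * g)⁻¹ = a := by
      rw [← hka]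
      have : k * g * (k * (g * a * g⁻¹) * k⁻¹) * (k * g)⁻¹ =
        k * g * (k * (g * a * g⁻¹) * k⁻¹) * (k * g)⁻¹ := rfl
      rw [hka]
      have : k * g * a * (k * g)⁻¹ = k * (g * a * g⁻¹) * k⁻¹ := by group
      rw [this, hka]
    rwa [mul_inv_eq_iff_eq_mul] at h1
  · have : k * g * h.v * (k * g)⁻¹ = k * (g * h.v * g⁻¹) * k⁻¹ := by group
    rw [this, hgv, hkz, mul_inv_cancel_right]

/-- `c` acts on `U` as the multiplication by `w`. -/
structure Rot (h : Setup G) (a c : G) : Prop where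
  na : Na h a c
  z : c * h.z * c⁻¹ = h.v
  v : c * h.v * c⁻¹ = h.v * h.z

theorem conj_eq_imp {n x y : G} (hxy : n * x * n⁻¹ = n * y * n⁻¹) : x = y := by
  simpa using hxy

theorem exists_rot [Finite G] (hf : Fused h) (hJ : J2 h) (hc : CZ0 h) {a : G} (ha : a ∈ h.E1)
    (haU : a ∉ h.U) : ∃ c, Rot h a c := by
  obtain ⟨c, hca, hcv⟩ := exists_c0 hf hc ha haU
  have hcU := nrm_U hf hJ hca.nrm
  obtain ⟨k, hk, hkE⟩ := hca.odd_pow hf hJ ha haU
  have hzU := BasicA.z_mem_U h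
  have hvU := BasicA.v_mem_U h
  have hvE : h.v ∈ h.E1 := BasicA.U_le_E1 h hvU
  have hcz : c * h.z * c⁻¹ = h.v * h.z := by
    rcases BasicA.U_cases h (hcU _ hzU) with e | e | e | e
    · exfalso
      apply BasicA.z_ne h
      have : h.z = c⁻¹ * (c * h.z * c⁻¹) * c := by group
      rw [this, e]; group
    · exfalso
      apply BasicA.v_ne_z h
      exact conj_eq_imp (hcv.trans e.symm)
    · exfalso
      -- c swaps z and v
      have key : ∀ j : ℕ, c ^ (2 * j) * h.v * (c ^ (2 * j))⁻¹ = h.v := by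
        intro j
        induction j with
        | zero => simp
        | succ j ih =>
          rw [mul_add, mul_one, show 2 * j + 2 = (2 * j + 1) + 1 from rfl, pow_conj_succ,
            pow_conj_succ, ih, hcv, e]
      obtain ⟨j, rfl⟩ := hk
      have h1 := hkE _ hvE
      rw [pow_conj_succ, key, hcv] at h1
      exact BasicA.v_ne_z h h1.symm
    · exact e
  refine ⟨c * c, hca.mul hca, ?_, ?_⟩
  · have h1 : c * c * h.z * (c * c)⁻¹ = c * (c * h.z * c⁻¹) * c⁻¹ := by group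
    rw [h1, hcz]
    have h2 : c * (h.v * h.z) * c⁻¹ = (c * h.v * c⁻¹) * (c * h.z * c⁻¹) := by group
    rw [h2, hcv, hcz, vz_comm (h := h), ← mul_assoc, BasicA.z_sq h, one_mul]
  · have h1 : c * c * h.v * (c * c)⁻¹ = c * (c * h.v * c⁻¹) * c⁻¹ := by group
    rw [h1, hcv, hcz]

variable {a c : G}

theorem Rot.vz (hr : Rot h a c) : c * (h.v * h.z) * c⁻¹ = h.z := by
  have h2 : c * (h.v * h.z) * c⁻¹ = (c * h.v * c⁻¹) * (c * h.z * c⁻¹) := by group
  rw [h2, hr.v, hr.z, vz_comm (h := h), mul_assoc, BasicA.v_sq h, mul_one]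

/-- every element of `N(E1) ∩ C(a)` centralises what `c` centralises in `E1`. -/
theorem Rot.commute [Finite G] (hf : Fused h) (hJ : J2 h) (ha : a ∈ h.E1)
    (haU : a ∉ h.U) (hr : Rot h a c) {x : G} (hx : x ∈ h.E1) (hcx : c * x = x * c) {n : G}
    (hn : Na h a n) : n * x = x * n := by
  have hcx' : c * x * c⁻¹ = x := by rw [hcx, mul_inv_cancel_right]
  have hcx2 : c⁻¹ * x * c = x := by rw [mul_assoc, ← hcx]; group
  suffices h1 : n * x * n⁻¹ = x by rwa [mul_inv_eq_iff_eq_mul] at h1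
  rcases BasicA.U_cases h ((nrm_U hf hJ hn.nrm) _ (BasicA.z_mem_U h)) with e | e | e | e
  · exfalso
    apply BasicA.z_ne h
    have : h.z = n⁻¹ * (n * h.z * n⁻¹) * n := by group
    rw [this, e]; group
  · exact hn.cent hf hJ ha haU e hx
  · -- c^2 n fixes z
    have h1 : Na h a (c * (c * n)) := hr.na.mul (hr.na.mul hn)
    have h2 : c * (c * n) * h.z * (c * (c * n))⁻¹ = h.z := by
      have : c * (c * n) * h.z * (c * (c * n))⁻¹ = c * (c * (n * h.z * n⁻¹) * c⁻¹) * c⁻¹ := by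
        group
      rw [this, e, hr.v, hr.vz]
    have h3 := h1.cent hf hJ ha haU h2 hx
    have h4 : n * x * n⁻¹ = c⁻¹ * (c⁻¹ * (c * (c * n) * x * (c * (c * n))⁻¹) * c) * c := by group
    rw [h4, h3, hcx2, hcx2]
  · have h1 : Na h a (c * n) := hr.na.mul hn
    have h2 : c * n * h.z * (c * n)⁻¹ = h.z := by
      have : c * n * h.z * (c * n)⁻¹ = c * (n * h.z * n⁻¹) * c⁻¹ := by group
      rw [this, e, hr.vz]
    have h3 := h1.cent hf hJ ha haU h2 hx
    have h4 : n * x * n⁻¹ = c⁻¹ * (c * n * x * (c * n)⁻¹) * c := by group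
    rw [h4, h3, hcx2]

variable (h) in
/-- the fixed points of `N(E1) ∩ C(a)` in `E1` -/
def Va (a : G) : Subgroup G := h.E1 ⊓ centralizer {n | Na h a n}

theorem Va_le : Va h a ≤ h.E1 := inf_le_left

theorem mem_Va {x : G} : x ∈ Va h a ↔ x ∈ h.E1 ∧ ∀ n, Na h a n → n * x = x * n := by
  rw [Va, mem_inf, mem_centralizer_iff]
  rfl

theorem Rot.mem_Va_iff [Finite G] (hf : Fused h) (hJ : J2 h) (ha : a ∈ h.E1)
    (haU : a ∉ h.U) (hr : Rot h a c) {x : G} : x ∈ Va h a ↔ x ∈ h.E1 ∧ c * x = x * c := by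
  rw [mem_Va]
  constructor
  · rintro ⟨h1, h2⟩
    exact ⟨h1, h2 c hr.na⟩
  · rintro ⟨h1, h2⟩
    exact ⟨h1, fun n hn => hr.commute hf hJ ha haU h1 h2 hn⟩

theorem Rot.inf_U [Finite G] (hf : Fused h) (hJ : J2 h) (ha : a ∈ h.E1)
    (haU : a ∉ h.U) (hr : Rot h a c) : Va h a ⊓ h.U = ⊥ := by
  rw [eq_bot_iff]
  rintro x ⟨hx, hxU⟩
  have h1 := ((hr.mem_Va_iff hf hJ ha haU).mp hx).2
  have h2 : c * x * c⁻¹ = x := by rw [h1, mul_inv_cancel_right]
  rw [mem_bot]
  rcases BasicA.U_cases h hxU with rfl | rfl | rfl | rfl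
  · rfl
  · rw [hr.z] at h2
    exact absurd h2 (BasicA.v_ne_z h)
  · rw [hr.v] at h2
    exact absurd (mul_eq_left.mp h2) (BasicA.z_ne h)
  · rw [hr.vz] at h2
    exact absurd (right_eq_mul.mp h2) (BasicA.v_ne h)

/-- `c^3` centralises `E1`. -/
theorem Rot.cube [Finite G] (hf : Fused h) (hJ : J2 h) (ha : a ∈ h.E1)
    (haU : a ∉ h.U) (hr : Rot h a c) {x : G} (hx : x ∈ h.E1) :
    c * (c * (c * x * c⁻¹) * c⁻¹) * c⁻¹ = x := by
  have h1 : Na h a (c * (c * c)) := hr.na.mul (hr.na.mul hr.na)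
  have h2 : c * (c * c) * h.z * (c * (c * c))⁻¹ = h.z := by
    have : c * (c * c) * h.z * (c * (c * c))⁻¹ = c * (c * (c * h.z * c⁻¹) * c⁻¹) * c⁻¹ := by
      group
    rw [this, hr.z, hr.v, hr.vz]
  have h3 := h1.cent hf hJ ha haU h2 hx
  have h4 : c * (c * (c * x * c⁻¹) * c⁻¹) * c⁻¹ = c * (c * c) * x * (c * (c * c))⁻¹ := by group
  rw [h4, h3]

theorem Rot.exists_mul [Finite G] (hf : Fused h) (hJ : J2 h) (ha : a ∈ h.E1)
    (haU : a ∉ h.U) (hr : Rot h a c) {x : G} (hx : x ∈ h.E1) :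
    ∃ u ∈ h.U, ∃ y ∈ Va h a, x = u * y := by
  set p := c * x * c⁻¹ with hp
  set q := c * p * c⁻¹ with hq
  have hpE := hr.na.nrm x hx
  have hqE := hr.na.nrm p hpE
  have hcq : c * q * c⁻¹ = x := hr.cube hf hJ ha haU hx
  have h1 : p * x⁻¹ ∈ h.U := hr.na.triv hf hJ ha haU hx
  have h2 : q * p⁻¹ ∈ h.U := hr.na.triv hf hJ ha haU hpE
  have inv_eq : ∀ y ∈ h.E1, y⁻¹ = y := fun y hy => inv_eq_of_mul_eq_one_left (BasicA.E1_sq h hy)
  have hyE : x * p * q ∈ h.E1 := h.E1.mul_mem (h.E1.mul_mem hx hpE) hqE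
  refine ⟨x * (x * p * q)⁻¹, ?_, x * p * q, ?_, by group⟩
  · rw [inv_eq _ hyE]
    have h3 : x * (x * p * q) = q * p⁻¹ := by
      rw [inv_eq p hpE, mul_assoc x p q, ← mul_assoc, BasicA.E1_sq h hx, one_mul,
        BasicA.E1_comm h hpE hqE]
    rw [h3]
    exact h2
  · rw [hr.mem_Va_iff hf hJ ha haU]
    refine ⟨hyE, ?_⟩
    rw [← mul_inv_eq_iff_eq_mul]
    have h3 : c * (x * p * q) * c⁻¹ = (c * x * c⁻¹) * (c * p * c⁻¹) * (c * q * c⁻¹) := by group
    rw [h3, ← hp, ← hq, hcq, BasicA.E1_comm h (h.E1.mul_mem hpE hqE) hx]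
    exact (mul_assoc x p q).symm

theorem Rot.card_Va [Finite G] (hf : Fused h) (hJ : J2 h) (ha : a ∈ h.E1)
    (haU : a ∉ h.U) (hr : Rot h a c) : Nat.card (Va h a) = 4 := by
  have h1 := Lib.ProductSet.card_mul_card_inf (Va h a) h.U
  rw [hr.inf_U hf hJ ha haU, card_bot, mul_one, BasicA.card_U] at h1
  have h2 : ((Va h a : Set G) * (h.U : Set G)) = (h.E1 : Set G) := by
    ext x
    rw [Set.mem_mul]
    constructor
    · rintro ⟨y, hy, u, hu, rfl⟩
      exact h.E1.mul_mem (Va_le hy) (BasicA.U_le_E1 h hu)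
    · intro hx
      obtain ⟨u, hu, y, hy, rfl⟩ := hr.exists_mul hf hJ ha haU hx
      exact ⟨y, hy, u, hu, BasicA.E1_comm h (Va_le hy) (BasicA.U_le_E1 h hu)⟩
  rw [h2] at h1
  have h3 : Nat.card (h.E1 : Set G) = 16 := BasicA.card_E1 h
  rw [h3] at h1
  omega

theorem not_mem_U_of_Va [Finite G] (hf : Fused h) (hJ : J2 h) (ha : a ∈ h.E1)
    (haU : a ∉ h.U) (hr : Rot h a c) {b : G} (hb : b ∈ Va h a) (hb1 : b ≠ 1) : b ∉ h.U := by
  intro hbU
  have : b ∈ (⊥ : Subgroup G) := (hr.inf_U hf hJ ha haU) ▸ ⟨hb, hbU⟩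
  exact hb1 (mem_bot.mp this)

/-- the line of another element of the line -/
theorem Rot.Va_eq [Finite G] (hf : Fused h) (hJ : J2 h) (ha : a ∈ h.E1)
    (haU : a ∉ h.U) (hr : Rot h a c) {b : G} (hb : b ∈ Va h a) (hb1 : b ≠ 1) :
    Va h b = Va h a := by
  have hbU := not_mem_U_of_Va hf hJ ha haU hr hb hb1
  have hbE := Va_le hb
  have hrb : Rot h b c := ⟨⟨((hr.mem_Va_iff hf hJ ha haU).mp hb).2, hr.na.nrm⟩, hr.z, hr.v⟩
  ext x
  rw [hr.mem_Va_iff hf hJ ha haU, hrb.mem_Va_iff hf hJ hbE hbU]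

/-- conjugation -/
theorem Va_conj [Finite G] {k x : G} (hk : Nrm h.E1 k) (hx : x ∈ Va h a) :
    k * x * k⁻¹ ∈ Va h (k * a * k⁻¹) := by
  rw [mem_Va] at hx ⊢
  refine ⟨hk x hx.1, ?_⟩
  intro n hn
  have h1 : Na h a (k⁻¹ * n * k) := by
    refine ⟨?_, ?_⟩
    · have := hn.comm
      calc k⁻¹ * n * k * a = k⁻¹ * (n * (k * a * k⁻¹)) * k := by group
        _ = k⁻¹ * ((k * a * k⁻¹) * n) * k := by rw [this]
        _ = a * (k⁻¹ * n * k) := by group
    · have h2 := (hk.inv.mul hn.nrm).mul hk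
      exact h2
  have h2 := hx.2 _ h1
  calc n * (k * x * k⁻¹) = k * ((k⁻¹ * n * k) * x) * k⁻¹ := by group
    _ = k * (x * (k⁻¹ * n * k)) * k⁻¹ := by rw [h2]
    _ = (k * x * k⁻¹) * n := by group

/-- the elements of the line are isolated in `C(a)`. -/
theorem Rot.iso [Finite G] (hf : Fused h) (hJ : J2 h) (ha : a ∈ h.E1)
    (haU : a ∉ h.U) {b g : G} (hb : b ∈ Va h a) (hg : g * a = a * g)
    (hgb : g * b * g⁻¹ ∈ h.E1) : g * b * g⁻¹ = b := by
  set y := g * b * g⁻¹ with hy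
  set D := centralizer ({a} : Set G) ⊓ centralizer ({y} : Set G) with hD
  have hED : h.E1 ≤ D := le_inf (E1_le_centralizer h ha) (by
    intro x hx
    rw [mem_centralizer_singleton_iff]
    exact BasicA.E1_comm h hx hgb)
  have hodd : Odd (h.E1.relIndex D) := by
    have h1 := odd_relIndex h hf hJ ha haU
    have h2 := relIndex_mul_relIndex h.E1 D (centralizer ({a} : Set G)) hED inf_le_left
    rw [← h2] at h1
    exact (Nat.odd_mul.mp h1).1
  have hEp : IsPGroup 2 h.E1 := BasicA.isPGroup_of_le h (BasicA.E1_le_S h)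
  obtain ⟨d, hdD, hd⟩ := exists_conj_le (h.E1.map (MulAut.conj g).toMonoidHom) D h.E1
    (hEp.map _) (by
      rintro _ ⟨x, hx, rfl⟩
      refine mem_inf.mpr ⟨?_, ?_⟩
      · rw [mem_centralizer_singleton_iff]
        change g * x * g⁻¹ * a = a * (g * x * g⁻¹)
        have h1 := BasicA.E1_comm h hx ha
        calc g * x * g⁻¹ * a = g * x * (g⁻¹ * a) := by group
          _ = g * x * (a * g⁻¹) := by
            rw [show g⁻¹ * a = a * g⁻¹ by
              rw [inv_mul_eq_iff_eq_mul, ← mul_assoc, hg, mul_inv_cancel_right]]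
          _ = g * (x * a) * g⁻¹ := by group
          _ = (g * a) * x * g⁻¹ := by rw [h1]; group
          _ = a * (g * x * g⁻¹) := by rw [hg]; group
      · rw [mem_centralizer_singleton_iff]
        change g * x * g⁻¹ * y = y * (g * x * g⁻¹)
        have h1 := BasicA.E1_comm h hx (Va_le hb)
        rw [hy]
        calc g * x * g⁻¹ * (g * b * g⁻¹) = g * (x * b) * g⁻¹ := by group
          _ = g * (b * x) * g⁻¹ := by rw [h1]
          _ = _ := by group) hodd
  have hda : d * a = a * d := mem_centralizer_singleton_iff.mp (mem_inf.mp hdD).1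
  have hdy : d * y = y * d := mem_centralizer_singleton_iff.mp (mem_inf.mp hdD).2
  have hn : Na h a (d * g) := by
    refine ⟨by rw [mul_assoc, hg, ← mul_assoc, hda, mul_assoc], ?_⟩
    intro x hx
    have h1 := hd (g * x * g⁻¹) ⟨x, hx, rfl⟩
    have h2 : d * g * x * (d * g)⁻¹ = d * (g * x * g⁻¹) * d⁻¹ := by group
    rw [h2]
    exact h1
  have h3 := (mem_Va.mp hb).2 _ hn
  have h4 : d * g * b * (d * g)⁻¹ = b := by rw [h3, mul_inv_cancel_right]
  have h5 : d * g * b * (d * g)⁻¹ = d * y * d⁻¹ := by rw [hy]; group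
  rw [h5, hdy, mul_inv_cancel_right] at h4
  exact h4

end Cfsg.Agent.J2Sylow.VaSub
end

-- part: J2Sylow/Twist
section
set_option autoImplicit false

/-! Automorphisms of the model group changing the lines, and the standard form of a set-up. -/

namespace Cfsg.Agent.J2Sylow.Twist

open Subgroup Model Model.F4 E1Fusion E1J2 VaSub

/-- the map `(a,b,c,s) ↦ (a,b,c + t (a^2+a) + t^2 (b^2+b), s)` -/
def alphaFun (t : F4) (x : T) : T :=
  ⟨x.a, x.b, x.c + (t * (x.a * x.a + x.a) + fr t * (x.b * x.b + x.b)), x.s⟩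

theorem alpha_mul (t : F4) (x y : T) : alphaFun t (x * y) = alphaFun t x * alphaFun t y := by
  obtain ⟨xa, xb, xc, xs⟩ := x
  obtain ⟨ya, yb, yc, ys⟩ := y
  cases xs <;> simp only [alphaFun, T.mul_false, T.mul_true, T.mk.injEq, fr_add, fr_mul, fr_fr,
    and_true, true_and]
  · linear_combination (t * xa * ya + fr t * xb * yb) * two_eq
  · linear_combination (t * xa * fr yb + fr t * xb * fr ya) * two_eq

theorem alpha_alpha : ∀ (t : F4) (x : T), alphaFun t (alphaFun t x) = x := by decide +kernel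

/-- the automorphism -/
def alpha (t : F4) : T ≃* T where
  toFun := alphaFun t
  invFun := alphaFun t
  left_inv := alpha_alpha t
  right_inv := alpha_alpha t
  map_mul' := alpha_mul t

theorem alpha_z : ∀ t : F4, alphaFun t T.z = T.z := by decide +kernel
theorem alpha_v : ∀ t : F4, alphaFun t T.v = T.v := by decide +kernel
theorem alpha_tau : ∀ t : F4, alphaFun t T.tau = T.tau := by decide +kernel
theorem alpha_U : ∀ (t : F4) (x : T), x ∈ T.U → alphaFun t x ∈ T.U := by decide +kernel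
theorem alpha_R : ∀ (t : F4) (x : T), x ∈ T.R → alphaFun t x ∈ T.R := by decide +kernel
theorem alpha_E1 : ∀ (t : F4) (x : T), x ∈ T.E1 → alphaFun t x ∈ T.E1 := by decide +kernel
theorem alpha_Q : ∀ (t : F4) (x : T), x ∈ T.Q → alphaFun t x ∈ T.Q := by decide +kernel

variable {G : Type*} [Group G] (h : Setup G)

/-- the twisted set-up -/
def twist (t : F4) : Setup G where
  φ := h.φ.comp (alpha t).toMonoidHom
  inj := h.inj.comp (alpha t).injective
  odd_index := by
    have h1 : (h.φ.comp (alpha t).toMonoidHom).range = h.φ.range := by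
      rw [MonoidHom.range_comp, MonoidHom.range_eq_top.mpr (alpha t).surjective,
        ← MonoidHom.range_eq_map]
    rw [h1]
    exact h.odd_index

theorem twist_φ (t : F4) (x : T) : (twist h t).φ x = h.φ (alphaFun t x) := rfl

theorem twist_z (t : F4) : (twist h t).z = h.z := by
  change h.φ (alphaFun t T.z) = _
  rw [alpha_z]; rfl

theorem twist_v (t : F4) : (twist h t).v = h.v := by
  change h.φ (alphaFun t T.v) = _
  rw [alpha_v]; rfl

theorem twist_tau (t : F4) : (twist h t).tau = h.tau := by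
  change h.φ (alphaFun t T.tau) = _
  rw [alpha_tau]; rfl

theorem twist_map (t : F4) (A : Subgroup T) (hA : ∀ x ∈ A, alphaFun t x ∈ A) :
    A.map (twist h t).φ = A.map h.φ := by
  ext y
  constructor
  · rintro ⟨x, hx, rfl⟩
    exact ⟨alphaFun t x, hA x hx, rfl⟩
  · rintro ⟨x, hx, rfl⟩
    refine ⟨alphaFun t x, hA x hx, ?_⟩
    rw [twist_φ, alpha_alpha]

theorem twist_U (t : F4) : (twist h t).U = h.U := twist_map h t _ (alpha_U t)
theorem twist_R (t : F4) : (twist h t).R = h.R := twist_map h t _ (alpha_R t)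
theorem twist_E1 (t : F4) : (twist h t).E1 = h.E1 := twist_map h t _ (alpha_E1 t)
theorem twist_Q (t : F4) : (twist h t).Q = h.Q := twist_map h t _ (alpha_Q t)

theorem twist_fused {h : Setup G} (hf : Fused h) (t : F4) : Fused (twist h t) := by
  refine ⟨?_, ?_⟩
  · rw [twist_R, twist_v, twist_z]
    exact hf.f1
  · rw [twist_Q, twist_z, twist_v, twist_tau]
    exact hf.f2

theorem twist_J2 {h : Setup G} (hJ : J2 h) (t : F4) : J2 (twist h t) := by
  unfold J2
  rw [twist_E1, twist_U, twist_z]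
  exact hJ

theorem twist_CZ0 {h : Setup G} (hc : CZ0 h) (t : F4) : CZ0 (twist h t) := by
  have key : ∀ (z' : G) (Q' : Subgroup G), z' = h.z → Q' = h.Q →
      ∃ _ : ((Q' ⊔ Cfsg.centralizerPPrimeCore 2 z').subgroupOf
        (centralizer ({z'} : Set G))).Normal,
      Nonempty (↥(centralizer ({z'} : Set G)) ⧸
        ((Q' ⊔ Cfsg.centralizerPPrimeCore 2 z').subgroupOf (centralizer ({z'} : Set G))) ≃*
        alternatingGroup (Fin 5)) := by
    rintro _ _ rfl rfl
    exact ⟨hc.normal, hc.quot⟩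
  obtain ⟨h1, h2⟩ := key _ _ (twist_z h t) (twist_Q h t)
  exact ⟨h1, h2⟩

/-! ### coordinates -/

variable {h}

theorem el_mul (x c x' c' : F4) : h.el x c * h.el x' c' = h.el (x + x') (c + c') := by
  change h.φ _ * h.φ _ = h.φ _
  rw [← map_mul]
  congr 1
  revert x c x' c'
  decide +kernel

theorem el_mem_E1 (x c : F4) : h.el x c ∈ h.E1 :=
  (BasicA.mem_map_iff h).mpr (by exact ⟨rfl, rfl⟩)

theorem exists_el {g : G} (hg : g ∈ h.E1) : ∃ x c : F4, g = h.el x c := by
  obtain ⟨⟨x, y, c, s⟩, ⟨h1, h2⟩, rfl⟩ := hg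
  change y = o at h1
  change s = false at h2
  subst h1
  subst h2
  exact ⟨x, c, rfl⟩

theorem el_mem_U {x c : F4} : h.el x c ∈ h.U ↔ x = o := by
  constructor
  · intro h1
    exact ((BasicA.mem_map_iff h).mp h1).1
  · rintro rfl
    exact (BasicA.mem_map_iff h).mpr ⟨rfl, rfl, rfl⟩

theorem el_z : h.el o e = h.z := rfl
theorem el_v : h.el o w = h.v := rfl
theorem el_vz : h.el o u = h.v * h.z := by
  rw [← el_z, ← el_v, el_mul]
  rfl
theorem el_one : h.el o o = 1 := map_one h.φ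
theorem el_a : h.el e o = h.a := rfl

theorem a_mem : h.a ∈ h.E1 := el_mem_E1 e o
theorem a_notMem : h.a ∉ h.U := by
  rw [← el_a, el_mem_U]
  decide

theorem el_inj {x c x' c' : F4} (hxc : h.el x c = h.el x' c') : x = x' ∧ c = c' := by
  have h1 := h.inj hxc
  have h2 := congrArg T.a h1
  have h3 := congrArg T.c h1
  exact ⟨h2, h3⟩

theorem F4_add_o : ∀ x : F4, x + o = x := by decide
theorem F4_o_add : ∀ x : F4, o + x = x := by decide
theorem F4_eq_of : ∀ x y : F4, o = x + y → y = x := by decide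
theorem F4_tw_o : ∀ s : F4, o + s * (o * o + o) = o := by decide
theorem F4_tw_e : ∀ s : F4, o + s * (e * e + e) = o := by decide
theorem F4_tw_w : ∀ s : F4, o + s * (w * w + w) = s := by decide
theorem F4_tw_u : ∀ s : F4, o + s * (u * u + u) = s := by decide
theorem F4_e_w : (e : F4) + w = u := by decide
theorem twist_el_aux : ∀ s x c : F4, alphaFun s ⟨x, o, c, false⟩ =
    ⟨x, o, c + s * (x * x + x), false⟩ := by decide

theorem twist_el (s x c : F4) : (twist h s).el x c = h.el x (c + s * (x * x + x)) := by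
  change h.φ (alphaFun s _) = h.φ _
  rw [twist_el_aux]

theorem twist_a (s : F4) : (twist h s).a = h.a := by
  change (twist h s).el e o = h.el e o
  rw [twist_el, F4_tw_e]

/-- the J2-hypothesis for one element -/
theorem J2_iff [Finite G] (hc : CZ0 h) : J2 h ↔ ¬ IsConj h.z h.a := by
  constructor
  · intro hJ
    exact hJ _ a_mem a_notMem
  · intro hn x hx hxU hxz
    obtain ⟨k, -, -, -, hk⟩ := trans_E1 h hc.normal hc.quot hx hxU a_mem a_notMem
    exact hn (hxz.trans (isConj_iff.mpr ⟨k, hk⟩))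

/-- under `Rot` the element `c` multiplies `U` by `w`. -/
theorem rot_U {a c : G} (hr : Rot h a c) (y : F4) : c * h.el o y * c⁻¹ = h.el o (w * y) := by
  cases y
  · change c * h.el o o * c⁻¹ = h.el o o
    rw [el_one]; group
  · exact hr.z
  · change c * h.v * c⁻¹ = h.el o u
    rw [el_vz]
    exact hr.v
  · change c * h.el o u * c⁻¹ = h.z
    rw [el_vz]
    exact hr.vz

/-- the element of `Std` -/
theorem rot_of_std {c : G} (h1 : ∀ x : F4, c * h.el x o * c⁻¹ = h.el x o)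
    (h2 : ∀ y : F4, c * h.el o y * c⁻¹ = h.el o (w * y)) : Rot h h.a c := by
  refine ⟨⟨?_, ?_⟩, ?_, ?_⟩
  · have := h1 e
    rwa [mul_inv_eq_iff_eq_mul] at this
  · intro g hg
    obtain ⟨x, y, rfl⟩ := exists_el hg
    have h3 : h.el x y = h.el x o * h.el o y := by
      rw [el_mul, F4_add_o, F4_o_add]
    have h4 : c * h.el x y * c⁻¹ = (c * h.el x o * c⁻¹) * (c * h.el o y * c⁻¹) := by
      rw [h3]; group
    rw [h4, h1, h2]
    exact h.E1.mul_mem (el_mem_E1 _ _) (el_mem_E1 _ _)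
  · exact h2 e
  · have := h2 w
    rw [show (w : F4) * w = u from rfl, el_vz] at this
    exact this

theorem el_mem_Va [Finite G] (hf : Fused h) (hJ : J2 h) (hs : Std h) (x : F4) :
    h.el x o ∈ Va h h.a := by
  obtain ⟨c, h1, h2⟩ := hs
  rw [(rot_of_std h1 h2).mem_Va_iff hf hJ a_mem a_notMem]
  refine ⟨el_mem_E1 _ _, ?_⟩
  have := h1 x
  rwa [mul_inv_eq_iff_eq_mul] at this

theorem std_of_rot [Finite G] (hf : Fused h) (hJ : J2 h) {c : G} (hr : Rot h h.a c)
    (hV : ∀ x : F4, h.el x o ∈ Va h h.a) : Std h := by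
  refine ⟨c, fun x => ?_, rot_U hr⟩
  have := ((hr.mem_Va_iff hf hJ a_mem a_notMem).mp (hV x)).2
  rw [this, mul_inv_cancel_right]

/-- every set-up can be twisted to a standard one. -/
theorem exists_std [Finite G] (hf : Fused h) (hJ : J2 h) (hc : CZ0 h) :
    ∃ t : F4, Std (twist h t) := by
  obtain ⟨c, hr⟩ := exists_rot hf hJ hc (a := h.a) a_mem a_notMem
  obtain ⟨u', hu, y, hy, huy⟩ := hr.exists_mul hf hJ a_mem a_notMem (x := h.el w o)
    (el_mem_E1 _ _)
  obtain ⟨x1, s, rfl⟩ := exists_el (BasicA.U_le_E1 h hu)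
  have hx1 := el_mem_U.mp hu
  subst hx1
  obtain ⟨x2, s2, rfl⟩ := exists_el (Va_le hy)
  rw [el_mul] at huy
  obtain ⟨h1, h2⟩ := el_inj huy
  rw [F4_o_add] at h1
  have hs2 : s2 = s := F4_eq_of _ _ h2
  subst h1 hs2
  refine ⟨s2, ?_⟩
  have hr' : Rot (twist h s2) (twist h s2).a c := by
    refine ⟨⟨?_, ?_⟩, ?_, ?_⟩
    · rw [twist_a]; exact hr.na.comm
    · rw [twist_E1]; exact hr.na.nrm
    · rw [twist_z, twist_v]; exact hr.z
    · rw [twist_z, twist_v]; exact hr.v
  apply std_of_rot (twist_fused hf s2) (twist_J2 hJ s2) hr'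
  intro x
  rw [hr'.mem_Va_iff (twist_fused hf s2) (twist_J2 hJ s2) a_mem a_notMem]
  refine ⟨el_mem_E1 _ _, ?_⟩
  have hca : c * h.el e o = h.el e o * c := hr.na.comm
  have hcw : c * h.el w s2 = h.el w s2 * c :=
    ((hr.mem_Va_iff hf hJ a_mem a_notMem).mp hy).2
  have hcu : c * h.el u s2 = h.el u s2 * c := by
    have h3 : h.el u s2 = h.el e o * h.el w s2 := by
      rw [el_mul, F4_o_add, F4_e_w]
    rw [h3, ← mul_assoc, hca, mul_assoc, hcw, mul_assoc]
  rw [twist_el]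
  cases x
  · rw [F4_tw_o, el_one, mul_one, one_mul]
  · rw [F4_tw_e]
    exact hca
  · rw [F4_tw_w]
    exact hcw
  · rw [F4_tw_u]
    exact hcu

end Cfsg.Agent.J2Sylow.Twist
end

-- part: J2Sylow/KleinFusion
section
/-!
# Groups with a Sylow 2-subgroup of order 4 with all involutions fused

`Y` finite, `O(Y) = 1`, `U` a Sylow 2-subgroup of order 4, `c` normalising `U` and moving every
nontrivial element of `U`.  Then `Y` is `U:3` or has a normal perfect subgroup `L` containing `U`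
with trivial centraliser.
-/

set_option autoImplicit false

namespace Cfsg.Agent.J2Sylow.KleinFusion

open Subgroup Cfsg Cfsg.Agent.Lib
open scoped commutatorElement

variable {Y : Type*} [Group Y] [Finite Y]

/-- a `c`-invariant nontrivial subgroup of `U` is `U`. -/
theorem eq_of_le {U N : Subgroup Y} (hU : Nat.card U = 4) (c : Y)
    (hc' : ∀ u ∈ U, c * u * c⁻¹ = u → u = 1) (hN : N ≤ U) (hN0 : N ≠ ⊥)
    (hNc : ∀ u ∈ N, c * u * c⁻¹ ∈ N) : N = U := by
  obtain ⟨u, huN, hu1⟩ := N.bot_or_exists_ne_one.resolve_left hN0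
  have h1 := hNc u huN
  have h2 : c * u * c⁻¹ ≠ u := fun h => hu1 (hc' u (hN huN) h)
  have h3 : c * u * c⁻¹ ≠ 1 := fun h => hu1 (by
    have : u = c⁻¹ * (c * u * c⁻¹) * c := by group
    rw [this, h]; group)
  have h4 : 3 ≤ Nat.card N := by
    have h5 : ({1, u, c * u * c⁻¹} : Set Y) ⊆ (N : Set Y) := by
      rintro x (rfl | rfl | rfl)
      · exact N.one_mem
      · exact huN
      · exact h1
    have h6 : ({1, u, c * u * c⁻¹} : Set Y).ncard = 3 := by
      rw [Set.ncard_eq_three]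
      exact ⟨1, u, c * u * c⁻¹, hu1.symm, h3.symm, h2.symm, rfl⟩
    have h7 := Set.ncard_le_ncard h5 (Set.toFinite _)
    rw [h6] at h7
    exact h7
  have h5 : Nat.card N ∣ 4 := hU ▸ Subgroup.card_dvd_of_le hN
  have h6 : Nat.card N = 4 := by
    have := Nat.le_of_dvd (by norm_num) h5
    interval_cases h : Nat.card N
    · norm_num at h5
    · rfl
  exact Subgroup.eq_of_le_of_card_ge hN (by rw [hU, h6])

omit [Finite Y] in
theorem conj_mul_comm_of_card_four {U : Subgroup Y} (hU : Nat.card U = 4) {x y : Y} (hx : x ∈ U)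
    (hy : y ∈ U) : x * y = y * x := by
  have : Fact (Nat.Prime 2) := ⟨Nat.prime_two⟩
  have h := IsPGroup.isMulCommutative_of_card_eq_prime_sq (p := 2) (G := U) (by rw [hU]; rfl)
  exact congrArg Subtype.val (h.is_comm.comm (⟨x, hx⟩ : U) ⟨y, hy⟩)

/-- if a Sylow subgroup `U` is abelian and normal and `O_{p'}(Y) = 1` then `C(U) = U`. -/
theorem centralizer_eq {U : Sylow 2 Y} (hcomm : ∀ x ∈ U, ∀ y ∈ U, x * y = y * x)
    (hn : (U : Subgroup Y).Normal) (hO : pPrimeCore 2 Y = ⊥) :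
    centralizer ((U : Subgroup Y) : Set Y) = U := by
  have : Fact (Nat.Prime 2) := ⟨Nat.prime_two⟩
  have hle : (U : Subgroup Y) ≤ centralizer ((U : Subgroup Y) : Set Y) := by
    intro x hx
    rw [mem_centralizer_iff]
    intro y hy
    exact hcomm y hy x hx
  set C := centralizer ((U : Subgroup Y) : Set Y) with hC
  have hCn : C.Normal := by
    rw [hC]
    infer_instance
  let P : Sylow 2 C := U.subtype hle
  have hPmem : ∀ x : C, x ∈ P ↔ (x : Y) ∈ U := fun x => Iff.rfl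
  have hP : normalizer ((P : Subgroup C) : Set C) ≤ centralizer ((P : Subgroup C) : Set C) := by
    intro x _
    rw [mem_centralizer_iff]
    intro y hy
    apply Subtype.ext
    have h1 : (x : Y) ∈ centralizer ((U : Subgroup Y) : Set Y) := x.2
    rw [mem_centralizer_iff] at h1
    exact h1 y ((hPmem y).mp hy)
  have hcompl := MonoidHom.ker_transferSylow_isComplement' P hP
  set K := (MonoidHom.transferSylow P hP).ker with hK
  have hKcop : (Nat.card K).Coprime 2 := by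
    have h2 : ¬ 2 ∣ (P : Subgroup C).index := P.not_dvd_index
    rw [hcompl.index_eq_card] at h2
    exact (Nat.Prime.coprime_iff_not_dvd Nat.prime_two).mpr h2 |>.symm
  have hKO : K ≤ pPrimeCore 2 C := Cores.le_pPrimeCore inferInstance hKcop
  have h3 := Cores.map_subtype_pPrimeCore 2 hCn
  rw [hO, inf_bot_eq, Subgroup.map_eq_bot_iff_of_injective _ C.subtype_injective] at h3
  rw [h3, le_bot_iff] at hKO
  rw [hKO, Subgroup.isComplement'_bot_left] at hcompl
  apply le_antisymm _ hle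
  intro x hx
  have h4 : (⟨x, hx⟩ : C) ∈ (P : Subgroup C) := by rw [hcompl]; trivial
  exact h4

theorem card_eq_twelve {U : Subgroup Y} (hU : Nat.card U = 4) (hodd : Odd U.index)
    (hn : U.Normal) (hC : centralizer (U : Set Y) = U) (c : Y)
    (hc' : ∀ u ∈ U, c * u * c⁻¹ = u → u = 1) : Nat.card Y = 12 := by
  classical
  -- action on the three nontrivial elements
  let Ω : Type _ := {u : Y // u ∈ U ∧ u ≠ 1}
  have hΩ : Nat.card Ω = 3 := by
    have h1 : Nat.card Ω = ((U : Set Y) \ {1}).ncard := by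
      rw [← Nat.card_coe_set_eq]
      rfl
    rw [h1, Set.ncard_sdiff_singleton_of_mem U.one_mem, ← Nat.card_coe_set_eq]
    change Nat.card U - 1 = 3
    rw [hU]
  let act : Y →* Equiv.Perm Ω :=
    { toFun := fun g =>
        { toFun := fun u => ⟨g * u.1 * g⁻¹, hn.conj_mem _ u.2.1 g, fun h => u.2.2 (by
            have : u.1 = g⁻¹ * (g * u.1 * g⁻¹) * g := by group
            rw [this, h]; group)⟩
          invFun := fun u => ⟨g⁻¹ * u.1 * g, by
              have := hn.conj_mem _ u.2.1 g⁻¹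
              rwa [inv_inv] at this, fun h => u.2.2 (by
            have : u.1 = g * (g⁻¹ * u.1 * g) * g⁻¹ := by group
            rw [this, h]; group)⟩
          left_inv := fun u => Subtype.ext (by simp only; group)
          right_inv := fun u => Subtype.ext (by simp only; group) }
      map_one' := by
        ext u
        simp
      map_mul' := fun g h => by
        ext u
        simp only [Equiv.coe_fn_mk, Equiv.Perm.coe_mul, Function.comp_apply]
        group }
  have hact : ∀ g (u : Ω), (act g u : Y) = g * u.1 * g⁻¹ := fun g u => rfl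
  have hker : act.ker = U := by
    rw [← hC]
    ext g
    rw [MonoidHom.mem_ker, mem_centralizer_iff]
    constructor
    · intro h u hu
      by_cases hu1 : u = 1
      · rw [hu1, one_mul, mul_one]
      · have h1 := hact g ⟨u, hu, hu1⟩
        rw [h, Equiv.Perm.coe_one, id] at h1
        change u = g * u * g⁻¹ at h1
        rw [eq_mul_inv_iff_mul_eq] at h1
        exact h1
    · intro h
      ext u
      rw [hact, Equiv.Perm.coe_one, id, ← h u.1 u.2.1, mul_inv_cancel_right]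
  have h1 : U.index ∣ 6 := by
    rw [← hker, Subgroup.index_ker]
    have h2 : Nat.card (Equiv.Perm Ω) = 6 := by
      rw [Nat.card_perm, hΩ]
      rfl
    rw [← h2]
    exact Subgroup.card_subgroup_dvd_card _
  have h2 : U.index ≠ 1 := by
    intro h
    rw [Subgroup.index_eq_one] at h
    obtain ⟨u, hu⟩ : Nonempty Ω := by
      rw [← not_isEmpty_iff]
      intro h
      rw [Nat.card_of_isEmpty] at hΩ
      omega
    have hcU : c ∈ U := by rw [h]; trivial
    exact hu.2 (hc' u hu.1 (by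
      rw [conj_mul_comm_of_card_four hU hcU hu.1, mul_inv_cancel_right]))
  have h3 : U.index = 3 := by
    have := Nat.le_of_dvd (by norm_num) h1
    interval_cases h : U.index
    · exact absurd hodd (by decide)
    · exact absurd rfl h2
    · exact absurd hodd (by decide)
    · rfl
    · norm_num at h1
    · norm_num at h1
    · exact absurd hodd (by decide)
  rw [← Subgroup.card_mul_index U, hU, h3]

/-- the main structure theorem -/
theorem klein_fusion (U : Sylow 2 Y) (hU : Nat.card U = 4) (c : Y)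
    (hc : ∀ u ∈ U, c * u * c⁻¹ ∈ U) (hc' : ∀ u ∈ U, c * u * c⁻¹ = u → u = 1)
    (hO : pPrimeCore 2 Y = ⊥) :
    ((U : Subgroup Y).Normal ∧ Nat.card Y = 12 ∧
      centralizer ((U : Subgroup Y) : Set Y) = U) ∨
    ∃ L : Subgroup Y, L.Normal ∧ ⁅L, L⁆ = L ∧ (U : Subgroup Y) ≤ L ∧
      centralizer (L : Set Y) = ⊥ ∧
      (∀ M : Subgroup Y, M.Normal → M ≤ L → M = ⊥ ∨ M = L) := by
  have : Fact (Nat.Prime 2) := ⟨Nat.prime_two⟩
  have hU0 : (U : Subgroup Y) ≠ ⊥ := by
    intro h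
    have h1 : Nat.card (U : Subgroup Y) = 1 := by rw [h]; exact Subgroup.card_bot
    change Nat.card (U : Subgroup Y) = 4 at hU
    omega
  have htop : (⊤ : Subgroup Y) ≠ ⊥ := fun h => hU0 (le_bot_iff.mp (h ▸ le_top))
  obtain ⟨N, -, hN0, hNn, hmin⟩ := MinNormal.exists_minimal_normal_le (⊤ : Subgroup Y) htop
  have hNnorm : N.Normal := by
    rw [← Subgroup.normalizer_eq_top_iff]
    exact top_le_iff.mp hNn
  have hmin' : ∀ M : Subgroup Y, M.Normal → M ≤ N → M = ⊥ ∨ M = N := by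
    intro M hM hMN
    exact hmin M hMN (by rw [Subgroup.normalizer_eq_top_iff.mpr hM])
  -- `N` has even order
  have heven : ¬ (Nat.card N).Coprime 2 := by
    intro h
    have := Cores.le_pPrimeCore hNnorm h
    rw [hO, le_bot_iff] at this
    exact hN0 this
  have hUN : (U : Subgroup Y) ⊓ N ≠ ⊥ := by
    intro h
    have h1 := SylowNormalInf.not_dvd_relIndex U N
    have h2 := SylowNormalInf.card_inf_mul_relIndex (U : Subgroup Y) N
    rw [h, Subgroup.card_bot, one_mul] at h2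
    rw [h2] at h1
    exact heven ((Nat.Prime.coprime_iff_not_dvd Nat.prime_two).mpr h1).symm
  have hUle : (U : Subgroup Y) ≤ N := by
    have h1 := eq_of_le (U := (U : Subgroup Y)) (N := (U : Subgroup Y) ⊓ N) hU c hc' inf_le_left hUN
      (fun u hu => ⟨hc u hu.1, hNnorm.conj_mem u hu.2 c⟩)
    rw [← h1]
    exact inf_le_right
  by_cases hab : ∀ x ∈ N, ∀ y ∈ N, Commute x y
  · left
    obtain ⟨p, hp, hpg, -⟩ := MinNormalNonabelian.abelian_structure N hN0 hmin' hab
    have hp2 : p = 2 := by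
      by_contra hne
      have : Fact p.Prime := ⟨hp⟩
      obtain ⟨k, hk⟩ := IsPGroup.iff_card.mp hpg
      apply heven
      rw [hk]
      exact Nat.Coprime.pow_left k ((Nat.coprime_primes hp Nat.prime_two).mpr hne)
    subst hp2
    have hNU : N ≤ (U : Subgroup Y) := (Cores.le_pCore hNnorm hpg).trans (Cores.pCore_le_sylow U)
    have hUn : (U : Subgroup Y).Normal := by
      rw [le_antisymm hUle hNU]
      exact hNnorm
    have hCC := centralizer_eq (fun x hx y hy =>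
      conj_mul_comm_of_card_four (U := (U : Subgroup Y)) hU hx hy) hUn hO
    refine ⟨hUn, ?_, hCC⟩
    refine card_eq_twelve (U := (U : Subgroup Y)) hU ?_ hUn hCC c hc'
    exact Nat.not_even_iff_odd.mp fun h => U.not_dvd_index (even_iff_two_dvd.mp h)
  · right
    have hcomm : ⁅N, N⁆ = N := by
      rcases hmin' ⁅N, N⁆ inferInstance (Subgroup.commutator_le_right N N) with h | h
      · exfalso
        apply hab
        intro x hx y hy
        have h1 : ⁅x, y⁆ ∈ ⁅N, N⁆ := Subgroup.commutator_mem_commutator hx hy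
        rw [h, Subgroup.mem_bot, commutatorElement_eq_one_iff_mul_comm] at h1
        exact h1
      · exact h
    have hZ : centralizer (N : Set Y) ⊓ N = ⊥ := by
      rcases hmin' (centralizer (N : Set Y) ⊓ N) inferInstance inf_le_right with h | h
      · exact h
      · exfalso
        apply hab
        intro x hx y hy
        rw [← h] at hx
        exact (mem_centralizer_iff.mp hx.1 y hy).symm
    refine ⟨N, hNnorm, hcomm, hUle, ?_, hmin'⟩
    have hcop : (Nat.card (centralizer (N : Set Y))).Coprime 2 := by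
      apply Nat.Coprime.symm
      rw [Nat.Prime.coprime_iff_not_dvd Nat.prime_two]
      intro h
      have h1 := SylowNormalInf.card_inf_mul_relIndex N (centralizer (N : Set Y))
      rw [inf_comm, hZ, Subgroup.card_bot, one_mul] at h1
      rw [← h1] at h
      have h2 : N.relIndex (centralizer (N : Set Y)) ∣ N.index :=
        Subgroup.relIndex_dvd_index_of_normal N _
      exact U.not_dvd_index ((h.trans h2).trans (Subgroup.index_dvd_of_le hUle))
    have h1 := Cores.le_pPrimeCore (G := Y) (p := 2)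
      (N := centralizer (N : Set Y)) inferInstance hcop
    rw [hO, le_bot_iff] at h1
    exact h1

end Cfsg.Agent.J2Sylow.KleinFusion
end

-- part: J2Sylow/CentAbs
section
set_option autoImplicit false

/-!
# Abstract structure of `C(a)`

`C` finite with elementary abelian Sylow 2-subgroup `A = V × U`, `|U| = 4`, the elements of `V`
isolated and an element `c` moving the involutions of `U`.  Structure of `C/O(C)`.
-/

namespace Cfsg.Agent.J2Sylow.CentAbs

open Subgroup Cfsg Cfsg.Agent.Lib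
open scoped commutatorElement

/-- The hypotheses. -/
structure Hyp {C : Type*} [Group C] (A V U : Subgroup C) : Prop where
  sq : ∀ x ∈ A, x * x = 1
  odd : Odd A.index
  cardU : Nat.card U = 4
  VA : V ≤ A
  UA : U ≤ A
  inf : V ⊓ U = ⊥
  sup : ∀ x ∈ A, ∃ u ∈ U, ∃ v ∈ V, x = u * v
  iso : ∀ v ∈ V, ∀ g : C, g * v * g⁻¹ ∈ A → g * v * g⁻¹ = v
  c : ∃ c : C, (∀ u ∈ U, c * u * c⁻¹ ∈ U) ∧ (∀ u ∈ U, c * u * c⁻¹ = u → u = 1)

/-- The conclusion for `W = C/O(C)`, with `V` and `U` the images. -/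
structure Concl {W : Type*} [Group W] (V U X L : Subgroup W) : Prop where
  central : ∀ v ∈ V, ∀ w : W, v * w = w * v
  Xnormal : X.Normal
  Lnormal : L.Normal
  inf : V ⊓ X = ⊥
  sup : V ⊔ X = ⊤
  le : L ≤ X
  Ule : U ≤ L
  cardU : Nat.card U = 4
  sqU : ∀ x ∈ U, x * x = 1
  oddU : Odd (U.relIndex X)
  cent : centralizer (L : Set W) ⊓ X = ⊥
  conj : ∃ c ∈ X, (∀ u ∈ U, c * u * c⁻¹ ∈ U) ∧ (∀ u ∈ U, c * u * c⁻¹ = u → u = 1)
  type : (L = X ∧ Nat.card L = 12 ∧ U.Normal ∧ centralizer (U : Set W) ⊓ X = U) ∨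
    (⁅L, L⁆ = L ∧ ∀ M : Subgroup W, M.Normal → M ≤ L → M = ⊥ ∨ M = L)

section cyc

variable {C : Type*} [Group C] [Finite C]

omit [Finite C] in
theorem comm_of_sq {A : Subgroup C} (hsq : ∀ x ∈ A, x * x = 1) {x y : C} (hx : x ∈ A)
    (hy : y ∈ A) : x * y = y * x := by
  have hi : ∀ z ∈ A, z⁻¹ = z := fun z hz => inv_eq_of_mul_eq_one_left (hsq z hz)
  have h1 := hi _ (A.mul_mem hx hy)
  rw [mul_inv_rev, hi x hx, hi y hy] at h1
  exact h1.symm

/-- `c` acts on `U` as a three-cycle. -/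
theorem eq_mul {U : Subgroup C} (hU : Nat.card U = 4) (hsq : ∀ x ∈ U, x * x = 1) {c : C}
    (hc : ∀ u ∈ U, c * u * c⁻¹ ∈ U) (hc' : ∀ u ∈ U, c * u * c⁻¹ = u → u = 1) {u : C}
    (hu : u ∈ U) : u = (c * u * c⁻¹) * (c * (c * u * c⁻¹) * c⁻¹) := by
  by_cases hu1 : u = 1
  · rw [hu1]; group
  set p := c * u * c⁻¹ with hp
  set q := c * p * c⁻¹ with hq
  have hpU := hc u hu
  have hqU := hc p hpU
  have hp1 : p ≠ 1 := fun e => hu1 (by
    have : u = c⁻¹ * p * c := by rw [hp]; group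
    rw [this, e]; group)
  have hq1 : q ≠ 1 := fun e => hp1 (by
    have : p = c⁻¹ * q * c := by rw [hq]; group
    rw [this, e]; group)
  have hpu : p ≠ u := fun e => hu1 (hc' u hu e)
  have hqp : q ≠ p := fun e => hp1 (hc' p hpU e)
  have hqu : q ≠ u := by
    intro e
    have h1 : c * (u * p) * c⁻¹ = u * p := by
      have : c * (u * p) * c⁻¹ = (c * u * c⁻¹) * (c * p * c⁻¹) := by group
      rw [this, ← hp, ← hq, e]
      exact comm_of_sq hsq hpU hu
    have h2 := hc' _ (U.mul_mem hu hpU) h1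
    have h3 : p = u := by
      have := eq_inv_of_mul_eq_one_left h2
      rw [this]
      exact (inv_eq_of_mul_eq_one_left (hsq p hpU)).symm
    exact hpu h3
  -- U = {1,u,p,q} = {1,u,p,up}
  have hup1 : u * p ≠ 1 := fun e => hpu (by
    have := eq_inv_of_mul_eq_one_left e
    rw [this]
    exact (inv_eq_of_mul_eq_one_left (hsq p hpU)).symm)
  have hupu : u * p ≠ u := fun e => hp1 (mul_eq_left.mp e)
  have hupp : u * p ≠ p := fun e => hu1 (mul_eq_right.mp e)
  have hfour : q = u * p := by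
    by_contra hne
    have h5 : ({1, u, p, q, u * p} : Set C) ⊆ (U : Set C) := by
      rintro y (rfl | rfl | rfl | rfl | rfl)
      · exact U.one_mem
      · exact hu
      · exact hpU
      · exact hqU
      · exact U.mul_mem hu hpU
    have h6 : ({1, u, p, q, u * p} : Set C).ncard = 5 := by
      rw [Set.ncard_insert_of_notMem, Set.ncard_insert_of_notMem, Set.ncard_eq_three.mpr
        ⟨p, q, u * p, hqp.symm, fun e => hupp e.symm, hne, rfl⟩]
      · rintro (e | e | e)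
        · exact hpu e.symm
        · exact hqu e.symm
        · exact hupu e.symm
      · rintro (e | e | e | e)
        · exact hu1 e.symm
        · exact hp1 e.symm
        · exact hq1 e.symm
        · exact hup1 e.symm
    have h7 := Set.ncard_le_ncard h5 (Set.toFinite _)
    rw [h6] at h7
    have h8 : (U : Set C).ncard = 4 := hU
    omega
  rw [hfour, comm_of_sq hsq hu hpU, ← mul_assoc, hsq p hpU, one_mul]

end cyc

variable {C : Type*} [Group C] [Finite C] {A V U : Subgroup C}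

/-- Glauberman's theorem for isolated elements. -/
theorem commutator_mem (hH : Hyp A V U) {v : C} (hv : v ∈ V) (g : C) :
    v * g * v⁻¹ * g⁻¹ ∈ pPrimeCore 2 C := by
  have : Fact (Nat.Prime 2) := ⟨Nat.prime_two⟩
  by_cases hv1 : v = 1
  · rw [hv1, one_mul, inv_one, mul_one, mul_inv_cancel]
    exact one_mem _
  have hAp : IsPGroup 2 A := by
    intro x
    exact ⟨1, by rw [pow_one, pow_two]; exact Subtype.ext (hH.sq x x.2)⟩
  have hAi : ¬ 2 ∣ A.index := fun h => (Nat.not_even_iff_odd.mpr hH.odd) (even_iff_two_dvd.mpr h)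
  obtain ⟨N, hN, hNodd, hNc⟩ := S0215.result (hAp.toSylow hAi) v
    (orderOf_eq_prime (by rw [pow_two, hH.sq v (hH.VA hv)]) hv1) (hH.VA hv)
    (fun g hg => hH.iso v hv g hg)
  exact Cores.le_pPrimeCore hN (Nat.coprime_two_right.mpr hNodd) (hNc g)

/-- structure of `C/O(C)`. -/
theorem main (hH : Hyp A V U) : ∃ X L : Subgroup (C ⧸ pPrimeCore 2 C),
    haveI := Cores.pPrimeCore_normal (G := C) 2
    Concl (V.map (QuotientGroup.mk' (pPrimeCore 2 C))) (U.map (QuotientGroup.mk' (pPrimeCore 2 C)))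
      X L := by
  have : Fact (Nat.Prime 2) := ⟨Nat.prime_two⟩
  have hOn := Cores.pPrimeCore_normal (G := C) 2
  set O := pPrimeCore 2 C with hO
  set π := QuotientGroup.mk' O with hπ
  have hπs : Function.Surjective π := QuotientGroup.mk'_surjective O
  have hOcop := Cores.pPrimeCore_coprime (G := C) 2
  have hAp : IsPGroup 2 A := by
    intro x
    exact ⟨1, by rw [pow_one, pow_two]; exact Subtype.ext (hH.sq x x.2)⟩
  have hAO : A ⊓ O = ⊥ := by
    apply Disjoint.eq_bot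
    apply disjoint_of_coprime_natCard
    obtain ⟨k, hk⟩ := IsPGroup.iff_card.mp hAp
    rw [hk]
    exact (Nat.Coprime.pow_right k hOcop).symm
  have hinj : ∀ x ∈ A, ∀ y ∈ A, π x = π y → x = y := by
    intro x hx y hy hxy
    have h1 : y⁻¹ * x ∈ O := by
      rw [← QuotientGroup.eq_one_iff, ← QuotientGroup.mk'_apply, map_mul, map_inv]
      change (π y)⁻¹ * π x = 1
      rw [hxy, inv_mul_cancel]
    have h2 : y⁻¹ * x ∈ (⊥ : Subgroup C) := by
      rw [← hAO]
      exact ⟨A.mul_mem (A.inv_mem hy) hx, h1⟩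
    rw [mem_bot, inv_mul_eq_one] at h2
    exact h2.symm
  set A' := A.map π with hA'
  set V' := V.map π with hV'
  set U' := U.map π with hU'
  have hcardmap : ∀ B : Subgroup C, B ≤ A → Nat.card (B.map π) = Nat.card B := by
    intro B hB
    refine (Nat.card_congr (Equiv.ofBijective (fun b : B => (⟨π b, b, b.2, rfl⟩ : B.map π))
      ⟨?_, ?_⟩)).symm
    · intro x y hxy
      exact Subtype.ext (hinj x (hB x.2) y (hB y.2) (congrArg Subtype.val hxy))
    · rintro ⟨_, b, hb, rfl⟩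
      exact ⟨⟨b, hb⟩, rfl⟩
  have hcentral : ∀ v ∈ V', ∀ w : C ⧸ O, v * w = w * v := by
    rintro _ ⟨v, hv, rfl⟩ w
    obtain ⟨g, rfl⟩ := hπs w
    have h1 := commutator_mem hH hv g
    rw [← hO, ← QuotientGroup.eq_one_iff, ← QuotientGroup.mk'_apply] at h1
    change π _ = 1 at h1
    rw [map_mul, map_mul, map_mul, map_inv, map_inv, mul_inv_eq_one, mul_inv_eq_iff_eq_mul] at h1
    exact h1
  have hA'sq : ∀ x ∈ A', x * x = 1 := by
    rintro _ ⟨x, hx, rfl⟩
    rw [← map_mul, hH.sq x hx, map_one]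
  have hA'odd : Odd A'.index := by
    have h1 : A'.index ∣ A.index := A.index_map_dvd hπs
    exact Odd.of_dvd_nat hH.odd h1
  have hV'A' : V' ≤ A' := map_mono hH.VA
  have hU'A' : U' ≤ A' := map_mono hH.UA
  have hV'U' : V' ⊓ U' = ⊥ := by
    rw [eq_bot_iff]
    rintro _ ⟨⟨v, hv, rfl⟩, u, hu, huv⟩
    have h1 := hinj u (hH.UA hu) v (hH.VA hv) huv
    subst h1
    have h2 : u ∈ (⊥ : Subgroup C) := hH.inf ▸ ⟨hv, hu⟩
    rw [mem_bot] at h2
    rw [h2, map_one]
    exact one_mem _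
  obtain ⟨c, hc, hc'⟩ := hH.c
  have hUsq : ∀ x ∈ U, x * x = 1 := fun x hx => hH.sq x (hH.UA hx)
  have hUeq : ∀ x ∈ U', ∃ g k : C ⧸ O, x = (g * x * g⁻¹) * (k * x * k⁻¹) := by
    rintro _ ⟨u, hu, rfl⟩
    refine ⟨π c, π (c * c), ?_⟩
    have h1 := eq_mul hH.cardU hUsq hc hc' hu
    conv_lhs => rw [h1]
    simp only [map_mul, map_inv]
    group
  have hEUV : ∀ e ∈ A', ∃ a ∈ U', ∃ b ∈ V', e = a * b := by
    rintro _ ⟨x, hx, rfl⟩
    obtain ⟨u, hu, v, hv, rfl⟩ := hH.sup x hx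
    exact ⟨π u, ⟨u, hu, rfl⟩, π v, ⟨v, hv, rfl⟩, map_mul _ _ _⟩
  obtain ⟨X, hXn, hXA, hXi, -, -⟩ := J2Type.TransferAb.exists_normal A' V' U' hA'sq hA'odd hV'A'
    (fun v hv g _ => by
      rw [mul_assoc, hcentral v hv g, ← mul_assoc, inv_mul_cancel, one_mul]) hUeq hEUV
  have hUX : U' ≤ X := fun x hx => (hXA x (hU'A' hx)).mpr hx
  have hVX : V' ⊓ X = ⊥ := by
    rw [eq_bot_iff]
    intro x hx
    rw [← hV'U']
    exact ⟨hx.1, (hXA x (hV'A' hx.1)).mp hx.2⟩
  have hVn : V'.Normal := ⟨fun v hv g => by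
    rw [← hcentral v hv g, mul_inv_cancel_right]; exact hv⟩
  have hVXtop : V' ⊔ X = ⊤ := by
    have h2 := SylowNormalInf.card_inf_mul_relIndex X V'
    rw [inf_comm, hVX, card_bot, one_mul] at h2
    have h4 : X.relIndex (X ⊔ V') = X.relIndex V' :=
      SylowNormalInf.relIndex_sup_of_normal X V'
    have h5 : X.relIndex (X ⊔ V') * (X ⊔ V').index = X.index := relIndex_mul_index le_sup_left
    rw [h4, h2, hXi] at h5
    have h6 : (X ⊔ V').index = 1 :=
      Nat.eq_of_mul_eq_mul_left (Nat.card_pos (α := V')) (by rw [h5, mul_one])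
    rw [sup_comm]
    exact index_eq_one.mp h6
  have hX1 : ∀ w : C ⧸ O, ∃ v ∈ V', ∃ x ∈ X, w = v * x := by
    intro w
    exact CentAux.exists_mul_of_mem_sup (fun a _ k hk => hXn.conj_mem k hk a)
      (by rw [hVXtop]; exact mem_top w)
  -- odd index of U' in X
  have hUXodd : Odd (U'.relIndex X) := by
    have h1 : U' = A' ⊓ X := by
      apply le_antisymm (le_inf hU'A' hUX)
      intro x hx
      exact (hXA x hx.1).mp hx.2
    rw [h1, inf_relIndex_right, ← SylowNormalInf.relIndex_sup_of_normal]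
    exact Odd.of_dvd_nat hA'odd (relIndex_dvd_index_of_le le_sup_left)
  -- klein_fusion for X
  have hcardU' : Nat.card U' = 4 := (hcardmap U hH.UA).trans hH.cardU
  have hcardUX : Nat.card (U'.subgroupOf X) = 4 := by
    rw [← hcardU']
    exact Nat.card_congr (subgroupOfEquivOfLe hUX).toEquiv
  have hUXp : IsPGroup 2 (U'.subgroupOf X) := IsPGroup.of_card (n := 2) (by
    rw [hcardUX]; norm_num)
  have hUXi : ¬ 2 ∣ (U'.subgroupOf X).index := fun hd =>
    (Nat.not_even_iff_odd.mpr hUXodd) (even_iff_two_dvd.mpr hd)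
  let P : Sylow 2 X := hUXp.toSylow hUXi
  have hcore : pPrimeCore 2 X = ⊥ := by
    have h1 := Cores.map_subtype_pPrimeCore 2 hXn
    rw [Cores.pPrimeCore_quotient_pPrimeCore, inf_bot_eq,
      Subgroup.map_eq_bot_iff_of_injective _ X.subtype_injective] at h1
    exact h1
  obtain ⟨w, hw, x0, hx0, hcx⟩ := hX1 (π c)
  have hact : ∀ y : C ⧸ O, x0 * y * x0⁻¹ = π c * y * (π c)⁻¹ := by
    intro y
    rw [hcx]
    have h1 := hcentral w hw (x0 * y * x0⁻¹)
    have h2 : w * x0 * y * (w * x0)⁻¹ = (w * (x0 * y * x0⁻¹)) * w⁻¹ := by group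
    rw [h2, h1, mul_inv_cancel_right]
  have hx0U : ∀ u ∈ U', x0 * u * x0⁻¹ ∈ U' := by
    rintro _ ⟨u, hu, rfl⟩
    rw [hact, ← map_inv, ← map_mul, ← map_mul]
    exact ⟨_, hc u hu, rfl⟩
  have hx0U' : ∀ u ∈ U', x0 * u * x0⁻¹ = u → u = 1 := by
    rintro _ ⟨u, hu, rfl⟩ h1
    rw [hact, ← map_inv, ← map_mul, ← map_mul] at h1
    have h2 := hinj _ (hH.UA (hc u hu)) _ (hH.UA hu) h1
    rw [hc' u hu h2, map_one]
  have hPU : ∀ x : X, x ∈ P ↔ (x : C ⧸ O) ∈ U' := fun x => Iff.rfl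
  have hfus := KleinFusion.klein_fusion P hcardUX ⟨x0, hx0⟩
    (fun u hu => (hPU _).mpr (hx0U _ ((hPU _).mp hu)))
    (fun u hu h1 => Subtype.ext (hx0U' _ ((hPU _).mp hu) (congrArg Subtype.val h1))) hcore
  -- normality transfers from X to the whole group
  have hnorm : ∀ M : Subgroup X, M.Normal → (M.map X.subtype).Normal := by
    intro M hM
    refine ⟨?_⟩
    rintro _ ⟨m, hm, rfl⟩ g
    obtain ⟨v, hv, x, hx, rfl⟩ := hX1 g
    refine ⟨(⟨x, hx⟩ * m * ⟨x, hx⟩⁻¹ :), hM.conj_mem m hm _, ?_⟩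
    have h1 := hcentral v hv (x * m * x⁻¹)
    have h2 : v * x * (X.subtype m) * (v * x)⁻¹ = (v * (x * m * x⁻¹)) * v⁻¹ := by
      rw [Subgroup.coe_subtype]; group
    rw [h2, h1, mul_inv_cancel_right]
    rfl
  rcases hfus with ⟨hPn, hPcard, hPc⟩ | ⟨L, hLn, hLL, hUL, hLc, hLmin⟩
  · refine ⟨X, X, ⟨hcentral, hXn, hXn, hVX, hVXtop, le_rfl, hUX, hcardU',
      fun x hx => hA'sq x (hU'A' hx), hUXodd, ?_,
      ⟨x0, hx0, hx0U, hx0U'⟩, Or.inl ⟨rfl, hPcard, ?_, ?_⟩⟩⟩
    · -- centre of X is trivial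
      rw [eq_bot_iff]
      intro x hx
      rw [mem_bot]
      have h1 : (⟨x, hx.2⟩ : X) ∈ centralizer ((P : Subgroup X) : Set X) := by
        rw [mem_centralizer_iff]
        intro y _
        exact Subtype.ext (mem_centralizer_iff.mp hx.1 y y.2)
      rw [hPc] at h1
      apply hx0U' x h1
      rw [mul_inv_eq_iff_eq_mul]
      exact mem_centralizer_iff.mp hx.1 x0 hx0
    · have h1 := hnorm _ hPn
      have h2 : (P : Subgroup X).map X.subtype = U' := by
        rw [show (P : Subgroup X) = U'.subgroupOf X from rfl, subgroupOf_map_subtype,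
          inf_eq_left.mpr hUX]
      rwa [h2] at h1
    · apply le_antisymm
      · intro x hx
        have h1 : (⟨x, hx.2⟩ : X) ∈ centralizer ((P : Subgroup X) : Set X) := by
          rw [mem_centralizer_iff]
          intro y hy
          exact Subtype.ext (mem_centralizer_iff.mp hx.1 y ((hPU y).mp hy))
        rw [hPc] at h1
        exact h1
      · refine le_inf ?_ hUX
        intro x hx
        rw [mem_centralizer_iff]
        intro y hy
        exact comm_of_sq hA'sq (hU'A' hy) (hU'A' hx)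
  · refine ⟨X, L.map X.subtype, ⟨hcentral, hXn, hnorm L hLn, hVX, hVXtop, map_subtype_le L, ?_,
      hcardU', fun x hx => hA'sq x (hU'A' hx), hUXodd, ?_, ⟨x0, hx0, hx0U, hx0U'⟩,
      Or.inr ⟨?_, ?_⟩⟩⟩
    · intro u hu
      exact ⟨⟨u, hUX hu⟩, hUL ((hPU _).mpr hu), rfl⟩
    · rw [eq_bot_iff]
      intro x hx
      rw [mem_bot]
      have h1 : (⟨x, hx.2⟩ : X) ∈ centralizer (L : Set X) := by
        rw [mem_centralizer_iff]
        intro y hy
        exact Subtype.ext (mem_centralizer_iff.mp hx.1 y ⟨y, hy, rfl⟩)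
      rw [hLc, mem_bot] at h1
      exact congrArg Subtype.val h1
    · rw [← map_commutator, hLL]
    · intro M hM hML
      have h1 : M = (M.subgroupOf X).map X.subtype := by
        rw [subgroupOf_map_subtype, inf_eq_left.mpr (hML.trans (map_subtype_le L))]
      have h2 : M.subgroupOf X ≤ L := by
        intro y hy
        obtain ⟨l, hl, hly⟩ := hML hy
        rw [← X.subtype_injective hly]
        exact hl
      rcases hLmin (M.subgroupOf X) (hM.subgroupOf X) h2 with h3 | h3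
      · left
        rw [h1, h3, Subgroup.map_bot]
      · right
        rw [h1, h3]

end Cfsg.Agent.J2Sylow.CentAbs
end

private theorem dce_8d74ec261803 : _root_.True := by
  try have : _root_.True := by simp only [_root_.Cfsg.Agent.J2Sylow.Twist.alphaFun.eq_1]
  try have : _root_.True := by simp only [_root_.Cfsg.Agent.J2Sylow.VaSub.Va.eq_1]
  exact _root_.True.intro
end

-- part: J2Sylow/TabAll
section
prune_inst 0x10000000000000000000000000000000000000000000000004c00000000000000000000000000000000000000000000000000000000000000000000000000000000000000000000000000000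
set_option linter.all false
open scoped Cfsg.Agent.FastGrp

-- part: J2Sylow/TFLinear
section
set_option autoImplicit false
set_option linter.style.haveILetI false

/-!
# Automorphisms of elementary abelian groups of order at most `r²`
-/

namespace Cfsg.Agent.J2Sylow.TFLinear

open Subgroup

theorem unit_eq_one {r : ℕ} [hr : Fact r.Prime] {u : (ZMod r)ˣ} {k : ℕ} (h : u ^ (r ^ k) = 1) :
    u = 1 := by
  have h1 : u ^ (r - 1) = 1 := ZMod.units_pow_card_sub_one_eq_one r u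
  have h2 : Nat.Coprime (r ^ k) (r - 1) := by
    refine Nat.Coprime.pow_left k ?_
    have h3 : 1 ≤ r := hr.out.one_le
    have h4 : Nat.Coprime (r - 1 + 1) (r - 1) := by
      simp only [_root_.Nat.coprime_self_add_left, _root_.Nat.coprime_one_left_eq_true]
    rwa [Nat.sub_add_cancel h3] at h4
  have h3 := Nat.Coprime.eq_one_of_dvd
    (Nat.Coprime.coprime_dvd_left (orderOf_dvd_of_pow_eq_one h) h2)
    (orderOf_dvd_of_pow_eq_one h1)
  exact orderOf_eq_one_iff.1 h3

theorem gl_two {r : ℕ} [hr : Fact r.Prime] (hr2 : r ≠ 2) {g : GL (Fin 2) (ZMod r)}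
    (hg : g * g = 1) (hd : Matrix.GeneralLinearGroup.det g = 1) : g = 1 ∨ g = -1 := by
  have h2 : (2 : ZMod r) ≠ 0 := by
    intro h
    have h3 : ((2 : ℕ) : ZMod r) = 0 := by exact_mod_cast h
    rw [ZMod.natCast_eq_zero_iff] at h3
    exact hr2 ((Nat.prime_dvd_prime_iff_eq hr.out Nat.prime_two).1 h3)
  have hdet : (g : Matrix (Fin 2) (Fin 2) (ZMod r)).det = 1 := by
    have := congrArg Units.val hd
    simpa using this
  let s : Matrix.SpecialLinearGroup (Fin 2) (ZMod r) := ⟨g, hdet⟩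
  have hss : s * s = 1 := by
    apply Subtype.ext
    exact congrArg Units.val hg
  rcases Lib.DicksonAct.eq_one_or_of_sq_eq_one h2 hss with h | h
  · left
    apply Units.ext
    have := congrArg Subtype.val h
    simpa [s] using this
  · right
    apply Units.ext
    have := congrArg Subtype.val h
    simpa only [s, _root_.Units.val_neg, _root_.Units.val_one, _root_.Units.val_eq_neg_one, _root_.Matrix.SpecialLinearGroup.coe_neg, _root_.Matrix.SpecialLinearGroup.coe_one] using this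

theorem sl_lemma {W : Type*} [CommGroup W] [Finite W] {r : ℕ} [hr : Fact r.Prime] (hr2 : r ≠ 2)
    (hexp : ∀ x : W, x ^ r = 1) (hc : Nat.card W ∣ r ^ 2) {α β : MulAut W}
    (hα : ∃ k : ℕ, α ^ (r ^ k) = 1) (hβ : ∃ k : ℕ, β ^ (r ^ k) = 1) {τ1 τ2 : MulAut W}
    (h1 : τ1 ∈ _root_.Subgroup.closure {α, β}) (h2 : τ2 ∈ closure {α, β}) (hs1 : τ1 * τ1 = 1)
    (hs2 : τ2 * τ2 = 1) : τ1 = 1 ∨ τ2 = 1 ∨ τ1 * τ2 = 1 := by
  obtain ⟨n, hn, hcn⟩ := (Nat.dvd_prime_pow hr.out).1 hc
  obtain ⟨e⟩ := Lib.ElemAbGL.mulAut_equiv_GL (V := W) r n hexp hcn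
  let d : MulAut W →* (ZMod r)ˣ := Matrix.GeneralLinearGroup.det.comp e.toMonoidHom
  have hd : _root_.Subgroup.closure {α, β} ≤ d.ker := by
    rw [closure_le]
    rintro x (rfl | rfl)
    · obtain ⟨k, hk⟩ := hα
      rw [SetLike.mem_coe, MonoidHom.mem_ker]
      apply unit_eq_one (k := k)
      rw [← map_pow, hk, map_one]
    · obtain ⟨k, hk⟩ := hβ
      rw [SetLike.mem_coe, MonoidHom.mem_ker]
      apply unit_eq_one (k := k)
      rw [← map_pow, hk, map_one]
  have hd1 : d τ1 = 1 := hd h1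
  have hd2 : d τ2 = 1 := hd h2
  have hinj : ∀ τ : MulAut W, e τ = 1 → τ = 1 := fun τ h => by
    rw [← map_one e] at h
    exact e.injective h
  interval_cases n
  · left
    apply hinj
    apply Units.ext
    ext i
    exact i.elim0
  · left
    apply hinj
    apply Units.ext
    have h3 : ((e τ1 : GL (Fin 1) (ZMod r)) : Matrix (Fin 1) (Fin 1) (ZMod r)).det = 1 := by
      have := congrArg Units.val hd1
      simpa only [d, _root_.Matrix.det_unique, _root_.Fin.default_eq_zero, _root_.Fin.isValue, _root_.MulEquiv.toMonoidHom_eq_coe, _root_.MonoidHom.coe_comp, _root_.MonoidHom.coe_coe, _root_.Function.comp_apply, _root_.Matrix.GeneralLinearGroup.val_det_apply, _root_.Units.val_one] using this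
    rw [Matrix.det_fin_one] at h3
    ext i j
    have hi : i = 0 := Subsingleton.elim _ _
    have hj : j = 0 := Subsingleton.elim _ _
    subst hi
    subst hj
    rw [h3]
    simp
  · have e1 := gl_two hr2 (g := e τ1) (by rw [← map_mul, hs1, map_one]) hd1
    have e2 := gl_two hr2 (g := e τ2) (by rw [← map_mul, hs2, map_one]) hd2
    rcases e1 with e1 | e1
    · left; exact hinj _ e1
    · rcases e2 with e2 | e2
      · right; left; exact hinj _ e2
      · right; right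
        apply hinj
        rw [map_mul, e1, e2]
        simp

/-- an automorphism of 5-power order of a group of order dividing 9 is trivial -/
theorem five_lemma {W : Type*} [Group W] [Finite W] (hc : Nat.card W ∣ 3 ^ 2) {α : MulAut W}
    (hα : ∃ k : ℕ, α ^ (5 ^ k) = 1) : α = 1 := by
  classical
  haveI : Fact (Nat.Prime 5) := ⟨by norm_num⟩
  obtain ⟨k, hk⟩ := hα
  have hp : IsPGroup 5 (zpowers α) := by
    rw [IsPGroup.iff_card]
    obtain ⟨j, -, hj⟩ := (Nat.dvd_prime_pow (by norm_num : Nat.Prime 5)).1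
      (orderOf_dvd_of_pow_eq_one hk)
    exact ⟨j, by rw [Nat.card_zpowers, hj]⟩
  have hmod := hp.card_modEq_card_fixedPoints W
  -- the fixed points as a subgroup
  let F : Subgroup W := (MonoidHom.eqLocus α.toMonoidHom (MonoidHom.id W))
  have hF : Nat.card (MulAction.fixedPoints (zpowers α) W) = Nat.card F := by
    apply Nat.card_congr
    refine Equiv.subtypeEquivRight ?_
    intro x
    constructor
    · intro hx
      exact hx ⟨α, mem_zpowers α⟩
    · rintro hx ⟨_, j, rfl⟩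
      have hx' : α x = x := hx
      show (α ^ j) x = x
      have h1 : α ∈ MulAction.stabilizer (MulAut W) x := hx'
      exact (MulAction.stabilizer (MulAut W) x).zpow_mem h1 j
  rw [hF] at hmod
  have hdvd : Nat.card F ∣ Nat.card W := card_subgroup_dvd_card F
  obtain ⟨n, hn, hcn⟩ := (Nat.dvd_prime_pow (by norm_num : Nat.Prime 3)).1 hc
  have hFW : Nat.card F = Nat.card W := by
    rw [hcn] at hdvd hmod ⊢
    obtain ⟨m, hm, hcm⟩ := (Nat.dvd_prime_pow (by norm_num : Nat.Prime 3)).1 hdvd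
    rw [hcm] at hmod ⊢
    interval_cases n <;> interval_cases m <;> first | rfl | (exfalso; revert hmod; decide)
  have hFt : F = ⊤ := eq_top_of_card_eq F hFW
  ext x
  have hx : x ∈ F := by rw [hFt]; exact mem_top x
  exact hx

end Cfsg.Agent.J2Sylow.TFLinear
end

-- part: J2Sylow/TFBase
section
set_option autoImplicit false
set_option linter.style.haveILetI false
set_option linter.unusedSectionVars false

/-!
# Two "transvections" on a normal elementary abelian `r`-subgroup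
-/

namespace Cfsg.Agent.J2Sylow.TFBase

open Subgroup Cfsg.Agent.J2Sylow.TFLinear

variable {H : Type*} [Group H] {r : ℕ}

/-- coprime action on `V ≥ U ≥ 1` -/
theorem cop {U V : Subgroup H} (hUV : U ≤ V) (hexp : ∀ w ∈ V, w ^ r = 1) {t : H}
    (h1 : ∀ w ∈ V, t * w * t⁻¹ * w⁻¹ ∈ U) (h2 : ∀ u ∈ U, t * u = u * t) {n : ℕ}
    (hn : t ^ n = 1) (hnr : Nat.Coprime n r) {w : H} (hw : w ∈ V) : t * w = w * t := by
  set u := t * w * t⁻¹ * w⁻¹ with hu
  have huU : u ∈ U := h1 w hw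
  have htw : t * w * t⁻¹ = u * w := by rw [hu]; group
  have key : ∀ k : ℕ, t ^ k * w * (t ^ k)⁻¹ = u ^ k * w := by
    intro k
    induction k with
    | zero => simp
    | succ k ih =>
      have h3 : t ^ (k + 1) * w * (t ^ (k + 1))⁻¹ = t * (t ^ k * w * (t ^ k)⁻¹) * t⁻¹ := by
        rw [pow_succ']; group
      have h4 : t * u ^ k = u ^ k * t := ((show Commute t u from h2 u huU).pow_right k).eq
      calc t ^ (k + 1) * w * (t ^ (k + 1))⁻¹ = t * (u ^ k * w) * t⁻¹ := by rw [h3, ih]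
        _ = (t * u ^ k) * w * t⁻¹ := by group
        _ = u ^ k * (t * w * t⁻¹) := by rw [h4]; group
        _ = u ^ (k + 1) * w := by rw [htw, pow_succ]; group
  have h5 := key n
  rw [hn, inv_one, mul_one, one_mul] at h5
  have h6 : u ^ n = 1 := by
    have : u ^ n * w = 1 * w := by rw [one_mul]; exact h5.symm
    exact mul_right_cancel this
  have h7 : u ^ r = 1 := hexp u (hUV huU)
  have h8 : u = 1 := by
    have h9 := Nat.Coprime.eq_one_of_dvd
      (Nat.Coprime.coprime_dvd_left (orderOf_dvd_of_pow_eq_one h6) hnr)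
      (orderOf_dvd_of_pow_eq_one h7)
    exact orderOf_eq_one_iff.1 h9
  rw [h8, one_mul] at htw
  exact mul_inv_eq_iff_eq_mul.1 htw

variable [Finite H]

/-- the commutator subgroup `[V, x]` for `V` normal abelian -/
theorem exists_brk {V : Subgroup H} (hV : V.Normal) (hcomm : ∀ a ∈ V, ∀ b ∈ V, a * b = b * a)
    (x : H) (hx : Nat.card V ∣ r * Nat.card ↥(V ⊓ centralizer ({x} : Set H))) :
    ∃ A : Subgroup H, A ≤ V ∧ Nat.card A ∣ r ∧ ∀ w ∈ V, x * w * x⁻¹ * w⁻¹ ∈ A := by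
  have hmem : ∀ w ∈ V, x * w * x⁻¹ * w⁻¹ ∈ V := fun w hw =>
    V.mul_mem (hV.conj_mem w hw x) (V.inv_mem hw)
  let δ : V →* H := MonoidHom.mk' (fun w => x * (w : H) * x⁻¹ * (w : H)⁻¹) (by
    intro a b
    have h1 := hcomm _ (hmem b b.2) _ (V.inv_mem a.2)
    have h2 : x * ((a : H) * b) * x⁻¹ * ((a : H) * b)⁻¹ =
        (x * (a : H) * x⁻¹) * ((x * (b : H) * x⁻¹ * (b : H)⁻¹) * (a : H)⁻¹) := by group
    show x * ((a : H) * b) * x⁻¹ * ((a : H) * b)⁻¹ = _
    rw [h2, h1]; group)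
  refine ⟨δ.range, ?_, ?_, ?_⟩
  · rintro _ ⟨w, rfl⟩
    exact hmem w w.2
  · have h1 : Nat.card V = Nat.card δ.range * Nat.card δ.ker := by
      rw [Subgroup.card_eq_card_quotient_mul_card_subgroup δ.ker]
      congr 1
      exact Nat.card_congr (QuotientGroup.quotientKerEquivRange δ).toEquiv
    have h2 : Nat.card δ.ker = Nat.card ↥(V ⊓ centralizer ({x} : Set H)) := by
      have h3 : δ.ker.map V.subtype = V ⊓ centralizer ({x} : Set H) := by
        ext w
        constructor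
        · rintro ⟨w', hw', rfl⟩
          refine ⟨w'.2, mem_centralizer_singleton_iff.2 ?_⟩
          have h4 : x * (w' : H) * x⁻¹ * (w' : H)⁻¹ = 1 := hw'
          have h5 : x * (w' : H) = w' * x := by
            calc x * (w' : H) = (x * (w' : H) * x⁻¹ * (w' : H)⁻¹) * (w' * x) := by group
              _ = _ := by rw [h4, one_mul]
          exact h5.symm
        · rintro ⟨h4, h5⟩
          refine ⟨⟨w, h4⟩, ?_, rfl⟩
          have h6 : w * x = x * w := mem_centralizer_singleton_iff.1 h5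
          show x * w * x⁻¹ * w⁻¹ = 1
          rw [← h6]; group
      rw [← h3]
      exact Nat.card_congr (δ.ker.equivMapOfInjective _ V.subtype_injective).toEquiv
    rw [h1, h2] at hx
    exact Nat.dvd_of_mul_dvd_mul_right Nat.card_pos hx
  · intro w hw
    exact ⟨⟨w, hw⟩, rfl⟩

/-- the subgroup `U = [V, x][V, x']` -/
theorem exists_U {V : Subgroup H} (hV : V.Normal) (hcomm : ∀ a ∈ V, ∀ b ∈ V, a * b = b * a)
    {x x' : H} (hx : Nat.card V ∣ r * Nat.card ↥(V ⊓ centralizer ({x} : Set H)))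
    (hx' : Nat.card V ∣ r * Nat.card ↥(V ⊓ centralizer ({x'} : Set H))) :
    ∃ U : Subgroup H, U ≤ V ∧ Nat.card U ∣ r ^ 2 ∧ _root_.Subgroup.closure {x, x'} ≤ normalizer (U : Set H) ∧
      ∀ y ∈ closure {x, x'}, ∀ w ∈ V, y * w * y⁻¹ * w⁻¹ ∈ U := by
  obtain ⟨A, hAV, hA, hAx⟩ := exists_brk hV hcomm x hx
  obtain ⟨B, hBV, hB, hBx⟩ := exists_brk hV hcomm x' hx'
  have hUV : A ⊔ B ≤ V := sup_le hAV hBV
  have key : ∀ y ∈ _root_.Subgroup.closure {x, x'}, ∀ w ∈ V, y * w * y⁻¹ * w⁻¹ ∈ A ⊔ B := by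
    intro y hy
    induction hy using closure_induction with
    | mem y hy =>
      intro w hw
      rcases hy with rfl | rfl
      · exact mem_sup_left (hAx w hw)
      · exact mem_sup_right (hBx w hw)
    | one => intro w hw; simp only [_root_.one_mul, _root_.inv_one, _root_.mul_one, _root_.mul_inv_cancel, _root_.OneMemClass.one_mem]
    | mul a b _ _ ha hb =>
      intro w hw
      have h1 := ha _ (hV.conj_mem w hw b)
      have h2 := hb w hw
      have h3 : a * b * w * (a * b)⁻¹ * w⁻¹ =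
          (a * (b * w * b⁻¹) * a⁻¹ * (b * w * b⁻¹)⁻¹) * (b * w * b⁻¹ * w⁻¹) := by group
      rw [h3]
      exact mul_mem h1 h2
    | inv a _ ha =>
      intro w hw
      have h1 := ha _ (hV.conj_mem w hw a⁻¹)
      have h2 := inv_mem h1
      have h3 : (a * (a⁻¹ * w * a⁻¹⁻¹) * a⁻¹ * (a⁻¹ * w * a⁻¹⁻¹)⁻¹)⁻¹ = a⁻¹ * w * a⁻¹⁻¹ * w⁻¹ := by
        group
      rwa [h3] at h2
  refine ⟨A ⊔ B, hUV, ?_, ?_, key⟩
  · have hc : ∀ (a : A) (b : B), Commute ((A.subtype : A →* H) a) ((B.subtype : B →* H) b) :=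
      fun a b => hcomm _ (hAV a.2) _ (hBV b.2)
    have h1 : (A.subtype.noncommCoprod B.subtype hc).range = A ⊔ B := by
      rw [MonoidHom.noncommCoprod_range, range_subtype, range_subtype]
    have h2 := card_range_dvd (A.subtype.noncommCoprod B.subtype hc)
    rw [h1, Nat.card_prod] at h2
    refine h2.trans ?_
    rw [pow_two]
    exact Nat.mul_dvd_mul hA hB
  · intro y hy
    rw [mem_normalizer_iff]
    intro u
    constructor
    · intro hu
      have h1 := key y hy u (hUV hu)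
      have h2 : y * u * y⁻¹ = (y * u * y⁻¹ * u⁻¹) * u := by group
      rw [h2]
      exact mul_mem h1 hu
    · intro hu
      have h1 := key y⁻¹ (inv_mem hy) _ (hUV hu)
      have h2 : u = (y⁻¹ * (y * u * y⁻¹) * y⁻¹⁻¹ * (y * u * y⁻¹)⁻¹) * (y * u * y⁻¹) := by group
      rw [h2]
      exact mul_mem h1 hu

theorem lift_closure {G G' : Type*} [Group G] [Group G'] {N : Subgroup G} (ψ : N →* G') {x x' t : G}
    (hx : x ∈ N) (hx' : x' ∈ N) (htN : t ∈ N) (ht : t ∈ _root_.Subgroup.closure {x, x'}) :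
    ψ ⟨t, htN⟩ ∈ _root_.Subgroup.closure {ψ ⟨x, hx⟩, ψ ⟨x', hx'⟩} := by
  have h1 : (_root_.Subgroup.closure {(⟨x, hx⟩ : N), ⟨x', hx'⟩}).map N.subtype = _root_.Subgroup.closure {x, x'} := by
    rw [MonoidHom.map_closure, Set.image_pair]
    rfl
  rw [← h1] at ht
  obtain ⟨s, hs, hst⟩ := ht
  have h2 : (_root_.Subgroup.closure {(⟨x, hx⟩ : N), ⟨x', hx'⟩}).map ψ = _root_.Subgroup.closure {ψ ⟨x, hx⟩, ψ ⟨x', hx'⟩} := by
    rw [MonoidHom.map_closure, Set.image_pair]
  rw [← h2]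
  refine ⟨s, hs, ?_⟩
  congr 1
  exact Subtype.ext hst

theorem normalizer_hom_eq_one {U : Subgroup H} {t : H} (ht : t ∈ normalizer (U : Set H))
    (h1 : U.normalizerMonoidHom ⟨t, ht⟩ = 1) : ∀ u ∈ U, t * u = u * t := by
  intro u hu
  have h2 := congrArg (fun φ : MulAut U => ((φ ⟨u, hu⟩ : U) : H)) h1
  have h3 : t * u * t⁻¹ = u := h2
  exact mul_inv_eq_iff_eq_mul.1 h3

/-- two 2-elements -/
theorem two_elements [hr : Fact r.Prime] (hr2 : r ≠ 2) {V : Subgroup H} (hV : V.Normal)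
    (hcomm : ∀ a ∈ V, ∀ b ∈ V, a * b = b * a) (hexp : ∀ w ∈ V, w ^ r = 1)
    {x x' : H} (hx : Nat.card V ∣ r * Nat.card ↥(V ⊓ centralizer ({x} : Set H)))
    (hx' : Nat.card V ∣ r * Nat.card ↥(V ⊓ centralizer ({x'} : Set H)))
    (hxr : ∃ k : ℕ, x ^ (r ^ k) = 1) (hxr' : ∃ k : ℕ, x' ^ (r ^ k) = 1)
    {E : Subgroup H} (hE : IsPGroup 2 E) {t1 t2 : H} (h1 : t1 ∈ E) (h2 : t2 ∈ E)
    (hY1 : t1 ∈ _root_.Subgroup.closure {x, x'}) (hY2 : t2 ∈ closure {x, x'})
    (hs1 : ∀ w ∈ V, t1 * t1 * w = w * (t1 * t1)) (hs2 : ∀ w ∈ V, t2 * t2 * w = w * (t2 * t2)) :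
    (∀ w ∈ V, t1 * w = w * t1) ∨ (∀ w ∈ V, t2 * w = w * t2) ∨
      (∀ w ∈ V, t1 * t2 * w = w * (t1 * t2)) := by
  obtain ⟨U, hUV, hUc, hUn, hU⟩ := exists_U hV hcomm hx hx'
  letI : CommGroup U := { (inferInstance : Group U) with
    mul_comm := fun a b => Subtype.ext (hcomm a (hUV a.2) b (hUV b.2)) }
  have hxY : x ∈ _root_.Subgroup.closure {x, x'} := _root_.Subgroup.subset_closure (by simp)
  have hxY' : x' ∈ _root_.Subgroup.closure {x, x'} := _root_.Subgroup.subset_closure (by simp)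
  set ψ : normalizer (U : Set H) →* MulAut U := U.normalizerMonoidHom with hψ
  have hpow : ∀ {t : H} (ht : t ∈ normalizer (U : Set H)) {n : ℕ}, t ^ n = 1 →
      ψ ⟨t, ht⟩ ^ n = 1 := by
    intro t ht n hn
    rw [← map_pow]
    have : (⟨t, ht⟩ : normalizer (U : Set H)) ^ n = 1 := Subtype.ext hn
    rw [this, map_one]
  have hsq : ∀ {t : H} (ht : t ∈ normalizer (U : Set H)), (∀ w ∈ V, t * t * w = w * (t * t)) →
      ψ ⟨t, ht⟩ * ψ ⟨t, ht⟩ = 1 := by
    intro t ht hs
    rw [← map_mul]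
    ext u
    have h3 := hs u (hUV u.2)
    show (t * t) * (u : H) * (t * t)⁻¹ = u
    rw [h3]; group
  have hfin : ∀ {t : H} (ht : t ∈ normalizer (U : Set H)), t ∈ E → t ∈ _root_.Subgroup.closure {x, x'} →
      ψ ⟨t, ht⟩ = 1 → ∀ w ∈ V, t * w = w * t := by
    intro t ht htE htY h3 w hw
    obtain ⟨k, hk⟩ := hE ⟨t, htE⟩
    have hk' : t ^ (2 ^ k) = 1 := congrArg Subtype.val hk
    refine cop hUV hexp (fun w hw => hU t htY w hw) (normalizer_hom_eq_one ht h3) hk' ?_ hw
    exact Nat.Coprime.pow_left k ((Nat.coprime_primes Nat.prime_two hr.out).2 (Ne.symm hr2))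
  have hmain := sl_lemma (W := U) hr2 (fun u => Subtype.ext (hexp u (hUV u.2))) hUc
    (α := ψ ⟨x, hUn hxY⟩) (β := ψ ⟨x', hUn hxY'⟩)
    (by obtain ⟨k, hk⟩ := hxr; exact ⟨k, hpow _ hk⟩)
    (by obtain ⟨k, hk⟩ := hxr'; exact ⟨k, hpow _ hk⟩)
    (τ1 := ψ ⟨t1, hUn hY1⟩) (τ2 := ψ ⟨t2, hUn hY2⟩)
    (lift_closure ψ _ _ _ hY1) (lift_closure ψ _ _ _ hY2) (hsq _ hs1) (hsq _ hs2)
  rcases hmain with h3 | h3 | h3
  · left; exact hfin _ h1 hY1 h3
  · right; left; exact hfin _ h2 hY2 h3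
  · right; right
    rw [← map_mul] at h3
    exact hfin _ (E.mul_mem h1 h2) (mul_mem hY1 hY2) h3

/-- an element of order a power of 5, `r = 3` -/
theorem five_element {V : Subgroup H} (hV : V.Normal)
    (hcomm : ∀ a ∈ V, ∀ b ∈ V, a * b = b * a) (hexp : ∀ w ∈ V, w ^ 3 = 1)
    {x x' : H} (hx : Nat.card V ∣ 3 * Nat.card ↥(V ⊓ centralizer ({x} : Set H)))
    (hx' : Nat.card V ∣ 3 * Nat.card ↥(V ⊓ centralizer ({x'} : Set H)))
    {t : H} (hY : t ∈ _root_.Subgroup.closure {x, x'}) (ht : ∃ k : ℕ, t ^ (5 ^ k) = 1) :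
    ∀ w ∈ V, t * w = w * t := by
  obtain ⟨U, hUV, hUc, hUn, hU⟩ := exists_U hV hcomm hx hx'
  obtain ⟨k, hk⟩ := ht
  have h1 : U.normalizerMonoidHom ⟨t, hUn hY⟩ = 1 := by
    refine five_lemma hUc ⟨k, ?_⟩
    rw [← map_pow]
    have : (⟨t, hUn hY⟩ : normalizer (U : Set H)) ^ (5 ^ k) = 1 := Subtype.ext hk
    rw [this, map_one]
  intro w hw
  refine cop hUV hexp (fun w hw => hU t hY w hw) (normalizer_hom_eq_one _ h1) hk ?_ hw
  exact Nat.Coprime.pow_left k (by norm_num)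

end Cfsg.Agent.J2Sylow.TFBase
end

-- part: J2Sylow/TFGroup
section
set_option autoImplicit false
set_option linter.style.haveILetI false
set_option linter.unusedSectionVars false

/-!
# The Thompson subgroup step: group theoretic preparations
-/

namespace Cfsg.Agent.J2Sylow.TFGroup

open Subgroup Cfsg.Agent.J2Sylow.TFLinear Cfsg.Agent.J2Sylow.TFBase

/-- `Ω₁(Z(P))` -/
def Om {H : Type*} [Group H] (r : ℕ) (P : Subgroup H) : Subgroup H where
  carrier := {w | w ∈ P ∧ w ^ r = 1 ∧ ∀ p ∈ P, w * p = p * w}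
  one_mem' := ⟨P.one_mem, one_pow _, fun p _ => by rw [one_mul, mul_one]⟩
  mul_mem' := by
    rintro a b ⟨ha, ha1, ha2⟩ ⟨hb, hb1, hb2⟩
    refine ⟨P.mul_mem ha hb, ?_, fun p hp => ?_⟩
    · rw [(show Commute a b from ha2 b hb).mul_pow, ha1, hb1, one_mul]
    · rw [mul_assoc, hb2 p hp, ← mul_assoc, ha2 p hp, mul_assoc]
  inv_mem' := by
    rintro a ⟨ha, ha1, ha2⟩
    refine ⟨P.inv_mem ha, ?_, fun p hp => ?_⟩
    · rw [inv_pow, ha1, inv_one]
    · exact ((show Commute a p from ha2 p hp).inv_left).eq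

section Om

variable {H : Type*} [Group H] {r : ℕ} {P : Subgroup H}

theorem Om_le : Om r P ≤ P := fun _ h => h.1

theorem Om_exp : ∀ w ∈ Om r P, w ^ r = 1 := fun _ h => h.2.1

theorem Om_comm : ∀ a ∈ Om r P, ∀ b ∈ Om r P, a * b = b * a := fun _ ha b hb => ha.2.2 b hb.1

theorem Om_normal (hP : P.Normal) : (Om r P).Normal := by
  refine ⟨?_⟩
  rintro w ⟨h1, h2, h3⟩ g
  refine ⟨hP.conj_mem w h1 g, ?_, ?_⟩
  · rw [conj_pow, h2]; group
  · intro p hp
    have h4 := h3 _ (hP.conj_mem p hp g⁻¹)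
    rw [inv_inv] at h4
    calc g * w * g⁻¹ * p = g * (w * (g⁻¹ * p * g)) * g⁻¹ := by group
      _ = g * ((g⁻¹ * p * g) * w) * g⁻¹ := by rw [h4]
      _ = _ := by group

theorem Om_ne_bot [Finite H] (hr : r.Prime) (hP : IsPGroup r P) (h1 : ∃ x ∈ P, x ≠ 1) :
    Om r P ≠ ⊥ := by
  haveI : Fact r.Prime := ⟨hr⟩
  obtain ⟨x, hx, hx1⟩ := h1
  haveI : Nontrivial P := ⟨⟨⟨x, hx⟩, 1, fun h => hx1 (congrArg Subtype.val h)⟩⟩
  have h2 := hP.bot_lt_center
  have hc : IsPGroup r (center P) := hP.to_subgroup _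
  have h3 : Nontrivial (center P) := (nontrivial_iff_ne_bot _).2 h2.ne'
  obtain ⟨n, hn, hcard⟩ := (hc.nontrivial_iff_card).1 h3
  obtain ⟨w, hw⟩ := exists_prime_orderOf_dvd_card' (G := center P) r (by
    rw [hcard]; exact dvd_pow_self r hn.ne')
  intro h4
  have hwmem : ((w : P) : H) ∈ Om r P := by
    refine ⟨(w : P).2, ?_, fun p hp => ?_⟩
    · have h5 : w ^ r = 1 := by rw [← hw]; exact pow_orderOf_eq_one w
      have h6 := congrArg (fun z : center P => ((z : P) : H)) h5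
      simpa only [_root_.SubmonoidClass.coe_pow, _root_.OneMemClass.coe_one] using h6
    · have h5 := mem_center_iff.1 w.2 ⟨p, hp⟩
      exact (congrArg Subtype.val h5).symm
  rw [h4, mem_bot] at hwmem
  have h5 : w = 1 := Subtype.ext (Subtype.ext hwmem)
  rw [h5, orderOf_one] at hw
  exact hr.one_lt.ne hw

end Om

variable {H X : Type*} [Group H] [Finite H] [Group X] {r : ℕ}

theorem card_sup_mul {V B : Subgroup H} (hV : V.Normal) :
    Nat.card ↥(V ⊔ B) * Nat.card ↥(V ⊓ B) = Nat.card V * Nat.card B := by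
  have cm : ∀ {L N : Subgroup H}, L ≤ N → Nat.card L * L.relIndex N = Nat.card N := by
    intro L N hLN
    have h1 := relIndex_mul_relIndex ⊥ L N bot_le hLN
    rwa [relIndex_bot_left, relIndex_bot_left] at h1
  have h1 := cm (le_sup_left : V ≤ V ⊔ B)
  have h2 := cm (inf_le_right : V ⊓ B ≤ B)
  rw [inf_relIndex_right] at h2
  have h3 : V.relIndex (V ⊔ B) = V.relIndex B := relIndex_sup_left _ _
  rw [h3] at h1
  rw [← h1, ← h2]; ring

/-- 2-elements (more generally elements of order prime to the kernel) over `D.map π` -/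
theorem mem_of_map {π : H →* X} {D : Subgroup H} (hD : D.Normal) {t : H} {n m : ℕ}
    (hn : t ^ n = 1) (hker : ∀ k ∈ π.ker, k ^ m ∈ D) (hnm : Nat.Coprime n m)
    (ht : π t ∈ D.map π) : t ∈ D := by
  obtain ⟨c, hc, hct⟩ := ht
  have hk : c⁻¹ * t ∈ π.ker := by
    rw [MonoidHom.mem_ker, map_mul, map_inv, hct, inv_mul_cancel]
  have h1 : ((c⁻¹ * t : H) : H ⧸ D) = (t : H ⧸ D) := by
    rw [QuotientGroup.mk_mul, QuotientGroup.mk_inv, (QuotientGroup.eq_one_iff c).2 hc, inv_one,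
      one_mul]
  have h2 : (t : H ⧸ D) ^ n = 1 := by rw [← QuotientGroup.mk_pow, hn, QuotientGroup.mk_one]
  have h3 : (t : H ⧸ D) ^ m = 1 := by
    rw [← h1, ← QuotientGroup.mk_pow]
    exact (QuotientGroup.eq_one_iff _).2 (hker _ hk)
  have h4 := Nat.Coprime.eq_one_of_dvd
    (Nat.Coprime.coprime_dvd_left (orderOf_dvd_of_pow_eq_one h2) hnm)
    (orderOf_dvd_of_pow_eq_one h3)
  exact (QuotientGroup.eq_one_iff t).1 (orderOf_eq_one_iff.1 h4)

/-- lifting a 2-subgroup -/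
theorem exists_lift_two {Y Z : Type*} [Group Y] [Finite Y] [Group Z] (f : Y →* Z)
    {A : Subgroup Z} (hA : IsPGroup 2 A) (hAf : A ≤ f.range) :
    ∃ E : Subgroup Y, IsPGroup 2 E ∧ ∀ a ∈ A, ∃ e ∈ E, f e = a := by
  haveI : Fact (Nat.Prime 2) := ⟨Nat.prime_two⟩
  let Y0 : Subgroup Y := A.comap f
  let f0 : Y0 →* A := MonoidHom.codRestrict (f.comp Y0.subtype) A (fun y => y.2)
  have hf0 : Function.Surjective f0 := by
    rintro ⟨a, ha⟩
    obtain ⟨y, hy⟩ := hAf ha
    exact ⟨⟨y, by show f y ∈ A; rw [hy]; exact ha⟩, Subtype.ext hy⟩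
  obtain ⟨E0⟩ : Nonempty (Sylow 2 Y0) := inferInstance
  have h1 : ((E0.mapSurjective hf0 : Sylow 2 A) : Subgroup A) = ⊤ := by
    have h2 : IsPGroup 2 (⊤ : Subgroup A) := hA.of_equiv topEquiv.symm
    exact ((E0.mapSurjective hf0).is_maximal' h2 le_top).symm
  refine ⟨(E0 : Subgroup Y0).map Y0.subtype, E0.isPGroup'.map _, ?_⟩
  intro a ha
  have h3 : (⟨a, ha⟩ : A) ∈ ((E0.mapSurjective hf0 : Sylow 2 A) : Subgroup A) := by
    rw [h1]; exact mem_top _
  obtain ⟨e, he, hea⟩ := h3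
  exact ⟨e, ⟨e, he, rfl⟩, congrArg Subtype.val hea⟩

/-- lifting a 2-subgroup inside a subgroup `Y` of `H` -/
theorem exists_lift_two' {Z : Type*} [Group Z] (f : H →* Z) (Y : Subgroup H)
    {A : Subgroup Z} (hA : IsPGroup 2 A) (hAf : A ≤ Y.map f) :
    ∃ E : Subgroup H, IsPGroup 2 E ∧ E ≤ Y ∧ ∀ a ∈ A, ∃ e ∈ E, f e = a := by
  obtain ⟨E, hE, hEA⟩ := exists_lift_two (f.comp Y.subtype) hA (by
    rw [MonoidHom.range_comp, range_subtype]; exact hAf)
  refine ⟨E.map Y.subtype, hE.map _, ?_, ?_⟩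
  · rintro _ ⟨x, -, rfl⟩; exact x.2
  · intro a ha
    obtain ⟨e, he, hea⟩ := hEA a ha
    exact ⟨e, ⟨e, he, rfl⟩, hea⟩

theorem card_conj {V : Subgroup H} (hV : V.Normal) (x g : H) :
    Nat.card ↥(V ⊓ centralizer ({g * x * g⁻¹} : Set H)) =
      Nat.card ↥(V ⊓ centralizer ({x} : Set H)) := by
  have h1 : (V ⊓ centralizer ({x} : Set H)).map (MulAut.conj g).toMonoidHom =
      V ⊓ centralizer ({g * x * g⁻¹} : Set H) := by
    ext w
    constructor
    · rintro ⟨w', ⟨h1, h2⟩, rfl⟩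
      have h2' : w' * x = x * w' := mem_centralizer_singleton_iff.1 h2
      refine ⟨hV.conj_mem w' h1 g, mem_centralizer_singleton_iff.2 ?_⟩
      show g * w' * g⁻¹ * (g * x * g⁻¹) = g * x * g⁻¹ * (g * w' * g⁻¹)
      calc g * w' * g⁻¹ * (g * x * g⁻¹) = g * (w' * x) * g⁻¹ := by group
        _ = g * (x * w') * g⁻¹ := by rw [h2']
        _ = _ := by group
    · rintro ⟨h1, h2⟩
      have h2' : w * (g * x * g⁻¹) = g * x * g⁻¹ * w := mem_centralizer_singleton_iff.1 h2
      refine ⟨g⁻¹ * w * g, ⟨?_, mem_centralizer_singleton_iff.2 ?_⟩, ?_⟩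
      · have := hV.conj_mem w h1 g⁻¹
        rwa [inv_inv] at this
      · calc g⁻¹ * w * g * x = g⁻¹ * (w * (g * x * g⁻¹)) * g := by group
          _ = g⁻¹ * (g * x * g⁻¹ * w) * g := by rw [h2']
          _ = _ := by group
      · show g * (g⁻¹ * w * g) * g⁻¹ = w
        group
  rw [← h1]
  exact (Nat.card_congr ((V ⊓ centralizer ({x} : Set H)).equivMapOfInjective _
    (MulAut.conj g).injective).toEquiv).symm

/-- the maximal elementary abelian subgroups of `S`: either they generate a subgroup which is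
normal in `H` (when they are all in `P`) or there is a "transvection" -/
theorem exists_J_or (hr : r.Prime) {P S : Subgroup H} (hP : P.Normal) (hPS : P ≤ S)
    (hS : IsPGroup r S) (hne : Om r P ≠ ⊥) (hidx : P.relIndex S ∣ r) :
    (∃ Q0 : Subgroup H, Q0.Normal ∧ Q0 ≠ ⊥ ∧ Q0 ≤ S ∧ (Q0.subgroupOf S).Characteristic) ∨
    ∃ x ∈ S, x ∉ P ∧
      Nat.card ↥(Om r P) ∣ r * Nat.card ↥(Om r P ⊓ centralizer ({x} : Set H)) := by
  classical
  haveI : Fact r.Prime := ⟨hr⟩
  set V := Om r P with hV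
  have hVn : V.Normal := Om_normal hP
  -- elementary abelian subgroups of `S`
  let El : Subgroup H → Prop := fun E => E ≤ S ∧ (∀ a ∈ E, ∀ b ∈ E, a * b = b * a) ∧
    ∀ a ∈ E, a ^ r = 1
  have hElV : El V := ⟨Om_le.trans hPS, Om_comm, Om_exp⟩
  obtain ⟨E0, hE0, hmax⟩ := Set.exists_max_image {E : Subgroup H | El E}
    (fun E => Nat.card E) (Set.toFinite _) ⟨V, hElV⟩
  set m := Nat.card E0 with hm
  have cm : ∀ {L N : Subgroup H}, L ≤ N → Nat.card L * L.relIndex N = Nat.card N := by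
    intro L N hLN
    have h1 := relIndex_mul_relIndex ⊥ L N bot_le hLN
    rwa [relIndex_bot_left, relIndex_bot_left] at h1
  by_cases hall : ∀ E : Subgroup H, El E → Nat.card E = m → E ≤ P
  · left
    let Ω : Set H := {x | ∃ E : Subgroup H, El E ∧ Nat.card E = m ∧ x ∈ E}
    refine ⟨_root_.Subgroup.closure Ω, ?_, ?_, ?_, ?_⟩
    · refine ⟨fun n hn g => ?_⟩
      induction hn using closure_induction with
      | mem x hx =>
        obtain ⟨E, hE, hEm, hxE⟩ := hx
        apply Subgroup.subset_closure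
        refine ⟨E.map (MulAut.conj g).toMonoidHom, ⟨?_, ?_, ?_⟩, ?_, ⟨x, hxE, rfl⟩⟩
        · rintro _ ⟨y, hy, rfl⟩
          exact hPS (hP.conj_mem y (hall E hE hEm hy) g)
        · rintro _ ⟨a, ha, rfl⟩ _ ⟨b, hb, rfl⟩
          rw [← map_mul, hE.2.1 a ha b hb, map_mul]
        · rintro _ ⟨a, ha, rfl⟩
          rw [← map_pow, hE.2.2 a ha, map_one]
        · rw [← hEm]
          exact card_map_of_injective (MulAut.conj g).injective
      | one => simp
      | mul a b _ _ ha hb =>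
        have : g * (a * b) * g⁻¹ = (g * a * g⁻¹) * (g * b * g⁻¹) := by group
        rw [this]; exact mul_mem ha hb
      | inv a _ ha =>
        have : g * a⁻¹ * g⁻¹ = (g * a * g⁻¹)⁻¹ := by group
        rw [this]; exact inv_mem ha
    · intro hbot
      have h1 : E0 ≤ closure Ω := fun x hx => subset_closure ⟨E0, hE0, rfl, hx⟩
      rw [hbot, le_bot_iff] at h1
      have h2 := hmax V hElV
      have h3 : Nat.card V ≤ 1 := by
        have : Nat.card E0 = 1 := by rw [h1]; exact card_bot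
        have h4 : Nat.card V ≤ Nat.card E0 := h2
        omega
      exact hne (eq_bot_of_card_le _ h3)
    · rw [closure_le]
      rintro x ⟨E, hE, -, hx⟩
      exact hE.1 hx
    · rw [characteristic_iff_le_comap]
      intro ϕ
      -- the closure inside `S`
      have h1 : closure Ω = (_root_.Subgroup.closure {s : S | (s : H) ∈ Ω}).map S.subtype := by
        rw [MonoidHom.map_closure]
        congr 1
        ext x
        constructor
        · rintro ⟨E, hE, hEm, hx⟩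
          exact ⟨⟨x, hE.1 hx⟩, ⟨E, hE, hEm, hx⟩, rfl⟩
        · rintro ⟨s, hs, rfl⟩
          exact hs
      have h2 : (closure Ω).subgroupOf S = closure {s : S | (s : H) ∈ Ω} := by
        rw [h1]
        exact comap_map_eq_self_of_injective S.subtype_injective _
      rw [h2, closure_le]
      rintro s ⟨E, hE, hEm, hs⟩
      rw [SetLike.mem_coe, mem_comap]
      apply Subgroup.subset_closure
      refine ⟨((E.subgroupOf S).map ϕ.toMonoidHom).map S.subtype, ⟨?_, ?_, ?_⟩, ?_,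
        ⟨ϕ s, ⟨s, mem_subgroupOf.2 hs, rfl⟩, rfl⟩⟩
      · rintro _ ⟨y, -, rfl⟩; exact y.2
      · rintro _ ⟨_, ⟨a, ha, rfl⟩, rfl⟩ _ ⟨_, ⟨b, hb, rfl⟩, rfl⟩
        have h3 : a * b = b * a := Subtype.ext (hE.2.1 a (mem_subgroupOf.1 ha) b (mem_subgroupOf.1 hb))
        rw [← map_mul, ← map_mul, h3, map_mul, map_mul]
      · rintro _ ⟨_, ⟨a, ha, rfl⟩, rfl⟩
        have h3 : a ^ r = 1 := Subtype.ext (by
          rw [coe_pow]; exact hE.2.2 a (mem_subgroupOf.1 ha))
        rw [← map_pow, ← map_pow, h3, map_one, map_one]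
      · rw [card_map_of_injective S.subtype_injective, card_map_of_injective ϕ.injective, ← hEm]
        have h3 : (E.subgroupOf S).map S.subtype = E := by
          rw [subgroupOf_map_subtype, inf_eq_left.2 hE.1]
        conv_rhs => rw [← h3]
        exact (card_map_of_injective S.subtype_injective).symm
  · right
    push Not at hall
    obtain ⟨E, hE, hEm, hEP⟩ := hall
    obtain ⟨x, hxE, hxP⟩ := Set.not_subset.1 hEP
    refine ⟨x, hE.1 hxE, hxP, ?_⟩
    set B := E ⊓ P with hB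
    have hElF : El (V ⊔ B) := by
      have hVB : ∀ b ∈ B, ∀ v ∈ V, b * v = v * b := fun b hb v hv => (hv.2.2 b hb.2).symm
      have hmem : ∀ x ∈ V ⊔ B, ∃ v ∈ V, ∃ b ∈ B, x = v * b := by
        intro x hx
        have h1 : (x : H) ∈ ((V ⊔ B : Subgroup H) : Set H) := hx
        rw [normal_mul] at h1
        obtain ⟨v, hv, b, hb, rfl⟩ := Set.mem_mul.1 h1
        exact ⟨v, hv, b, hb, rfl⟩
      refine ⟨sup_le (Om_le.trans hPS) (inf_le_left.trans hE.1), ?_, ?_⟩
      · intro a ha b hb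
        obtain ⟨v, hv, c, hc, rfl⟩ := hmem a ha
        obtain ⟨v', hv', c', hc', rfl⟩ := hmem b hb
        have h1 := Om_comm v hv v' hv'
        have h2 := hE.2.1 c hc.1 c' hc'.1
        have h3 := hVB c hc v' hv'
        have h4 := hVB c' hc' v hv
        calc v * c * (v' * c') = v * (c * v') * c' := by group
          _ = (v * v') * (c * c') := by rw [h3]; group
          _ = (v' * v) * (c' * c) := by rw [h1, h2]
          _ = v' * (v * c') * c := by group
          _ = v' * (c' * v) * c := by rw [h4]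
          _ = _ := by group
      · intro a ha
        obtain ⟨v, hv, c, hc, rfl⟩ := hmem a ha
        rw [(show Commute v c from (hVB c hc v hv).symm).mul_pow, Om_exp v hv, hE.2.2 c hc.1,
          one_mul]
    have h1 : Nat.card ↥(V ⊔ B) ≤ m := hmax (V ⊔ B) hElF
    have h2 := card_sup_mul (B := B) hVn
    have h3 : Nat.card B * B.relIndex E = m := by rw [← hEm]; exact cm inf_le_left
    have h4 : B.relIndex E ≤ r := by
      have h5 : B.relIndex E = P.relIndex E := by rw [hB, inf_comm, inf_relIndex_right]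
      rw [h5]
      have h6 : P.relIndex E ≤ P.relIndex S := relIndex_le_of_le_right hE.1 (by
        show (P.subgroupOf S).index ≠ 0
        exact index_ne_zero_of_finite)
      exact h6.trans (Nat.le_of_dvd hr.pos hidx)
    have h5 : Nat.card ↥(V ⊓ B) ≤ Nat.card ↥(V ⊓ centralizer ({x} : Set H)) := by
      apply card_le_of_le
      intro w hw
      exact ⟨hw.1, mem_centralizer_singleton_iff.2 (hE.2.1 w hw.2.1 x hxE)⟩
    have h6 : Nat.card V ≤ r * Nat.card ↥(V ⊓ centralizer ({x} : Set H)) := by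
      have hBpos : 0 < Nat.card B := Nat.card_pos
      have h7 : Nat.card V * Nat.card B ≤ (r * Nat.card ↥(V ⊓ centralizer ({x} : Set H))) * Nat.card B := by
        rw [← h2]
        calc Nat.card ↥(V ⊔ B) * Nat.card ↥(V ⊓ B)
            ≤ m * Nat.card ↥(V ⊓ centralizer ({x} : Set H)) := Nat.mul_le_mul h1 h5
          _ = Nat.card B * B.relIndex E * Nat.card ↥(V ⊓ centralizer ({x} : Set H)) := by rw [h3]
          _ ≤ Nat.card B * r * Nat.card ↥(V ⊓ centralizer ({x} : Set H)) :=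
              Nat.mul_le_mul_right _ (Nat.mul_le_mul_left _ h4)
          _ = _ := by ring
      exact Nat.le_of_mul_le_mul_right h7 hBpos
    obtain ⟨a, ha⟩ := (hS.to_le hElV.1).exists_card_eq
    obtain ⟨b, hb⟩ := (hS.to_le ((inf_le_left : V ⊓ centralizer ({x} : Set H) ≤ V).trans hElV.1)).exists_card_eq
    rw [ha, hb] at h6 ⊢
    rw [← pow_succ'] at h6 ⊢
    exact pow_dvd_pow r ((Nat.pow_le_pow_iff_right hr.one_lt).1 h6)

end Cfsg.Agent.J2Sylow.TFGroup
end

-- part: J2Sylow/TFX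
section
set_option autoImplicit false

/-!
# Facts on the group `X` of order 1920 (`C(z)/O(C(z))`)
-/

namespace Cfsg.Agent.J2Sylow.TFX

open Subgroup Cfsg.Agent.J2Type.Model

variable {X : Type*} [Group X] {Qt : Subgroup X} {zt : X} {v : Fin 5 → X} {ρ : X →* SP}

/-- the permutation part -/
def sg (ρ : X →* SP) : X →* Equiv.Perm (Fin 5) where
  toFun x := (ρ x).σ
  map_one' := by rw [map_one, one_σ]
  map_mul' x y := by rw [map_mul, mul_σ]

theorem sg_apply (x : X) : sg ρ x = (ρ x).σ := rfl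

theorem mem_Q_iff (M : IsModel Qt zt v ρ) {x : X} : x ∈ Qt ↔ sg ρ x = 1 := M.mem_Q x

theorem sign_sg (M : IsModel Qt zt v ρ) (x : X) : Equiv.Perm.sign (sg ρ x) = 1 :=
  ((M.range (ρ x)).1 ⟨x, rfl⟩).1

theorem exists_sg (M : IsModel Qt zt v ρ) (τ : Equiv.Perm (Fin 5)) (hτ : Equiv.Perm.sign τ = 1) :
    ∃ x, sg ρ x = τ := by
  obtain ⟨x, hx⟩ := (M.range ⟨τ, fun _ => 0⟩).2 ⟨hτ, by simp⟩
  exact ⟨x, by rw [sg_apply, hx]⟩

theorem zp_sq (M : IsModel Qt zt v ρ) (a : ZMod 2) : zp zt a * zp zt a = 1 := zp_self zt M.z_sq a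

/-- Squares of elements of `Qt`. -/
theorem sq_Q (M : IsModel Qt zt v ρ) (q : X) (hq : q ∈ Qt) : q * q = 1 ∨ q * q = zt := by
  have hc := zp_comm zt M.z_comm
  rcases M.cover q hq with ⟨a, rfl⟩ | ⟨a, i, rfl⟩ | ⟨a, i, j, hij, rfl⟩
  · left; exact zp_sq M a
  · left
    calc zp zt a * v i * (zp zt a * v i) = zp zt a * (v i * zp zt a) * v i := by group
      _ = zp zt a * (zp zt a * v i) * v i := by rw [hc]
      _ = (zp zt a * zp zt a) * (v i * v i) := by group
      _ = 1 := by rw [zp_sq M, M.v_sq, one_mul]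
  · right
    calc zp zt a * (v i * v j) * (zp zt a * (v i * v j))
        = zp zt a * ((v i * v j) * zp zt a) * (v i * v j) := by group
      _ = zp zt a * (zp zt a * (v i * v j)) * (v i * v j) := by rw [hc]
      _ = (zp zt a * zp zt a) * (v i * (v j * v i) * v j) := by group
      _ = v i * (v j * v i) * v j := by rw [zp_sq M, one_mul]
      _ = v i * (zt * (v i * v j)) * v j := by rw [M.v_anti j i hij.ne']
      _ = (v i * zt) * v i * (v j * v j) := by group
      _ = (zt * v i) * v i * (v j * v j) := by rw [M.z_comm]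
      _ = zt * (v i * v i) * (v j * v j) := by group
      _ = zt := by rw [M.v_sq, M.v_sq, mul_one, mul_one]

theorem Q_two (M : IsModel Qt zt v ρ) : ∀ q ∈ Qt, q ^ 4 = 1 := by
  intro q hq
  have h4 : q ^ 4 = (q * q) * (q * q) := by
    rw [show (4 : ℕ) = 2 + 2 from rfl, pow_add, pow_two]
  rw [h4]
  rcases sq_Q M q hq with h | h
  · rw [h, one_mul]
  · rw [h, M.z_sq]

theorem range_sg (M : IsModel Qt zt v ρ) : (sg ρ).range = alternatingGroup (Fin 5) := by
  ext τ
  rw [MonoidHom.mem_range, Equiv.Perm.mem_alternatingGroup]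
  constructor
  · rintro ⟨x, rfl⟩
    exact sign_sg M x
  · exact exists_sg M τ

theorem ker_sg (M : IsModel Qt zt v ρ) : (sg ρ).ker = Qt := by
  ext x
  rw [MonoidHom.mem_ker, mem_Q_iff M]

theorem card_alt5 : Nat.card (alternatingGroup (Fin 5)) = 60 := by
  rw [nat_card_alternatingGroup]
  simp
  decide

theorem card_Q (M : IsModel Qt zt v ρ) (hX : Nat.card X = 1920) : Nat.card Qt = 32 := by
  have h1 := Subgroup.card_mul_index (sg ρ).ker
  rw [index_ker, range_sg M, card_alt5, ker_sg M, hX] at h1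
  omega

/-- `[g, v i]` for `g` moving `i`. -/
theorem comm_v (M : IsModel Qt zt v ρ) (g : X) (i : Fin 5) :
    ∃ a, g * v i * g⁻¹ * (v i)⁻¹ = zp zt a * (v (sg ρ g i) * v i) := by
  refine ⟨(ρ g).s i, ?_⟩
  rw [M.conj, sg_apply]
  have h1 : (v i)⁻¹ = v i := inv_eq_of_mul_eq_one_left (M.v_sq i)
  rw [h1, mul_assoc]

theorem zt_mem_of (M : IsModel Qt zt v ρ) (N : Subgroup X) (hN : N.Normal) {g : X} (hg : g ∈ N)
    (hgQ : g ∈ Qt) (h1 : g ≠ 1) (h2 : g ≠ zt) : zt ∈ N := by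
  have hc := zp_comm zt M.z_comm
  have hinv : ∀ i, (v i)⁻¹ = v i := fun i => inv_eq_of_mul_eq_one_left (M.v_sq i)
  have hzinv : zt⁻¹ = zt := inv_eq_of_mul_eq_one_left M.z_sq
  -- some v k does not commute with g
  have key : ∃ k, v k * g = zt * (g * v k) := by
    rcases M.cover g hgQ with ⟨a, rfl⟩ | ⟨a, i, rfl⟩ | ⟨a, i, j, hij, rfl⟩
    · exfalso
      rcases zmod2_cases a with rfl | rfl
      · exact h1 (zp_zero zt)
      · exact h2 (zp_one zt)
    · obtain ⟨k, hk⟩ : ∃ k : Fin 5, k ≠ i := exists_ne i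
      refine ⟨k, ?_⟩
      calc v k * (zp zt a * v i) = (v k * zp zt a) * v i := by group
        _ = (zp zt a * v k) * v i := by rw [hc]
        _ = zp zt a * (v k * v i) := by group
        _ = zp zt a * (zt * (v i * v k)) := by rw [M.v_anti k i hk]
        _ = (zp zt a * zt) * (v i * v k) := by group
        _ = (zt * zp zt a) * (v i * v k) := by rw [M.z_comm]
        _ = _ := by group
    · refine ⟨i, ?_⟩
      have e1 : v i * (v i * v j) = zt * ((v i * v j) * v i) := by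
        calc v i * (v i * v j) = v i * (zt * (v j * v i)) := by rw [M.v_anti i j hij.ne]
          _ = (v i * zt) * (v j * v i) := by group
          _ = (zt * v i) * (v j * v i) := by rw [M.z_comm]
          _ = _ := by group
      calc v i * (zp zt a * (v i * v j)) = (v i * zp zt a) * (v i * v j) := by group
        _ = (zp zt a * v i) * (v i * v j) := by rw [hc]
        _ = zp zt a * (v i * (v i * v j)) := by group
        _ = zp zt a * (zt * ((v i * v j) * v i)) := by rw [e1]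
        _ = (zp zt a * zt) * ((v i * v j) * v i) := by group
        _ = (zt * zp zt a) * ((v i * v j) * v i) := by rw [M.z_comm]
        _ = _ := by group
  obtain ⟨k, hk⟩ := key
  have h3 : v k * g * (v k)⁻¹ * g⁻¹ ∈ N := N.mul_mem (hN.conj_mem g hg (v k)) (N.inv_mem hg)
  have h4 : v k * g * (v k)⁻¹ * g⁻¹ = zt := by
    rw [hk]
    group
  rwa [h4] at h3

/-- Transport in the alternating group: pairs. -/
theorem two_trans : ∀ i j k l : Fin 5, i ≠ j → k ≠ l → ∃ τ : Equiv.Perm (Fin 5),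
    Equiv.Perm.sign τ = 1 ∧ τ i = k ∧ τ j = l := by
  intro i j k l hij hkl
  -- any permutation with i -> k, j -> l, corrected by a transposition of the rest
  obtain ⟨τ, h1, h2⟩ : ∃ τ : Equiv.Perm (Fin 5), τ i = k ∧ τ j = l := by
    refine ⟨Equiv.swap (Equiv.swap i k j) l * Equiv.swap i k, ?_, ?_⟩
    · rw [Equiv.Perm.mul_apply, Equiv.swap_apply_left, Equiv.swap_apply_of_ne_of_ne _ hkl]
      intro h0
      have h3 : Equiv.swap i k (Equiv.swap i k j) = Equiv.swap i k k := by rw [← h0]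
      rw [Equiv.swap_apply_self, Equiv.swap_apply_right] at h3
      exact hij h3.symm
    · rw [Equiv.Perm.mul_apply, Equiv.swap_apply_left]
  rcases Int.units_eq_one_or (Equiv.Perm.sign τ) with h | h
  · exact ⟨τ, h, h1, h2⟩
  · obtain ⟨a, b, hab, ha1, ha2, hb1, hb2⟩ : ∃ a b : Fin 5, a ≠ b ∧ a ≠ k ∧ a ≠ l ∧ b ≠ k ∧
        b ≠ l := by
      clear h1 h2 h
      revert k l
      decide +kernel
    refine ⟨Equiv.swap a b * τ, ?_, ?_, ?_⟩
    · rw [Equiv.Perm.sign_mul, h, Equiv.Perm.sign_swap hab]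
      rfl
    · rw [Equiv.Perm.mul_apply, h1, Equiv.swap_apply_of_ne_of_ne ha1.symm hb1.symm]
    · rw [Equiv.Perm.mul_apply, h2, Equiv.swap_apply_of_ne_of_ne ha2.symm hb2.symm]

theorem Q_le_of_zt (M : IsModel Qt zt v ρ) (N : Subgroup X) (hz : zt ∈ N)
    (hv : ∀ i, v i ∈ N) : Qt ≤ N := by
  have hzp : ∀ a, zp zt a ∈ N := zp_mem N zt hz
  intro q hq
  rcases M.cover q hq with ⟨a, rfl⟩ | ⟨a, i, rfl⟩ | ⟨a, i, j, hij, rfl⟩
  · exact hzp a
  · exact N.mul_mem (hzp a) (hv i)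
  · exact N.mul_mem (hzp a) (N.mul_mem (hv i) (hv j))

/-- `v i` from the products `v i * v j`. -/
theorem v_mem_of_pairs (M : IsModel Qt zt v ρ) (N : Subgroup X) (hz : zt ∈ N)
    (hvv : ∀ i j, i ≠ j → v i * v j ∈ N) (i : Fin 5) : v i ∈ N := by
  have h4 : v 4 ∈ N := by
    have h1 : v 4 = ((v 0 * v 1) * (v 2 * v 3))⁻¹ := by
      rw [eq_inv_iff_mul_eq_one]
      have h2 := M.v_prod
      have h3 : (v 0 * v 1 * v 2 * v 3) * v 4 = 1 := h2
      have h5 := mul_eq_one_iff_eq_inv.1 h3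
      have h6 : v 4 * (v 0 * v 1 * v 2 * v 3) = 1 := by rw [h5]; group
      rw [← h6]; group
    rw [h1]
    exact N.inv_mem (N.mul_mem (hvv 0 1 (by decide)) (hvv 2 3 (by decide)))
  by_cases hi : i = 4
  · rw [hi]; exact h4
  · have h1 := hvv i 4 hi
    exact (N.mul_mem_cancel_right h4).1 h1

/-- (x2) -/
theorem Q_le_normal (M : IsModel Qt zt v ρ) (N : Subgroup X) (hN : N.Normal) {g : X}
    (hg : g ∈ N) (h1 : g ≠ 1) (h2 : g ≠ zt) : Qt ≤ N := by
  have hzinv : zt⁻¹ = zt := inv_eq_of_mul_eq_one_left M.z_sq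
  -- reduce to g in Q
  obtain ⟨g', hg', hQ', h1', h2'⟩ : ∃ g' ∈ N, g' ∈ Qt ∧ g' ≠ 1 ∧ g' ≠ zt := by
    by_cases hgQ : g ∈ Qt
    · exact ⟨g, hg, hgQ, h1, h2⟩
    · have hs : sg ρ g ≠ 1 := fun h0 => hgQ ((mem_Q_iff M).2 h0)
      obtain ⟨i, hi⟩ : ∃ i, sg ρ g i ≠ i := by
        by_contra hcon
        push Not at hcon
        exact hs (Equiv.ext hcon)
      obtain ⟨a, ha⟩ := comm_v M g i
      refine ⟨g * v i * g⁻¹ * (v i)⁻¹, ?_, ?_, ?_, ?_⟩
      · have h3 : g * v i * g⁻¹ * (v i)⁻¹ = g * (v i * g⁻¹ * (v i)⁻¹) := by group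
        rw [h3]
        exact N.mul_mem hg (hN.conj_mem _ (N.inv_mem hg) _)
      · rw [ha]
        exact Qt.mul_mem (zp_mem Qt zt M.z_mem a) (Qt.mul_mem (M.v_mem _) (M.v_mem _))
      · intro h0
        rw [mul_inv_eq_one] at h0
        rw [M.conj] at h0
        have h5 := M.v_inj ((ρ g).s i) 0 ((ρ g).σ i) i (by rw [zp_zero, one_mul]; exact h0)
        exact hi h5.2
      · intro h0
        rw [mul_inv_eq_iff_eq_mul, M.conj] at h0
        have h5 := M.v_inj ((ρ g).s i) 1 ((ρ g).σ i) i (by rw [zp_one]; exact h0)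
        exact hi h5.2
  have hz := zt_mem_of M N hN hg' hQ' h1' h2'
  have hzp : ∀ a, zp zt a ∈ N := zp_mem N zt hz
  rcases M.cover g' hQ' with ⟨a, rfl⟩ | ⟨a, i, rfl⟩ | ⟨a, i, j, hij, rfl⟩
  · exfalso
    rcases zmod2_cases a with rfl | rfl
    · exact h1' (zp_zero zt)
    · exact h2' (zp_one zt)
  · have hvi : v i ∈ N := (N.mul_mem_cancel_left (hzp a)).1 hg'
    refine Q_le_of_zt M N hz fun k => ?_
    obtain ⟨τ, hτ, hτi⟩ : ∃ τ : Equiv.Perm (Fin 5), Equiv.Perm.sign τ = 1 ∧ τ i = k := by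
      obtain ⟨j, hj⟩ : ∃ j : Fin 5, i ≠ j := (exists_ne i).imp fun _ h => h.symm
      obtain ⟨l, hl⟩ : ∃ l : Fin 5, k ≠ l := (exists_ne k).imp fun _ h => h.symm
      obtain ⟨τ, h3, h4, -⟩ := two_trans i j k l hj hl
      exact ⟨τ, h3, h4⟩
    obtain ⟨x, hx⟩ := exists_sg M τ hτ
    have h3 := hN.conj_mem _ hvi x
    rw [M.conj] at h3
    have h4 : (ρ x).σ i = k := by
      have : (ρ x).σ = τ := hx
      rw [this, hτi]
    rw [h4] at h3
    exact (N.mul_mem_cancel_left (hzp _)).1 h3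
  · have hvij : v i * v j ∈ N := (N.mul_mem_cancel_left (hzp a)).1 hg'
    refine Q_le_of_zt M N hz (v_mem_of_pairs M N hz fun k l hkl => ?_)
    obtain ⟨τ, hτ, hτi, hτj⟩ := two_trans i j k l hij.ne hkl
    obtain ⟨x, hx⟩ := exists_sg M τ hτ
    have h3 := hN.conj_mem _ hvij x
    have h4 : x * (v i * v j) * x⁻¹ = (x * v i * x⁻¹) * (x * v j * x⁻¹) := by group
    rw [h4, M.conj, M.conj] at h3
    have h5 : (ρ x).σ i = k := by
      have : (ρ x).σ = τ := hx
      rw [this, hτi]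
    have h6 : (ρ x).σ j = l := by
      have : (ρ x).σ = τ := hx
      rw [this, hτj]
    rw [h5, h6] at h3
    have h7 : zp zt ((ρ x).s i) * v k * (zp zt ((ρ x).s j) * v l)
        = zp zt ((ρ x).s i) * (zp zt ((ρ x).s j) * (v k * v l)) := by
      calc zp zt ((ρ x).s i) * v k * (zp zt ((ρ x).s j) * v l)
          = zp zt ((ρ x).s i) * (v k * zp zt ((ρ x).s j)) * v l := by group
        _ = zp zt ((ρ x).s i) * (zp zt ((ρ x).s j) * v k) * v l := by
            rw [zp_comm zt M.z_comm]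
        _ = _ := by group
    rw [h7] at h3
    exact (N.mul_mem_cancel_left (hzp _)).1 ((N.mul_mem_cancel_left (hzp _)).1 h3)

/-- (x1) -/
theorem normal_top (M : IsModel Qt zt v ρ) (N : Subgroup X) (hN : N.Normal) {g : X}
    (hg : g ∈ N) (hgQ : g ∉ Qt) : N = ⊤ := by
  have hQN : Qt ≤ N := Q_le_normal M N hN hg (fun h0 => hgQ (h0 ▸ Qt.one_mem))
    (fun h0 => hgQ (h0 ▸ M.z_mem))
  have hr := range_sg M
  -- the image of N in A5
  let f : X →* alternatingGroup (Fin 5) := (sg ρ).codRestrict (alternatingGroup (Fin 5))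
    (fun x => by rw [Equiv.Perm.mem_alternatingGroup]; exact sign_sg M x)
  have hf : Function.Surjective f := by
    rintro ⟨τ, hτ⟩
    obtain ⟨x, hx⟩ := exists_sg M τ (Equiv.Perm.mem_alternatingGroup.1 hτ)
    exact ⟨x, Subtype.ext hx⟩
  have hfker : ∀ x, f x = 1 → x ∈ Qt := fun x hx => by
    rw [mem_Q_iff M]
    exact congrArg Subtype.val hx
  have hNf : (N.map f).Normal := hN.map f hf
  have hsimple : IsSimpleGroup (alternatingGroup (Fin 5)) := alternatingGroup.isSimpleGroup (by simp)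
  rcases hNf.eq_bot_or_eq_top with h1 | h1
  · exfalso
    apply hgQ
    apply hfker
    have h2 : f g ∈ N.map f := ⟨g, hg, rfl⟩
    rw [h1, Subgroup.mem_bot] at h2
    exact h2
  · rw [Subgroup.eq_top_iff']
    intro x
    have h2 : f x ∈ N.map f := h1 ▸ Subgroup.mem_top _
    obtain ⟨n, hn, hnx⟩ := h2
    have h3 : f (n⁻¹ * x) = 1 := by rw [map_mul, map_inv, hnx]; group
    have h4 := N.mul_mem hn (hQN (hfker _ h3))
    rwa [mul_inv_cancel_left] at h4

/-- the permutation of a 3-element outside `Qt` -/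
theorem conj_three (M : IsModel Qt zt v ρ) {w : X} (hw : ∃ k, w ^ (3 ^ k) = 1) (hw1 : w ∉ Qt) :
    ∃ μ : Equiv.Perm (Fin 5), sg ρ w
      = MulAut.conj μ (Equiv.swap (0 : Fin 5) 1 * Equiv.swap 0 2) := by
  obtain ⟨k, hk⟩ := hw
  have h3 : Nat.Prime 3 := Nat.prime_three
  have hc1 : sg ρ w ≠ 1 := fun h0 => hw1 ((mem_Q_iff M).2 h0)
  have hck : (sg ρ w) ^ (3 ^ k) = 1 := by rw [← map_pow, hk, map_one]
  obtain ⟨j, -, hj⟩ := (Nat.dvd_prime_pow h3).1 (orderOf_dvd_of_pow_eq_one hck)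
  have hdvd : orderOf (sg ρ w) ∣ 120 := by
    have := _root_.orderOf_dvd_natCard (sg ρ w)
    rw [Nat.card_perm, Nat.card_eq_fintype_card, Fintype.card_fin] at this
    exact this
  have hord : orderOf (sg ρ w) = 3 := by
    rw [hj] at hdvd ⊢
    have h1 : j ≠ 0 := by
      rintro rfl
      rw [pow_zero] at hj
      exact hc1 (orderOf_eq_one_iff.1 hj)
    have h2 : j < 2 := by
      by_contra hcon
      have h4 : 3 ^ 2 ∣ 3 ^ j := pow_dvd_pow 3 (by omega)
      have := h4.trans hdvd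
      norm_num at this
    have : j = 1 := by omega
    rw [this, pow_one]
  have hcyc : (sg ρ w).IsCycle := Equiv.Perm.isCycle_of_prime_order' (by rw [hord]; exact h3)
    (by rw [hord]; simp)
  have h3c : (Equiv.swap (0 : Fin 5) 1 * Equiv.swap 0 2).IsThreeCycle :=
    Equiv.Perm.isThreeCycle_swap_mul_swap_same (by decide) (by decide) (by decide)
  have hconj : IsConj (Equiv.swap (0 : Fin 5) 1 * Equiv.swap 0 2) (sg ρ w) := by
    refine h3c.isCycle.isConj hcyc ?_
    rw [h3c.card_support, ← hcyc.orderOf, hord]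
  obtain ⟨μ, hμ⟩ := isConj_iff.1 hconj
  exact ⟨μ, by rw [MulAut.conj_apply, hμ]⟩

/-- the permutation of a 5-element outside `Qt` -/
theorem conj_five (M : IsModel Qt zt v ρ) {w : X} (hw : ∃ k, w ^ (5 ^ k) = 1) (hw1 : w ∉ Qt) :
    ∃ μ : Equiv.Perm (Fin 5), sg ρ w = MulAut.conj μ (finRotate 5) := by
  obtain ⟨k, hk⟩ := hw
  have h3 : Nat.Prime 5 := Nat.prime_five
  have hc1 : sg ρ w ≠ 1 := fun h0 => hw1 ((mem_Q_iff M).2 h0)
  have hck : (sg ρ w) ^ (5 ^ k) = 1 := by rw [← map_pow, hk, map_one]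
  obtain ⟨j, -, hj⟩ := (Nat.dvd_prime_pow h3).1 (orderOf_dvd_of_pow_eq_one hck)
  have hdvd : orderOf (sg ρ w) ∣ 120 := by
    have := _root_.orderOf_dvd_natCard (sg ρ w)
    rw [Nat.card_perm, Nat.card_eq_fintype_card, Fintype.card_fin] at this
    exact this
  have hord : orderOf (sg ρ w) = 5 := by
    rw [hj] at hdvd ⊢
    have h1 : j ≠ 0 := by
      rintro rfl
      rw [pow_zero] at hj
      exact hc1 (orderOf_eq_one_iff.1 hj)
    have h2 : j < 2 := by
      by_contra hcon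
      have h4 : 5 ^ 2 ∣ 5 ^ j := pow_dvd_pow 5 (by omega)
      have := h4.trans hdvd
      norm_num at this
    have : j = 1 := by omega
    rw [this, pow_one]
  have hcyc : (sg ρ w).IsCycle := Equiv.Perm.isCycle_of_prime_order' (by rw [hord]; exact h3)
    (by rw [hord]; simp)
  have hconj : IsConj (finRotate 5) (sg ρ w) := by
    refine (isCycle_finRotate (n := 3)).isConj hcyc ?_
    rw [← hcyc.orderOf, hord, support_finRotate]
    simp
  obtain ⟨μ, hμ⟩ := isConj_iff.1 hconj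
  exact ⟨μ, by rw [MulAut.conj_apply, hμ]⟩

theorem conj_eq_one_iff {μ a : Equiv.Perm (Fin 5)} : MulAut.conj μ a = 1 ↔ a = 1 :=
  map_eq_one_iff _ (MulAut.conj μ).injective

theorem sign_conj (μ a : Equiv.Perm (Fin 5)) :
    Equiv.Perm.sign (MulAut.conj μ a) = Equiv.Perm.sign a := by
  rw [MulAut.conj_apply, Equiv.Perm.sign_mul, Equiv.Perm.sign_mul, Equiv.Perm.sign_inv,
    mul_comm, ← mul_assoc, Int.units_mul_self, one_mul]

/-- (x3) -/
theorem three (M : IsModel Qt zt v ρ) {w : X} (hw : ∃ k, w ^ (3 ^ k) = 1) (hw1 : w ∉ Qt) :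
    ∃ g : X, w * (g * w * g⁻¹) ∉ Qt ∧ (w * (g * w * g⁻¹)) ^ 5 ∈ Qt := by
  obtain ⟨μ, hμ⟩ := conj_three M hw hw1
  obtain ⟨g, hg⟩ := exists_sg M (MulAut.conj μ (finRotate 5 ^ 2)) (by
    rw [sign_conj]
    decide)
  refine ⟨g, ?_, ?_⟩
  · rw [mem_Q_iff M]
    simp only [map_mul, map_inv, hμ, hg]
    simp only [← map_mul, ← map_inv]
    rw [conj_eq_one_iff]
    decide +kernel
  · rw [mem_Q_iff M]
    simp only [map_mul, map_inv, map_pow, hμ, hg]
    simp only [← map_mul, ← map_inv, ← map_pow]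
    rw [conj_eq_one_iff]
    decide +kernel

/-- (x4) -/
theorem five_A (M : IsModel Qt zt v ρ) {w : X} (hw : ∃ k, w ^ (5 ^ k) = 1) (hw1 : w ∉ Qt) :
    ∃ g a b : X, a ∈ _root_.Subgroup.closure {w, g * w * g⁻¹} ∧ b ∈ closure {w, g * w * g⁻¹} ∧ a ∉ Qt ∧ b ∉ Qt ∧
      a * b ∉ Qt ∧ a * a ∈ Qt ∧ b * b ∈ Qt ∧ a * b * a⁻¹ * b⁻¹ ∈ Qt := by
  obtain ⟨μ, hμ⟩ := conj_five M hw hw1
  obtain ⟨g, hg⟩ := exists_sg M (MulAut.conj μ (Equiv.swap (2 : Fin 5) 3 * Equiv.swap 3 4)) (by
    rw [sign_conj]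
    decide)
  have hw' : w ∈ _root_.Subgroup.closure {w, g * w * g⁻¹} := _root_.Subgroup.subset_closure (by simp)
  have hg' : g * w * g⁻¹ ∈ _root_.Subgroup.closure {w, g * w * g⁻¹} := _root_.Subgroup.subset_closure (by simp)
  refine ⟨g, w * w * (g * w * g⁻¹)⁻¹, (g * w * g⁻¹) * (g * w * g⁻¹) * w * (g * w * g⁻¹),
    mul_mem (mul_mem hw' hw') (inv_mem hg'), mul_mem (mul_mem (mul_mem hg' hg') hw') hg',
    ?_, ?_, ?_, ?_, ?_, ?_⟩
  all_goals
    rw [mem_Q_iff M]
    simp only [map_mul, map_inv, hμ, hg]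
    simp only [← map_mul, ← map_inv]
    rw [conj_eq_one_iff]
    decide +kernel

theorem conj_pow (M : IsModel Qt zt v ρ) (w : X) (n : ℕ) (i : Fin 5) :
    ∃ a, w ^ n * v i * (w ^ n)⁻¹ = zp zt a * v ((sg ρ w ^ n) i) := by
  refine ⟨(ρ (w ^ n)).s i, ?_⟩
  rw [M.conj]
  congr 3
  rw [← map_pow, sg_apply]

/-- (x5) -/
theorem five_B (M : IsModel Qt zt v ρ) {w : X} (hw : ∃ k, w ^ (5 ^ k) = 1) (hw1 : w ∉ Qt) :
    ∃ q ∈ Qt, v 0 ∈ _root_.Subgroup.closure {w, q * w * q⁻¹} ∧ v 1 ∈ closure {w, q * w * q⁻¹} := by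
  refine ⟨v 0, M.v_mem 0, ?_⟩
  set K : Subgroup X := _root_.Subgroup.closure {w, v 0 * w * (v 0)⁻¹} with hK
  have hwK : w ∈ K := _root_.Subgroup.subset_closure (by simp)
  have hgK : v 0 * w * (v 0)⁻¹ ∈ K := _root_.Subgroup.subset_closure (by simp)
  have hc := zp_comm zt M.z_comm
  have hinv : ∀ i, (v i)⁻¹ = v i := fun i => inv_eq_of_mul_eq_one_left (M.v_sq i)
  obtain ⟨μ, hμ⟩ := conj_five M hw hw1
  set c : Equiv.Perm (Fin 5) := sg ρ w with hcdef
  have hinj : ∀ n m : ℕ, n < 5 → m < 5 → (c ^ n) 0 = (c ^ m) 0 → n = m := by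
    intro n m hn hm h0
    rw [hμ, ← map_pow, ← map_pow, MulAut.conj_apply, MulAut.conj_apply] at h0
    simp only [Equiv.Perm.mul_apply] at h0
    have h1 := μ.injective h0
    revert h1
    generalize μ⁻¹ 0 = x
    interval_cases n <;> interval_cases m <;> revert x <;> decide
  have htrans : ∀ i : Fin 5, ∃ n : ℕ, (c ^ n) 0 = i := by
    intro i
    have h1 : ∀ x y : Fin 5, ∃ n : Fin 5, (finRotate 5 ^ (n : ℕ)) x = y := by decide +kernel
    obtain ⟨n, hn⟩ := h1 (μ⁻¹ 0) (μ⁻¹ i)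
    refine ⟨n, ?_⟩
    rw [hμ, ← map_pow, MulAut.conj_apply]
    simp only [Equiv.Perm.mul_apply]
    rw [hn]
    simp
  -- the elements v_{c^{n+1} 0} v_{c^n 0} up to z
  have hel : ∀ n : ℕ, ∃ a, zp zt a * (v ((c ^ (n + 1)) 0) * v ((c ^ n) 0)) ∈ K := by
    intro n
    have h1 : w ^ n * (w * (v 0 * w * (v 0)⁻¹)⁻¹) * (w ^ n)⁻¹ ∈ K :=
      K.mul_mem (K.mul_mem (K.pow_mem hwK n) (K.mul_mem hwK (K.inv_mem hgK)))
        (K.inv_mem (K.pow_mem hwK n))
    obtain ⟨a, ha⟩ := conj_pow M w (n + 1) 0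
    obtain ⟨b, hb⟩ := conj_pow M w n 0
    refine ⟨a + b, ?_⟩
    have h2 : w ^ n * (w * (v 0 * w * (v 0)⁻¹)⁻¹) * (w ^ n)⁻¹
        = (w ^ (n + 1) * v 0 * (w ^ (n + 1))⁻¹) * (w ^ n * v 0 * (w ^ n)⁻¹)⁻¹ := by
      rw [pow_succ]; group
    rw [h2, ha, hb] at h1
    have h3 : zp zt a * v ((c ^ (n + 1)) 0) * (zp zt b * v ((c ^ n) 0))⁻¹
        = zp zt (a + b) * (v ((c ^ (n + 1)) 0) * v ((c ^ n) 0)) := by
      have h4 : (zp zt b)⁻¹ = zp zt b := inv_eq_of_mul_eq_one_left (zp_sq M b)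
      rw [mul_inv_rev, hinv, h4]
      calc zp zt a * v ((c ^ (n + 1)) 0) * (v ((c ^ n) 0) * zp zt b)
          = zp zt a * ((v ((c ^ (n + 1)) 0) * v ((c ^ n) 0)) * zp zt b) := by group
        _ = zp zt a * (zp zt b * (v ((c ^ (n + 1)) 0) * v ((c ^ n) 0))) := by rw [hc]
        _ = _ := by rw [zp_add zt M.z_sq, mul_assoc]
    rwa [h3] at h1
  -- z is in K
  have hz : zt ∈ K := by
    obtain ⟨a, ha⟩ := hel 1
    obtain ⟨b, hb⟩ := hel 0
    have n10 : (c ^ (1 + 1)) 0 ≠ (c ^ 1) 0 := fun h0 => by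
      have := hinj 2 1 (by norm_num) (by norm_num) h0; omega
    have n20 : (c ^ (1 + 1)) 0 ≠ (c ^ 0) 0 := fun h0 => by
      have := hinj 2 0 (by norm_num) (by norm_num) h0; omega
    have n21 : (c ^ 1) 0 ≠ (c ^ 0) 0 := fun h0 => by
      have := hinj 1 0 (by norm_num) (by norm_num) h0; omega
    have e1 : (c ^ (0 + 1)) 0 = (c ^ 1) 0 := rfl
    rw [e1] at hb
    generalize (c ^ (1 + 1)) 0 = i at *
    generalize (c ^ 1) 0 = j at *
    generalize (c ^ 0) 0 = k at *
    have hAB := K.mul_mem (K.mul_mem ha hb) (K.inv_mem (K.mul_mem hb ha))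
    have e2 : zp zt a * (v i * v j) * (zp zt b * (v j * v k))
        = zp zt a * zp zt b * (v i * v k) := by
      calc zp zt a * (v i * v j) * (zp zt b * (v j * v k))
          = zp zt a * ((v i * v j) * zp zt b) * (v j * v k) := by group
        _ = zp zt a * (zp zt b * (v i * v j)) * (v j * v k) := by rw [hc]
        _ = zp zt a * zp zt b * (v i * (v j * v j) * v k) := by group
        _ = _ := by rw [M.v_sq, mul_one]
    have e3 : zp zt b * (v j * v k) * (zp zt a * (v i * v j))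
        = zp zt a * zp zt b * (zt * (v i * v k)) := by
      have e4 : v j * v k * (v i * v j) = zt * (v i * v k) := by
        calc v j * v k * (v i * v j) = v j * (v k * v i) * v j := by group
          _ = v j * (zt * (v i * v k)) * v j := by rw [M.v_anti k i n20.symm]
          _ = (v j * zt) * v i * (v k * v j) := by group
          _ = (zt * v j) * v i * (zt * (v j * v k)) := by rw [M.z_comm, M.v_anti k j n21.symm]
          _ = zt * (v j * v i) * zt * v j * v k := by group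
          _ = zt * (zt * (v i * v j)) * zt * v j * v k := by rw [M.v_anti j i n10.symm]
          _ = (zt * zt) * v i * (v j * zt) * v j * v k := by group
          _ = (zt * zt) * v i * (zt * v j) * v j * v k := by rw [M.z_comm (v j)]
          _ = (zt * zt) * (v i * zt) * (v j * v j) * v k := by group
          _ = (zt * zt) * (zt * v i) * (v j * v j) * v k := by rw [M.z_comm (v i)]
          _ = zt * (v i * v k) := by rw [M.z_sq, M.v_sq]; group
      calc zp zt b * (v j * v k) * (zp zt a * (v i * v j))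
          = zp zt b * ((v j * v k) * zp zt a) * (v i * v j) := by group
        _ = zp zt b * (zp zt a * (v j * v k)) * (v i * v j) := by rw [hc]
        _ = (zp zt b * zp zt a) * (v j * v k * (v i * v j)) := by group
        _ = (zp zt a * zp zt b) * (v j * v k * (v i * v j)) := by rw [hc]
        _ = _ := by rw [e4]
    rw [e2, e3] at hAB
    have e5 : zp zt a * zp zt b * (v i * v k) * (zp zt a * zp zt b * (zt * (v i * v k)))⁻¹
        = zt := by
      have hzinv : zt⁻¹ = zt := inv_eq_of_mul_eq_one_left M.z_sq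
      calc zp zt a * zp zt b * (v i * v k) * (zp zt a * zp zt b * (zt * (v i * v k)))⁻¹
          = (zp zt a * zp zt b) * zt⁻¹ * (zp zt a * zp zt b)⁻¹ := by group
        _ = (zp zt a * zp zt b) * zt * (zp zt a * zp zt b)⁻¹ := by rw [hzinv]
        _ = zt := by rw [M.z_comm]; group
    rwa [e5] at hAB
  have hzp : ∀ a, zp zt a ∈ K := zp_mem K zt hz
  have hel' : ∀ n : ℕ, v ((c ^ (n + 1)) 0) * v ((c ^ n) 0) ∈ K := by
    intro n
    obtain ⟨a, ha⟩ := hel n
    exact (K.mul_mem_cancel_left (hzp a)).1 ha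
  have hv0 : ∀ n : ℕ, v ((c ^ n) 0) * v 0 ∈ K := by
    intro n
    induction n with
    | zero =>
      rw [pow_zero]
      show v 0 * v 0 ∈ K
      rw [M.v_sq]
      exact K.one_mem
    | succ n ih =>
      have h1 := K.mul_mem (hel' n) ih
      have h2 : v ((c ^ (n + 1)) 0) * v ((c ^ n) 0) * (v ((c ^ n) 0) * v 0)
          = v ((c ^ (n + 1)) 0) * v 0 := by
        calc v ((c ^ (n + 1)) 0) * v ((c ^ n) 0) * (v ((c ^ n) 0) * v 0)
            = v ((c ^ (n + 1)) 0) * (v ((c ^ n) 0) * v ((c ^ n) 0)) * v 0 := by group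
          _ = _ := by rw [M.v_sq, mul_one]
      rwa [h2] at h1
  have hvi : ∀ i, v i * v 0 ∈ K := by
    intro i
    obtain ⟨n, rfl⟩ := htrans i
    exact hv0 n
  have hvv : ∀ i j, i ≠ j → v i * v j ∈ K := by
    intro i j _
    have h1 := K.mul_mem (hvi i) (K.inv_mem (hvi j))
    have h2 : v i * v 0 * (v j * v 0)⁻¹ = v i * v j := by
      rw [mul_inv_rev, hinv, hinv]
      calc v i * v 0 * (v 0 * v j) = v i * (v 0 * v 0) * v j := by group
        _ = _ := by rw [M.v_sq, mul_one]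
    rwa [h2] at h1
  exact ⟨v_mem_of_pairs M K hz hvv 0, v_mem_of_pairs M K hz hvv 1⟩

end Cfsg.Agent.J2Sylow.TFX
end

-- part: J2Sylow/TF
section
set_option autoImplicit false
set_option linter.style.haveILetI false
set_option linter.unusedSectionVars false

/-!
# The Thompson subgroup step (piece C of step (4) of S1776)
-/

namespace Cfsg.Agent.J2Sylow.TF

open Subgroup Cfsg.Agent.J2Type.Model Cfsg.Agent.J2Sylow.TFBase Cfsg.Agent.J2Sylow.TFGroup

theorem exists_char {H X : Type*} [Group H] [Finite H] [Group X] (π : H →* X)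
    (hπ : Function.Surjective π) (hker : Odd (Nat.card π.ker))
    {Qt : Subgroup X} {zt : X} {v : Fin 5 → X} {ρ : X →* SP} (M : IsModel Qt zt v ρ)
    (hX : Nat.card X = 1920)
    {r : ℕ} (hr : r.Prime) (hr2 : r ≠ 2) (P : Subgroup H) (hPn : P.Normal) (hP : IsPGroup r P)
    (hPk : P ≤ π.ker) (hPi : ¬ r ∣ P.relIndex π.ker)
    {y : H} (hy2 : y * y = 1) (hyQ : π y ∈ Qt) (hy1 : π y ≠ 1) (hyz : π y ≠ zt)
    (hact : ∃ x ∈ P, y * x ≠ x * y) (S : Subgroup H) (hS : IsPGroup r S) (hSi : ¬ r ∣ S.index) :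
    ∃ Q0 : Subgroup H, Q0.Normal ∧ Q0 ≠ ⊥ ∧ Q0 ≤ S ∧ (Q0.subgroupOf S).Characteristic := by
  classical
  haveI : Fact r.Prime := ⟨hr⟩
  haveI : Finite X := Nat.finite_of_card_ne_zero (by rw [hX]; norm_num)
  have hr4 : Nat.Coprime r 4 := by
    have : Nat.Coprime r (2 ^ 2) := Nat.Coprime.pow_right 2 ((Nat.coprime_primes hr Nat.prime_two).2 hr2)
    simpa using this
  -- `P ≤ S`
  have hPS : P ≤ S := by
    have h1 : IsPGroup r ↥(P ⊔ S) := hP.to_sup_of_normal_left hS
    have h2 := (hS.toSylow hSi).is_maximal' h1 le_sup_right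
    have h3 : P ⊔ S = S := h2
    rw [← h3]; exact le_sup_left
  -- `S ∩ ker π ≤ P`
  have hSk : ∀ s ∈ S, π s = 1 → s ∈ P := by
    intro s hs hs1
    have h1 : IsPGroup r ↥(S ⊓ π.ker) := hS.to_le inf_le_left
    have h2 : P ≤ S ⊓ π.ker := le_inf hPS hPk
    have h3 : ¬ r ∣ P.relIndex (S ⊓ π.ker) := by
      intro hd
      apply hPi
      rw [← relIndex_mul_relIndex P (S ⊓ π.ker) π.ker h2 inf_le_right]
      exact Dvd.dvd.mul_right hd _
    obtain ⟨n, hn⟩ := h1.index (P.subgroupOf (S ⊓ π.ker))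
    have h4 : P.relIndex (S ⊓ π.ker) = r ^ n := hn
    have h5 : n = 0 := by
      by_contra h6
      apply h3
      rw [h4]
      exact dvd_pow_self r h6
    rw [h5, pow_zero] at h4
    exact (relIndex_eq_one.1 h4) ⟨hs, hs1⟩
  -- elements of `S` over `Qt`
  have hSQ : ∀ s ∈ S, π s ∈ Qt → s ∈ P := by
    intro s hs hsQ
    apply hSk s hs
    obtain ⟨k, hk⟩ := hS ⟨s, hs⟩
    have hk' : s ^ (r ^ k) = 1 := congrArg Subtype.val hk
    have h1 : π s ^ (r ^ k) = 1 := by rw [← map_pow, hk', map_one]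
    have h2 := TFX.Q_two M _ hsQ
    exact orderOf_eq_one_iff.1 (Nat.Coprime.eq_one_of_dvd
      (Nat.Coprime.coprime_dvd_left (orderOf_dvd_of_pow_eq_one h1) (Nat.Coprime.pow_left k hr4))
      (orderOf_dvd_of_pow_eq_one h2))
  -- 2-elements over the image of a normal subgroup
  have htwo : ∀ (D : Subgroup H), D.Normal → ∀ t : H, (∃ k : ℕ, t ^ (2 ^ k) = 1) → π t ∈ D.map π →
      t ∈ D := by
    intro D hD t ⟨k, hk⟩ ht
    refine mem_of_map hD hk (m := Nat.card π.ker) ?_ ?_ ht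
    · intro x hx
      have h1 : (⟨x, hx⟩ : π.ker) ^ Nat.card π.ker = 1 := pow_card_eq_one'
      have h2 : x ^ Nat.card π.ker = 1 := congrArg Subtype.val h1
      rw [h2]; exact D.one_mem
    · exact Nat.Coprime.pow_left k (Nat.coprime_two_left.2 hker)
  -- the alternative for normal subgroups
  have halt : ∀ (D : Subgroup H), D.Normal → D.map π ≤ Qt ∨ D.map π = ⊤ := by
    intro D hD
    by_cases h1 : D.map π ≤ Qt
    · left; exact h1
    · right
      obtain ⟨g, hg, hgQ⟩ := Set.not_subset.1 h1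
      exact TFX.normal_top M _ (hD.map π hπ) hg hgQ
  -- `P ≤ D`, `D` covers `X`: then `S ≤ D`
  have hcovS : ∀ (D : Subgroup H), D.Normal → P ≤ D → D.map π = ⊤ → S ≤ D := by
    intro D hD hPD hDt s hs
    obtain ⟨k, hk⟩ := hS ⟨s, hs⟩
    have hk' : s ^ (r ^ k) = 1 := congrArg Subtype.val hk
    refine mem_of_map hD hk' (m := D.relIndex π.ker) ?_ ?_ (by rw [hDt]; exact mem_top _)
    · intro x hx
      have h1 : D.relIndex π.ker = Nat.card (π.ker.map (QuotientGroup.mk' D)) := by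
        have h2 := relIndex_ker (QuotientGroup.mk' D) (K := π.ker)
        rwa [QuotientGroup.ker_mk'] at h2
      have h2 : (QuotientGroup.mk' D) x ∈ π.ker.map (QuotientGroup.mk' D) := ⟨x, hx, rfl⟩
      have h3 : (⟨_, h2⟩ : π.ker.map (QuotientGroup.mk' D)) ^ Nat.card (π.ker.map (QuotientGroup.mk' D)) = 1 :=
        pow_card_eq_one'
      have h4 := congrArg Subtype.val h3
      rw [h1]
      have h5 : (QuotientGroup.mk' D) (x ^ Nat.card (π.ker.map (QuotientGroup.mk' D))) = 1 := by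
        rw [map_pow]; exact h4
      exact (QuotientGroup.eq_one_iff _).1 h5
    · refine Nat.Coprime.pow_left k ((Nat.Prime.coprime_iff_not_dvd hr).2 ?_)
      intro h1
      exact hPi (h1.trans (relIndex_dvd_of_le_left π.ker hPD))
  -- `C_S(P) ≤ P`
  have hCP : ∀ s ∈ S, (∀ p ∈ P, s * p = p * s) → s ∈ P := by
    intro s hs hsP
    by_contra hsn
    have hDn : (centralizer (P : Set H)).Normal := inferInstance
    have hsD : s ∈ centralizer (P : Set H) := by
      rw [mem_centralizer_iff]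
      intro p hp
      exact (hsP p hp).symm
    rcases halt _ hDn with h1 | h1
    · exact hsn (hSQ s hs (h1 ⟨s, hsD, rfl⟩))
    · have h2 : y ∈ centralizer (P : Set H) :=
        htwo _ hDn y ⟨1, by rw [pow_one, pow_two]; exact hy2⟩ (by rw [h1]; exact mem_top _)
      obtain ⟨x, hx, hyx⟩ := hact
      exact hyx (mem_centralizer_iff.1 h2 x hx).symm
  set V := Om r P with hV
  have hVn : V.Normal := Om_normal hPn
  have hVb : V ≠ ⊥ := by
    obtain ⟨x, hx, hyx⟩ := hact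
    refine Om_ne_bot hr hP ⟨x, hx, ?_⟩
    rintro rfl
    exact hyx (by rw [mul_one, one_mul])
  -- Case 0
  by_cases hSP : S ≤ P
  · have hSPe : P = S := le_antisymm hPS hSP
    refine ⟨P, hPn, ?_, hPS, ?_⟩
    · intro h1
      exact hVb (le_bot_iff.1 (h1 ▸ Om_le))
    · rw [hSPe, subgroupOf_self]
      infer_instance
  set D := centralizer (V : Set H) with hD
  have hDn : D.Normal := inferInstance
  have hPD : P ≤ D := by
    intro p hp
    rw [hD, mem_centralizer_iff]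
    intro w hw
    exact hw.2.2 p hp
  have hmemD : ∀ t : H, (∀ w ∈ V, t * w = w * t) → t ∈ D := by
    intro t ht
    rw [hD, mem_centralizer_iff]
    exact fun w hw => (ht w hw).symm
  rcases halt D hDn with hDQ | hDt
  swap
  · -- Case 1: `V = Ω₁(Z(S))`
    have hSD := hcovS D hDn hPD hDt
    refine ⟨V, hVn, hVb, Om_le.trans hPS, ?_⟩
    rw [characteristic_iff_le_comap]
    intro ϕ s hs
    rw [mem_subgroupOf] at hs
    rw [mem_comap, mem_subgroupOf]
    have h1 : ∀ t : S, s * t = t * s := by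
      intro t
      apply Subtype.ext
      exact mem_centralizer_iff.1 (hSD t.2) _ hs
    have h2 : ∀ t : S, ϕ s * t = t * ϕ s := by
      intro t
      obtain ⟨t', rfl⟩ := ϕ.surjective t
      rw [← map_mul, h1, map_mul]
    have h3 : ∀ p ∈ P, ((ϕ s : S) : H) * p = p * ((ϕ s : S) : H) := by
      intro p hp
      exact congrArg Subtype.val (h2 ⟨p, hPS hp⟩)
    refine ⟨hCP _ (ϕ s).2 h3, ?_, h3⟩
    have h4 : s ^ r = 1 := Subtype.ext (by rw [coe_pow]; exact hs.2.1)
    have h5 : (ϕ s) ^ r = 1 := by rw [← map_pow, h4, map_one]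
    exact congrArg Subtype.val h5
  -- numbers
  have hcardS : Nat.card (S.map π) ∣ 1920 := by
    rw [← hX]; exact card_subgroup_dvd_card _
  have hSmap : IsPGroup r (S.map π) := hS.map π
  obtain ⟨n, hn⟩ := hSmap.exists_card_eq
  have hn0 : n ≠ 0 := by
    rintro rfl
    rw [pow_zero] at hn
    apply hSP
    intro s hs
    apply hSk s hs
    have h1 : S.map π = ⊥ := eq_bot_of_card_eq _ hn
    have h2 : π s ∈ S.map π := ⟨s, hs, rfl⟩
    rw [h1] at h2
    exact mem_bot.1 h2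
  have h15 : r ^ n ∣ 15 := by
    rw [hn] at hcardS
    have h1 : Nat.Coprime (r ^ n) (2 ^ 7) :=
      Nat.Coprime.pow n 7 ((Nat.coprime_primes hr Nat.prime_two).2 hr2)
    have h2 : (1920 : ℕ) = 2 ^ 7 * 15 := by norm_num
    rw [h2] at hcardS
    exact h1.dvd_of_dvd_mul_left hcardS
  have hr35 : r = 3 ∨ r = 5 := by
    have h1 : r ∣ 15 := (dvd_pow_self r hn0).trans h15
    have h2 : (15 : ℕ) = 3 * 5 := by norm_num
    rw [h2, hr.dvd_mul] at h1
    rcases h1 with h1 | h1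
    · left; exact (Nat.prime_dvd_prime_iff_eq hr Nat.prime_three).1 h1
    · right; exact (Nat.prime_dvd_prime_iff_eq hr Nat.prime_five).1 h1
  have hn1 : n = 1 := by
    by_contra h1
    have h2 : r ^ 2 ∣ 15 := (pow_dvd_pow r (by omega)).trans h15
    rcases hr35 with rfl | rfl <;> revert h2 <;> decide
  have hPidx : P.relIndex S ∣ r := by
    have h1 : π.ker.relIndex S = Nat.card (S.map π) := relIndex_ker π (K := S)
    have h2 : P.relIndex S = π.ker.relIndex S := by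
      rw [← inf_relIndex_right π.ker S]
      congr 1
      exact le_antisymm (le_inf hPk hPS) fun s hs => hSk s hs.2 hs.1
    rw [h2, h1, hn, hn1, pow_one]
  -- Case 2
  rcases exists_J_or hr hPn hPS hS hVb hPidx with h1 | ⟨x, hxS, hxP, hx⟩
  · exact h1
  exfalso
  have hxQ : π x ∉ Qt := fun h1 => hxP (hSQ x hxS h1)
  obtain ⟨kx, hkx⟩ := hS ⟨x, hxS⟩
  have hxr : x ^ (r ^ kx) = 1 := congrArg Subtype.val hkx
  have hconj : ∀ g : H, Nat.card V ∣ r * Nat.card ↥(V ⊓ centralizer ({g * x * g⁻¹} : Set H)) := by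
    intro g
    rw [card_conj hVn]; exact hx
  have hconjr : ∀ g : H, ∃ k : ℕ, (g * x * g⁻¹) ^ (r ^ k) = 1 := by
    intro g
    refine ⟨kx, ?_⟩
    rw [conj_pow, hxr]; group
  have hDmem : ∀ t ∈ D, π t ∈ Qt := fun t ht => hDQ ⟨t, ht, rfl⟩
  rcases hr35 with rfl | rfl
  · -- `r = 3`
    obtain ⟨g, hg1, hg5⟩ := TFX.three M (w := π x) ⟨kx, by rw [← map_pow, hxr, map_one]⟩ hxQ
    obtain ⟨g', rfl⟩ := hπ g
    set x' := g' * x * g'⁻¹ with hx'
    have hπx' : π x' = π g' * π x * (π g')⁻¹ := by rw [hx', map_mul, map_mul, map_inv]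
    set t0 := x * x' with ht0
    have hπt0 : π t0 = π x * (π g' * π x * (π g')⁻¹) := by rw [ht0, map_mul, hπx']
    obtain ⟨a, m, hm5, ham⟩ := Nat.exists_eq_pow_mul_and_not_dvd (orderOf_pos t0).ne' 5 (by norm_num)
    have ht : (t0 ^ m) ^ (5 ^ a) = 1 := by
      rw [← pow_mul, mul_comm m, ← ham, pow_orderOf_eq_one]
    have hY : t0 ∈ _root_.Subgroup.closure {x, x'} :=
      mul_mem (Subgroup.subset_closure (by simp)) (Subgroup.subset_closure (by simp))
    have h1 := five_element hVn Om_comm Om_exp (x' := x') hx (hconj g') (pow_mem hY m) ⟨a, ht⟩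
    have h2 := hDmem _ (hmemD _ h1)
    rw [map_pow, hπt0] at h2
    apply hg1
    set c := π x * (π g' * π x * (π g')⁻¹) with hc
    have hcop : IsCoprime (m : ℤ) ((5 : ℕ) : ℤ) :=
      Nat.isCoprime_iff_coprime.2
        ((Nat.Prime.coprime_iff_not_dvd (by norm_num : Nat.Prime 5)).2 hm5).symm
    obtain ⟨s, t, hst⟩ := hcop
    have h3 : c = (c ^ m) ^ s * (c ^ 5) ^ t := by
      rw [← zpow_natCast c m, ← zpow_natCast c 5, ← zpow_mul, ← zpow_mul, ← zpow_add]
      have : (m : ℤ) * s + ((5 : ℕ) : ℤ) * t = 1 := by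
        push_cast
        push_cast at hst
        linarith only [hst]
      rw [this, zpow_one]
    rw [h3]
    exact mul_mem (zpow_mem h2 s) (zpow_mem hg5 t)
  · -- `r = 5`
    have key : ∀ (g' : H) (A : Subgroup X) (Qn : Subgroup X) (_ : Qn.Normal)
        (f : X →* X ⧸ Qn) (_ : f = QuotientGroup.mk' Qn) (a b : X), Qn ≤ D.map π →
        a ∈ _root_.Subgroup.closure {π x, π g' * π x * (π g')⁻¹} → b ∈ _root_.Subgroup.closure {π x, π g' * π x * (π g')⁻¹} →
        IsPGroup 2 (closure {f a, f b}) → a * a ∈ Qn → b * b ∈ Qn →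
        a ∈ D.map π ∨ b ∈ D.map π ∨ a * b ∈ D.map π := by
      intro g' _ Qn hQn f hf a b hQD ha hb h2g haa hbb
      set x' := g' * x * g'⁻¹ with hx'
      have hπx' : π x' = π g' * π x * (π g')⁻¹ := by rw [hx', map_mul, map_mul, map_inv]
      have hYmap : (_root_.Subgroup.closure {x, x'}).map π = _root_.Subgroup.closure {π x, π x'} := by
        rw [MonoidHom.map_closure, Set.image_pair]
      have hmem : ∀ c ∈ _root_.Subgroup.closure {π x, π g' * π x * (π g')⁻¹}, f c ∈ (closure {x, x'}).map (f.comp π) := by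
        intro c hc
        rw [← hπx', ← hYmap] at hc
        obtain ⟨y', hy', rfl⟩ := hc
        exact ⟨y', hy', rfl⟩
      obtain ⟨E, hE, hEY, hEA⟩ := exists_lift_two' (f.comp π) (closure {x, x'}) h2g (by
        rw [closure_le]
        rintro _ (rfl | rfl)
        · exact hmem a ha
        · exact hmem b hb)
      obtain ⟨t1, ht1, ht1a⟩ := hEA (f a) (Subgroup.subset_closure (by simp))
      obtain ⟨t2, ht2, ht2b⟩ := hEA (f b) (Subgroup.subset_closure (by simp))
      have hfQ : ∀ c c' : X, f c = f c' → c⁻¹ * c' ∈ Qn := by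
        intro c c' hcc
        rw [hf] at hcc
        exact QuotientGroup.eq.1 hcc
      have e1 : a⁻¹ * π t1 ∈ Qn := hfQ _ _ ht1a.symm
      have e2 : b⁻¹ * π t2 ∈ Qn := hfQ _ _ ht2b.symm
      have hf1 : ∀ c ∈ Qn, f c = 1 := by
        intro c hc
        rw [hf]; exact (QuotientGroup.eq_one_iff c).2 hc
      have hf2 : ∀ c, f c = 1 → c ∈ Qn := by
        intro c hc
        rw [hf] at hc; exact (QuotientGroup.eq_one_iff c).1 hc
      have s1 : t1 * t1 ∈ D := by
        obtain ⟨k, hk⟩ := hE ⟨t1 * t1, E.mul_mem ht1 ht1⟩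
        refine htwo D hDn _ ⟨k, congrArg Subtype.val hk⟩ (hQD ?_)
        apply hf2
        have h3 : f (π t1) = f a := ht1a
        rw [map_mul, map_mul, h3, ← map_mul]
        exact hf1 _ haa
      have s2 : t2 * t2 ∈ D := by
        obtain ⟨k, hk⟩ := hE ⟨t2 * t2, E.mul_mem ht2 ht2⟩
        refine htwo D hDn _ ⟨k, congrArg Subtype.val hk⟩ (hQD ?_)
        apply hf2
        have h3 : f (π t2) = f b := ht2b
        rw [map_mul, map_mul, h3, ← map_mul]
        exact hf1 _ hbb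
      have hDc : ∀ t ∈ D, ∀ w ∈ V, t * w = w * t := fun t ht w hw =>
        (mem_centralizer_iff.1 ht w hw).symm
      have hmain := two_elements (r := 5) (by norm_num) hVn Om_comm Om_exp (x' := x') hx (hconj g')
        ⟨kx, hxr⟩ (hconjr g') hE ht1 ht2 (hEY ht1) (hEY ht2) (hDc _ s1) (hDc _ s2)
      have back : ∀ (c : X) (t : H), c⁻¹ * π t ∈ Qn → t ∈ D → c ∈ D.map π := by
        intro c t hct ht
        have h3 : π t ∈ D.map π := ⟨t, ht, rfl⟩
        have h4 : c = π t * (c⁻¹ * π t)⁻¹ := by group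
        rw [h4]
        exact mul_mem h3 (inv_mem (hQD hct))
      rcases hmain with h3 | h3 | h3
      · left; exact back a t1 e1 (hmemD _ h3)
      · right; left; exact back b t2 e2 (hmemD _ h3)
      · right; right
        refine back (a * b) (t1 * t2) ?_ (hmemD _ h3)
        have h5 : (a * b)⁻¹ * π (t1 * t2) = (b⁻¹ * (a⁻¹ * π t1) * b⁻¹⁻¹) * (b⁻¹ * π t2) := by
          rw [map_mul]; group
        rw [h5]
        exact mul_mem (hQn.conj_mem _ e1 b⁻¹) e2
    by_cases hB : ∀ c ∈ D.map π, c = 1 ∨ c = zt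
    · -- case B
      obtain ⟨q, hq, hv0, hv1⟩ := TFX.five_B M (w := π x) ⟨kx, by rw [← map_pow, hxr, map_one]⟩ hxQ
      obtain ⟨g', rfl⟩ := hπ q
      have h1 := key g' ⊥ ⊥ inferInstance _ rfl (v 0) (v 1) bot_le hv0 hv1 (by
        have h2 : IsPGroup 2 Qt := by
          intro c
          refine ⟨2, ?_⟩
          apply Subtype.ext
          exact TFX.Q_two M _ c.2
        have h3 : _root_.Subgroup.closure {QuotientGroup.mk' (⊥ : Subgroup X) (v 0), QuotientGroup.mk' (⊥ : Subgroup X) (v 1)} ≤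
            Qt.map (QuotientGroup.mk' (⊥ : Subgroup X)) := by
          rw [closure_le]
          rintro _ (rfl | rfl)
          · exact ⟨v 0, M.v_mem 0, rfl⟩
          · exact ⟨v 1, M.v_mem 1, rfl⟩
        exact (h2.map _).to_le h3) (by rw [M.v_sq]; exact one_mem _) (by rw [M.v_sq]; exact one_mem _)
      have hii : ∀ i : Fin 5, i ≠ i + 1 := by decide
      have hvi : ∀ i : Fin 5, v i ≠ 1 ∧ v i ≠ zt := by
        intro i
        constructor
        · intro h2
          have h3 := M.v_anti i (i + 1) (hii i)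
          rw [h2, one_mul, mul_one] at h3
          have h4 : zt = 1 := by
            have : zt * v (i + 1) = 1 * v (i + 1) := by rw [← h3, one_mul]
            exact mul_right_cancel this
          exact M.z_ne h4
        · intro h2
          have h3 := M.v_anti i (i + 1) (hii i)
          rw [h2, M.z_comm (v (i + 1))] at h3
          have h4 : zt = 1 := by
            have : zt * (zt * v (i + 1)) = 1 * (zt * v (i + 1)) := by rw [← h3, one_mul]
            exact mul_right_cancel this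
          exact M.z_ne h4
      rcases h1 with h1 | h1 | h1
      · rcases hB _ h1 with h2 | h2
        · exact (hvi 0).1 h2
        · exact (hvi 0).2 h2
      · rcases hB _ h1 with h2 | h2
        · exact (hvi 1).1 h2
        · exact (hvi 1).2 h2
      · have h3 : v 0 = zp zt 0 * v 1 ∨ v 0 = zp zt 1 * v 1 := by
          rcases hB _ h1 with h2 | h2
          · left
            rw [zp_zero, one_mul]
            calc v 0 = v 0 * (v 1 * v 1) := by rw [M.v_sq, mul_one]
              _ = (v 0 * v 1) * v 1 := by group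
              _ = v 1 := by rw [h2, one_mul]
          · right
            rw [zp_one]
            calc v 0 = v 0 * (v 1 * v 1) := by rw [M.v_sq, mul_one]
              _ = (v 0 * v 1) * v 1 := by group
              _ = zt * v 1 := by rw [h2]
        rcases h3 with h3 | h3
        · have h4 := M.v_inj 0 0 0 1 (by rw [zp_zero, one_mul, one_mul]; rwa [zp_zero, one_mul] at h3)
          exact absurd h4.2 (by decide)
        · have h4 := M.v_inj 0 1 0 1 (by rw [zp_zero, one_mul]; exact h3)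
          exact absurd h4.2 (by decide)
    · -- case A
      push Not at hB
      obtain ⟨c, hc, hc1, hcz⟩ := hB
      have hQD : Qt ≤ D.map π := TFX.Q_le_normal M _ (hDn.map π hπ) hc hc1 hcz
      obtain ⟨g, a, b, ha, hb, haQ, hbQ, habQ, haa, hbb, hab⟩ :=
        TFX.five_A M (w := π x) ⟨kx, by rw [← map_pow, hxr, map_one]⟩ hxQ
      obtain ⟨g', rfl⟩ := hπ g
      have hQn : Qt.Normal := by
        refine ⟨fun q hq g => ?_⟩
        rw [M.mem_Q] at hq ⊢
        rw [map_mul, map_mul, mul_σ, mul_σ, hq, mul_one, map_inv, inv_σ, mul_inv_cancel]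
      have h1 := key g' ⊥ Qt hQn _ rfl a b hQD ha hb (by
        -- a commuting pair of involutions generates a 2-group
        set f := QuotientGroup.mk' Qt with hf
        have hfa : f a * f a = 1 := by
          rw [← map_mul]; exact (QuotientGroup.eq_one_iff _).2 haa
        have hfb : f b * f b = 1 := by
          rw [← map_mul]; exact (QuotientGroup.eq_one_iff _).2 hbb
        have hfab : f a * f b = f b * f a := by
          have h2 : f (a * b * a⁻¹ * b⁻¹) = 1 := (QuotientGroup.eq_one_iff _).2 hab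
          rw [map_mul, map_mul, map_mul, map_inv, map_inv] at h2
          calc f a * f b = (f a * f b * (f a)⁻¹ * (f b)⁻¹) * (f b * f a) := by group
            _ = _ := by rw [h2, one_mul]
        have hcl : ∀ c ∈ _root_.Subgroup.closure {f a, f b}, c * c = 1 ∧ c * f a = f a * c ∧ c * f b = f b * c := by
          intro c hc
          induction hc using closure_induction with
          | mem c hc =>
            rcases hc with rfl | rfl
            · exact ⟨hfa, rfl, hfab⟩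
            · exact ⟨hfb, hfab.symm, rfl⟩
          | one => simp
          | mul c d hc' hd' hc hd =>
            have hcd : c * d = d * c := by
              have : ∀ e ∈ _root_.Subgroup.closure {f a, f b}, c * e = e * c := by
                intro e he
                induction he using closure_induction with
                | mem e he =>
                  rcases he with rfl | rfl
                  · exact hc.2.1
                  · exact hc.2.2
                | one => simp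
                | mul e e' _ _ h3 h4 => rw [← mul_assoc, h3, mul_assoc, h4, mul_assoc]
                | inv e _ h3 => exact ((show Commute c e from h3).inv_right).eq
              exact this d hd'
            refine ⟨?_, ?_, ?_⟩
            · calc c * d * (c * d) = c * (d * c) * d := by group
                _ = (c * c) * (d * d) := by rw [← hcd]; group
                _ = 1 := by rw [hc.1, hd.1, one_mul]
            · rw [mul_assoc, hd.2.1, ← mul_assoc, hc.2.1, mul_assoc]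
            · rw [mul_assoc, hd.2.2, ← mul_assoc, hc.2.2, mul_assoc]
          | inv c _ hc =>
            refine ⟨?_, ?_, ?_⟩
            · rw [← mul_inv_rev, hc.1, inv_one]
            · exact ((show Commute c (f a) from hc.2.1).inv_left).eq
            · exact ((show Commute c (f b) from hc.2.2).inv_left).eq
        intro c
        refine ⟨1, ?_⟩
        apply Subtype.ext
        rw [pow_one, pow_two]
        exact (hcl c c.2).1) haa hbb
      rcases h1 with h1 | h1 | h1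
      · exact haQ (hDQ h1)
      · exact hbQ (hDQ h1)
      · exact habQ (hDQ h1)

end Cfsg.Agent.J2Sylow.TF
end

-- part: J2Sylow/Climb
section
set_option autoImplicit false
set_option linter.unusedSectionVars false
set_option linter.style.haveILetI false

/-!
# Climbing to a Sylow `r`-subgroup (step (C) of the balance proof)
-/

namespace Cfsg.Agent.J2Sylow.Climb

open Subgroup Cfsg.Agent.J2Sylow.Functor Cfsg.Agent.J2Sylow.CoreTools
open Cfsg.Agent.J2Type.Model

universe u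

/-- the statement of `TF.exists_char` -/
def TFStatement : Prop := ∀ {H X : Type u} [Group H] [Finite H] [Group X] (π : H →* X)
    (_ : Function.Surjective π) (_ : Odd (Nat.card π.ker))
    {Qt : Subgroup X} {zt : X} {v : Fin 5 → X} {ρ : X →* SP} (_ : IsModel Qt zt v ρ)
    (_ : Nat.card X = 1920)
    {r : ℕ} (_ : r.Prime) (_ : r ≠ 2) (P : Subgroup H) (_ : P.Normal) (_ : IsPGroup r P)
    (_ : P ≤ π.ker) (_ : ¬ r ∣ P.relIndex π.ker)
    {y : H} (_ : y * y = 1) (_ : π y ∈ Qt) (_ : π y ≠ 1) (_ : π y ≠ zt)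
    (_ : ∃ x ∈ P, y * x ≠ x * y) (S : Subgroup H) (_ : IsPGroup r S) (_ : ¬ r ∣ S.index),
    ∃ Q0 : Subgroup H, Q0.Normal ∧ Q0 ≠ ⊥ ∧ Q0 ≤ S ∧ (Q0.subgroupOf S).Characteristic

variable {G : Type u} [Group G] [Finite G] {h : Setup G} {r : ℕ} {H N : Subgroup G}

omit [Finite G] in
theorem z_sq : h.z * h.z = 1 := by
  show h.φ _ * h.φ _ = 1
  rw [← map_mul, ← map_one h.φ]
  congr 1

omit [Finite G] in
theorem conj_comm {z c x : G} (hc : c * z = z * c) (hx : x * z = z * x) :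
    (c * x * c⁻¹) * z = z * (c * x * c⁻¹) := by
  have h1 : c⁻¹ * z = z * c⁻¹ := by
    calc c⁻¹ * z = c⁻¹ * (z * c) * c⁻¹ := by group
      _ = c⁻¹ * (c * z) * c⁻¹ := by rw [hc]
      _ = _ := by group
  calc c * x * c⁻¹ * z = c * x * (c⁻¹ * z) := by group
    _ = c * (x * z) * c⁻¹ := by rw [h1]; group
    _ = (c * z) * x * c⁻¹ := by rw [hx]; group
    _ = z * (c * x * c⁻¹) := by rw [hc]; group

/-- `N ∩ C(z) ≤ O(C(z))` -/
theorem inf_le (gd : Good h r H N) : N ⊓ centralizer ({h.z} : Set G) ≤ KK h.z := by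
  have hconj : ∀ l ∈ N ⊓ centralizer ({h.z} : Set G), ∀ n ∈ KK h.z, l * n * l⁻¹ ∈ KK h.z :=
    fun l hl n hn => K_conj hl.2 hn
  refine le_trans le_sup_right (le_K (N := KK h.z ⊔ (N ⊓ centralizer ({h.z} : Set G)))
    (sup_le (K_le _) inf_le_right) ?_ ?_)
  · refine odd_sup (K_odd _) (gd.N_odd.of_dvd_nat (card_dvd_of_le inf_le_left)) hconj
  · intro c hc x hx
    obtain ⟨n, hn, l, hl, rfl⟩ := (mem_sup_iff hconj).1 hx
    obtain ⟨k, hk, hkH⟩ := gd.cover c (comm_iff_mem.1 hc)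
    have hkz : k ∈ centralizer ({h.z} : Set G) := K_le _ hk
    have hkc : k * c ∈ centralizer ({h.z} : Set G) := mul_mem hkz hc
    have h1 : c * (n * l) * c⁻¹ = (c * n * c⁻¹) * (k⁻¹ * ((k * c) * l * (k * c)⁻¹) * k) := by
      group
    rw [h1]
    refine mul_mem (mem_sup_left (K_conj hc hn)) ?_
    refine mul_mem (mul_mem (mem_sup_left ((KK h.z).inv_mem hk)) (mem_sup_right ?_)) (mem_sup_left hk)
    have h2 : (k * c) * l * (k * c)⁻¹ ∈ centralizer ({h.z} : Set G) :=
      mul_mem (mul_mem hkc hl.2) (inv_mem hkc)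
    exact ⟨gd.N_norm _ hkH _ hl.1, h2⟩

/-- the coset representative commuting with `z` -/
theorem exists_rep (gd : Good h r H N) {g : G} (hg : g ∈ H) :
    ∃ n ∈ N, g * n ∈ centralizer ({h.z} : Set G) := by
  obtain ⟨n, hn, hc⟩ := exists_commute_coset gd.N_odd z_sq (gd.N_norm g hg) (gd.z_cen g hg)
  exact ⟨n, hn, comm_iff_mem.2 hc⟩

/-- the homomorphism onto `C(z)/O(C(z))` -/
theorem exists_hom (gd : Good h r H N) {X : Type u} [Group X]
    (π : centralizer ({h.z} : Set G) →* X) (hπ : ∀ g, π g = 1 ↔ (g : G) ∈ KK h.z)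
    (H' : Subgroup G) (hH' : H' ≤ H) :
    ∃ f : H' →* X, ∀ (g : H') (c : centralizer ({h.z} : Set G)), (g : G)⁻¹ * (c : G) ∈ N →
      f g = π c := by
  classical
  have key : ∀ c c' : centralizer ({h.z} : Set G), (c : G)⁻¹ * (c' : G) ∈ N → π c = π c' := by
    intro c c' hcc
    have h1 : (c⁻¹ * c' : centralizer ({h.z} : Set G)).1 ∈ KK h.z :=
      inf_le gd ⟨hcc, (c⁻¹ * c').2⟩
    have h2 := (hπ _).2 h1
    rw [map_mul, map_inv] at h2
    exact (inv_mul_eq_one.1 h2)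
  choose n hn hc using fun g : H' => exists_rep gd (hH' g.2)
  have hval : ∀ (g : H') (c : centralizer ({h.z} : Set G)), (g : G)⁻¹ * (c : G) ∈ N →
      π ⟨g * n g, hc g⟩ = π c := by
    intro g c hgc
    apply key
    show ((g : G) * n g)⁻¹ * (c : G) ∈ N
    have : ((g : G) * n g)⁻¹ * (c : G) = (n g)⁻¹ * ((g : G)⁻¹ * (c : G)) := by group
    rw [this]
    exact mul_mem (inv_mem (hn g)) hgc
  refine ⟨MonoidHom.mk' (fun g => π ⟨g * n g, hc g⟩) ?_, hval⟩
  intro g g'
  rw [← map_mul]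
  apply hval
  show ((g * g' : H') : G)⁻¹ * ((g * n g) * (g' * n g')) ∈ N
  have h1 : ((g * g' : H') : G)⁻¹ * ((g * n g) * (g' * n g')) =
      ((g' : G)⁻¹ * n g * ((g' : G)⁻¹)⁻¹) * n g' := by
    push_cast
    group
  rw [h1]
  exact mul_mem (gd.N_norm _ (inv_mem (hH' g'.2)) _ (hn g)) (hn g')

/-- `(C(z), O(C(z)))` is good -/
theorem good_centralizer (hr : r ≠ 1) : Good h r (centralizer ({h.z} : Set G)) (KK h.z) where
  S_le := h.S_le_centralizer_z
  N_le := K_le _
  N_norm := fun g hg x hx => K_conj hg hx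
  N_odd := K_odd _
  z_cen := fun g hg => by
    have h1 := comm_iff_mem.1 hg
    have h2 : h.z * g * h.z⁻¹ * g⁻¹ = 1 := by
      rw [← h1]; group
    rw [h2]; exact one_mem _
  K_le := inf_le_left
  cover := fun g hg => ⟨1, one_mem _, by rw [one_mul]; exact comm_iff_mem.2 hg⟩
  rpart := by
    rw [inf_eq_left.2 (K_le _), relIndex_self]
    intro h1
    exact hr (Nat.dvd_one.1 h1)

omit [Finite G] in
theorem v_sq : h.v * h.v = 1 := by
  show h.φ _ * h.φ _ = 1
  rw [← map_mul, ← map_one h.φ]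
  congr 1

omit [Finite G] in
theorem v_comm_z : h.v * h.z = h.z * h.v := (h.z_comm h.v_mem_S).symm

theorem odd_sq {x : G} {K : Subgroup G} (hK : Odd (Nat.card K)) (hx : x ∈ K) (h2 : x * x = 1) :
    x = 1 := eq_one_of_odd h2 (odd_orderOf_of_mem hK hx)

omit [Finite G] in
theorem v_ne_one : h.v ≠ 1 := by
  intro h1
  have h2 : h.φ Model.T.v = h.φ 1 := by rw [map_one]; exact h1
  exact absurd (h.inj h2) (by decide)

omit [Finite G] in
theorem zv_ne_one : h.z * h.v ≠ 1 := by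
  intro h1
  have h2 : h.φ (Model.T.z * Model.T.v) = h.φ 1 := by rw [map_one, map_mul]; exact h1
  exact absurd (h.inj h2) (by decide)

theorem relIndex_map_subtype {K : Subgroup G} (R : Subgroup K) :
    (R.map K.subtype).relIndex K = R.index := by
  show ((R.map K.subtype).subgroupOf K).index = R.index
  congr 1
  exact comap_map_eq_self_of_injective K.subtype_injective R

theorem isSolvable_S : Group.IsSolvable h.S := by
  haveI : Fact (Nat.Prime 2) := ⟨Nat.prime_two⟩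
  haveI := h.isPGroup_S.isNilpotent
  infer_instance

theorem coprime_S {K : Subgroup G} (hK : Odd (Nat.card K)) :
    (Nat.card h.S).Coprime (Nat.card K) := by
  rw [h.card_S]
  exact Nat.Coprime.pow_left 7 (Nat.coprime_two_left.2 hK)

/-- the invariant Sylow subgroup -/
theorem exists_P (hr : r.Prime) (gd : Good h r H N)
    (hact : ∃ x ∈ KK h.z, (∃ k : ℕ, x ^ (r ^ k) = 1) ∧ h.v * x * h.v⁻¹ = x⁻¹ ∧ x ≠ 1) :
    ∃ P : Subgroup G, P ≤ N ∧ IsPGroup r P ∧ (∀ s ∈ h.S, ∀ x ∈ P, s * x * s⁻¹ ∈ P) ∧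
      ¬ r ∣ P.relIndex N ∧ ¬ r ∣ (P ⊓ KK h.z).relIndex (KK h.z) ∧
      ∃ x ∈ P, h.v * x ≠ x * h.v := by
  classical
  haveI : Fact r.Prime := ⟨hr⟩
  set K1 : Subgroup G := KK h.z ⊓ H with hK1
  have hK1odd : Odd (Nat.card K1) := (K_odd h.z).of_dvd_nat (card_dvd_of_le inf_le_left)
  have hSK1 : h.S ≤ normalizer (K1 : Set G) := by
    intro s hs
    refine mem_normalizer_of_conj' ?_
    intro x hx
    refine ⟨K_conj (h.S_le_centralizer_z hs) hx.1, ?_⟩
    exact H.mul_mem (H.mul_mem (gd.S_le hs) hx.2) (H.inv_mem (gd.S_le hs))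
  have hSN : h.S ≤ normalizer (N : Set G) := fun s hs =>
    mem_normalizer_of_conj' (gd.N_norm s (gd.S_le hs))
  obtain ⟨R0, hR0⟩ := Cfsg.Agent.S0023.result h.S K1 hSK1 (coprime_S hK1odd) (Or.inl isSolvable_S) r
  set R1 : Subgroup G := (R0 : Subgroup K1).map K1.subtype with hR1
  have hR1K1 : R1 ≤ K1 := by rintro _ ⟨x, -, rfl⟩; exact x.2
  have hR1p : IsPGroup r R1 := R0.isPGroup'.map _
  have hR1i : ¬ r ∣ R1.relIndex K1 := by
    rw [relIndex_map_subtype]; exact R0.not_dvd_index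
  obtain ⟨P0, hR1P, hP0⟩ := Cfsg.Agent.S0025.result h.S N hSN (coprime_S gd.N_odd)
    (Or.inl isSolvable_S) r R1 (hR1K1.trans gd.K_le) hR1p hR0
  set P : Subgroup G := (P0 : Subgroup N).map N.subtype with hP
  have hPN : P ≤ N := by rintro _ ⟨x, -, rfl⟩; exact x.2
  have hR1Kz : ¬ r ∣ R1.relIndex (KK h.z) := by
    rw [← relIndex_mul_relIndex R1 K1 (KK h.z) hR1K1 inf_le_left]
    intro hd
    rcases (hr.dvd_mul).1 hd with h1 | h1
    · exact hR1i h1
    · exact gd.rpart h1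
  refine ⟨P, hPN, P0.isPGroup'.map _, ?_, ?_, ?_, ?_⟩
  · intro s hs x hx
    exact (mem_normalizer_iff.1 (hP0 hs) x).1 hx
  · rw [relIndex_map_subtype]; exact P0.not_dvd_index
  · intro hd
    apply hR1Kz
    rw [← relIndex_mul_relIndex R1 (P ⊓ KK h.z) (KK h.z) (le_inf hR1P (hR1K1.trans inf_le_left))
      inf_le_right]
    exact Dvd.dvd.mul_left hd _
  · by_contra hcon
    push Not at hcon
    obtain ⟨x, hxK, ⟨k, hk⟩, hxi, hx1⟩ := hact
    have hvz : h.v ∈ centralizer ({h.z} : Set G) := comm_iff_mem.2 v_comm_z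
    have hAK : zpowers h.v ≤ normalizer (KK h.z : Set G) := by
      rw [zpowers_le]
      exact mem_normalizer_of_conj' fun x hx => K_conj hvz hx
    have hov : orderOf h.v = 2 := orderOf_eq_prime (by rw [pow_two]; exact v_sq) v_ne_one
    have hcop : (Nat.card (zpowers h.v)).Coprime (Nat.card (KK h.z)) := by
      rw [Nat.card_zpowers, hov]
      exact Nat.coprime_two_left.2 (K_odd _)
    have hsol : Group.IsSolvable (zpowers h.v) := inferInstance
    have hUp : IsPGroup r (zpowers x) := by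
      rw [IsPGroup.iff_card]
      obtain ⟨j, -, hj⟩ := (Nat.dvd_prime_pow hr).1 (orderOf_dvd_of_pow_eq_one hk)
      exact ⟨j, by rw [Nat.card_zpowers, hj]⟩
    have hUA : zpowers h.v ≤ normalizer (zpowers x : Set G) := by
      rw [zpowers_le]
      refine mem_normalizer_of_conj' ?_
      rintro _ ⟨j, rfl⟩
      show h.v * x ^ j * h.v⁻¹ ∈ zpowers x
      rw [← conj_zpow, hxi]
      exact zpow_mem (inv_mem (mem_zpowers x)) _
    obtain ⟨P1, hxP1, hP1⟩ := Cfsg.Agent.S0025.result (zpowers h.v) (KK h.z) hAK hcop (Or.inl hsol) r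
      (zpowers x) (by rw [zpowers_le]; exact hxK) hUp hUA
    -- R1 as a Sylow subgroup of `KK z`
    have hR1Kz' : R1 ≤ KK h.z := hR1K1.trans inf_le_left
    have hRp : IsPGroup r (R1.subgroupOf (KK h.z)) :=
      hR1p.comap_of_injective (KK h.z).subtype (KK h.z).subtype_injective
    let R2 : Sylow r (KK h.z) := hRp.toSylow hR1Kz
    have hR2 : (R2 : Subgroup (KK h.z)).map (KK h.z).subtype = R1 := by
      show (R1.subgroupOf (KK h.z)).map (KK h.z).subtype = R1
      rw [subgroupOf_map_subtype, inf_eq_left.2 hR1Kz']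
    obtain ⟨c, hcA, hcP⟩ := Cfsg.Agent.S0024.result (zpowers h.v) (KK h.z) hAK hcop (Or.inl hsol) r
      P1 R2 hP1 (by
        rw [hR2, zpowers_le]
        exact hR0 h.v_mem_S)
    -- the conjugate of `x` lies in `R1`
    have hxP1' : (⟨x, hxK⟩ : KK h.z) ∈ P1 := by
      obtain ⟨y, hy, hyx⟩ := hxP1 (mem_zpowers x)
      have : y = ⟨x, hxK⟩ := Subtype.ext hyx
      rwa [← this]
    have h3 : c * ⟨x, hxK⟩ * c⁻¹ ∈ R2 := by
      rw [← hcP]
      exact smul_mem_pointwise_smul _ (MulAut.conj c) _ hxP1'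
    have h4 : (c : G) * x * (c : G)⁻¹ ∈ R1 := by
      have h5 : (c * ⟨x, hxK⟩ * c⁻¹ : KK h.z) ∈ R1.subgroupOf (KK h.z) := h3
      exact mem_subgroupOf.1 h5
    have h5 := hcon _ (hR1P h4)
    have hcv : h.v * (c : G) = (c : G) * h.v := mem_centralizer_iff.1 hcA _ (mem_zpowers _)
    have hcv' : h.v * (c : G)⁻¹ = (c : G)⁻¹ * h.v := by
      calc h.v * (c : G)⁻¹ = (c : G)⁻¹ * ((c : G) * h.v) * (c : G)⁻¹ := by group
        _ = (c : G)⁻¹ * (h.v * c) * (c : G)⁻¹ := by rw [hcv]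
        _ = _ := by group
    have h6 : h.v * x = x * h.v := by
      calc h.v * x = (c : G)⁻¹ * ((c : G) * h.v) * x := by group
        _ = (c : G)⁻¹ * (h.v * c) * x := by rw [hcv]
        _ = (c : G)⁻¹ * (h.v * (c * x * (c : G)⁻¹)) * c := by group
        _ = (c : G)⁻¹ * ((c * x * (c : G)⁻¹) * h.v) * c := by rw [h5]
        _ = x * ((c : G)⁻¹ * h.v) * c := by group
        _ = x * (h.v * (c : G)⁻¹) * c := by rw [hcv']
        _ = x * h.v := by group
    have h7 : x * x = 1 := by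
      have h8 : x = x⁻¹ := by
        rw [← hxi, h6]; group
      calc x * x = x * x⁻¹ := by rw [← h8]
        _ = 1 := mul_inv_cancel x
    exact hx1 (odd_sq (K_odd _) hxK h7)

/-- Frattini: `N_H(P)` covers `C_H(z)` modulo `N ∩ C(z)` -/
theorem exists_normalizing (hr : r.Prime) (gd : Good h r H N) {P : Subgroup G} (hPN : P ≤ N)
    (hPp : IsPGroup r P) (hPS : ∀ s ∈ h.S, ∀ x ∈ P, s * x * s⁻¹ ∈ P) (hPi : ¬ r ∣ P.relIndex N)
    {c : G} (hcH : c ∈ H) (hcz : c * h.z = h.z * c) :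
    ∃ n ∈ N ⊓ centralizer ({h.z} : Set G), c * n ∈ normalizer (P : Set G) := by
  classical
  haveI : Fact r.Prime := ⟨hr⟩
  have hzN : zpowers h.z ≤ normalizer (N : Set G) := by
    rw [zpowers_le]
    exact mem_normalizer_of_conj' (gd.N_norm _ (gd.S_le h.z_mem_S))
  have hz1 : h.z ≠ 1 := by
    intro h1
    have h2 : h.φ Model.T.z = h.φ 1 := by rw [map_one]; exact h1
    exact absurd (h.inj h2) (by decide)
  have hoz : orderOf h.z = 2 := orderOf_eq_prime (by rw [pow_two]; exact z_sq) hz1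
  have hcop : (Nat.card (zpowers h.z)).Coprime (Nat.card N) := by
    rw [Nat.card_zpowers, hoz]
    exact Nat.coprime_two_left.2 gd.N_odd
  have hsol : Group.IsSolvable (zpowers h.z) := inferInstance
  -- the conjugate
  set Pc : Subgroup G := P.map (MulAut.conj c).toMonoidHom with hPc
  have hPcN : Pc ≤ N := by
    rintro _ ⟨x, hx, rfl⟩
    exact gd.N_norm c hcH x (hPN hx)
  have hcard : Nat.card Pc = Nat.card P := card_map_of_injective (MulAut.conj c).injective
  have hPci : ¬ r ∣ Pc.relIndex N := by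
    have h1 : Nat.card Pc * Pc.relIndex N = Nat.card P * P.relIndex N := by
      rw [card_mul_relIndex hPcN, card_mul_relIndex hPN]
    rw [hcard] at h1
    have h2 := Nat.eq_of_mul_eq_mul_left Nat.card_pos h1
    rw [h2]; exact hPi
  have mk : ∀ (L : Subgroup G), L ≤ N → IsPGroup r L → ¬ r ∣ L.relIndex N →
      ∃ L' : Sylow r N, (L' : Subgroup N) = L.subgroupOf N := by
    intro L _ hLp hLi
    exact ⟨(hLp.comap_of_injective N.subtype N.subtype_injective).toSylow hLi, rfl⟩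
  obtain ⟨P', hP'⟩ := mk P hPN hPp hPi
  obtain ⟨Pc', hPc'⟩ := mk Pc hPcN (hPp.map _) hPci
  have hP'm : (P' : Subgroup N).map N.subtype = P := by
    rw [hP', subgroupOf_map_subtype, inf_eq_left.2 hPN]
  have hPc'm : (Pc' : Subgroup N).map N.subtype = Pc := by
    rw [hPc', subgroupOf_map_subtype, inf_eq_left.2 hPcN]
  have hczi : c⁻¹ * h.z = h.z * c⁻¹ := by
    calc c⁻¹ * h.z = c⁻¹ * (h.z * c) * c⁻¹ := by group
      _ = c⁻¹ * (c * h.z) * c⁻¹ := by rw [hcz]
      _ = _ := by group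
  obtain ⟨n, hnz, hn⟩ := Cfsg.Agent.S0024.result (zpowers h.z) N hzN hcop (Or.inl hsol) r Pc' P'
    (by
      rw [hPc'm, zpowers_le]
      refine mem_normalizer_of_conj' ?_
      rintro _ ⟨x, hx, rfl⟩
      refine ⟨h.z * x * h.z⁻¹, hPS _ h.z_mem_S x hx, ?_⟩
      show c * (h.z * x * h.z⁻¹) * c⁻¹ = h.z * (c * x * c⁻¹) * h.z⁻¹
      have h1 : h.z⁻¹ * c⁻¹ = c⁻¹ * h.z⁻¹ := by
        rw [← mul_inv_rev, ← mul_inv_rev, hcz]
      calc c * (h.z * x * h.z⁻¹) * c⁻¹ = (c * h.z) * x * (h.z⁻¹ * c⁻¹) := by group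
        _ = (h.z * c) * x * (c⁻¹ * h.z⁻¹) := by rw [hcz, h1]
        _ = _ := by group)
    (by
      rw [hP'm, zpowers_le]
      exact mem_normalizer_of_conj' (hPS _ h.z_mem_S))
  have hnz' : h.z * (n : G) = (n : G) * h.z := mem_centralizer_iff.1 hnz _ (mem_zpowers _)
  refine ⟨c⁻¹ * (n : G) * c, ⟨?_, ?_⟩, ?_⟩
  · have h1 := gd.N_norm c⁻¹ (H.inv_mem hcH) n n.2
    simpa only [_root_.Subgroup.coe_toSubmonoid, _root_.SetLike.mem_coe, _root_.inv_inv] using h1
  · refine comm_iff_mem.2 ?_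
    have h1 := conj_comm (z := h.z) (c := c⁻¹) (x := (n : G)) hczi hnz'.symm
    simpa only [_root_.inv_inv] using h1
  · have h1 : c * (c⁻¹ * (n : G) * c) = (n : G) * c := by group
    rw [h1]
    refine mem_normalizer_of_conj' ?_
    intro x hx
    have h2 : (⟨c * x * c⁻¹, hPcN ⟨x, hx, rfl⟩⟩ : N) ∈ Pc' := by
      have : (⟨c * x * c⁻¹, hPcN ⟨x, hx, rfl⟩⟩ : N) ∈ Pc.subgroupOf N :=
        mem_subgroupOf.2 ⟨x, hx, rfl⟩
      rw [← hPc'] at this
      exact this
    have h3 : n * ⟨c * x * c⁻¹, hPcN ⟨x, hx, rfl⟩⟩ * n⁻¹ ∈ P' := by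
      rw [← hn]
      exact smul_mem_pointwise_smul _ (MulAut.conj n) _ h2
    have h4 : (n * ⟨c * x * c⁻¹, hPcN ⟨x, hx, rfl⟩⟩ * n⁻¹ : N) ∈ (P' : Subgroup N) := h3
    rw [hP', mem_subgroupOf] at h4
    have h5 : (n : G) * c * x * ((n : G) * c)⁻¹ = (n : G) * (c * x * c⁻¹) * (n : G)⁻¹ := by group
    rw [h5]
    exact h4

/-- the surjection of `N_H(P)` onto `C(z)/O(C(z))` -/
theorem exists_surj (gd : Good h r H N) {X : Type u} [Group X]
    (π : centralizer ({h.z} : Set G) →* X) (hπ : ∀ g, π g = 1 ↔ (g : G) ∈ KK h.z)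
    (hπs : Function.Surjective π) (H' : Subgroup G) (hH' : H' ≤ H)
    (hcov : ∀ c ∈ H, c * h.z = h.z * c → ∃ n ∈ N ⊓ centralizer ({h.z} : Set G), c * n ∈ H') :
    ∃ f : H' →* X, (∀ (g : H') (c : centralizer ({h.z} : Set G)), (g : G)⁻¹ * (c : G) ∈ N →
      f g = π c) ∧ Function.Surjective f ∧ f.ker = N.subgroupOf H' := by
  obtain ⟨f, hf⟩ := exists_hom gd π hπ H' hH'
  refine ⟨f, hf, ?_, ?_⟩
  · intro x
    obtain ⟨c0, rfl⟩ := hπs x
    obtain ⟨k, hk, hkH⟩ := gd.cover c0 (comm_iff_mem.1 c0.2)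
    have hkz : k ∈ centralizer ({h.z} : Set G) := K_le _ hk
    obtain ⟨n, hn, hcn⟩ := hcov (k * c0) hkH (comm_iff_mem.1 (mul_mem hkz c0.2))
    refine ⟨⟨_, hcn⟩, ?_⟩
    rw [hf ⟨_, hcn⟩ (⟨k, hkz⟩ * c0)]
    · rw [map_mul, (hπ ⟨k, hkz⟩).2 hk, one_mul]
    · show (k * c0 * n)⁻¹ * (k * c0) ∈ N
      have : (k * c0 * n)⁻¹ * (k * c0) = n⁻¹ := by group
      rw [this]
      exact inv_mem hn.1
  · ext g
    rw [MonoidHom.mem_ker, mem_subgroupOf]
    constructor
    · intro h1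
      obtain ⟨n, hn, hgn⟩ := exists_rep gd (hH' g.2)
      have h2 := hf g ⟨_, hgn⟩ (by
        show (g : G)⁻¹ * (g * n) ∈ N
        simpa using hn)
      rw [h1] at h2
      have h3 := (hπ _).1 h2.symm
      have h4 : (g : G) * n ∈ N :=
        gd.K_le ⟨h3, H.mul_mem (hH' g.2) (gd.N_le hn)⟩
      have h5 := mul_mem h4 (inv_mem hn)
      simpa using h5
    · intro h1
      rw [hf g 1 (by simpa only [_root_.OneMemClass.coe_one, _root_.mul_one, _root_.inv_mem_iff] using h1), map_one]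

theorem card_of_surj {A X : Type u} [Group A] [Finite A] [Group X] (f : A →* X)
    (hf : Function.Surjective f) : Nat.card A = Nat.card X * Nat.card f.ker := by
  rw [Subgroup.card_eq_card_quotient_mul_card_subgroup f.ker]
  congr 1
  exact Nat.card_congr (QuotientGroup.quotientKerEquivOfSurjective f hf).toEquiv

theorem card_subgroupOf (A B : Subgroup G) : Nat.card (A.subgroupOf B) = Nat.card ↥(A ⊓ B) := by
  rw [← subgroupOf_map_subtype]
  exact (Nat.card_congr ((A.subgroupOf B).equivMapOfInjective _ B.subtype_injective).toEquiv)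

/-- a subgroup normalising a characteristic subgroup -/
theorem conj_mem_of_characteristic {H' : Subgroup G} {S Q0 : Subgroup H'} (hQS : Q0 ≤ S)
    (hchar : (Q0.subgroupOf S).Characteristic) {g : G}
    (hg : g ∈ normalizer ((S.map H'.subtype : Subgroup G) : Set G)) {x : G}
    (hx : x ∈ Q0.map H'.subtype) : g * x * g⁻¹ ∈ Q0.map H'.subtype := by
  -- conjugation by `g` as an automorphism of `S`
  have hfwd : ∀ y : S, ∃ y' : S, (((y' : H') : G)) = g * ((y : H') : G) * g⁻¹ := by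
    intro y
    have h1 : g * ((y : H') : G) * g⁻¹ ∈ S.map H'.subtype :=
      (mem_normalizer_iff.1 hg _).1 ⟨y, y.2, rfl⟩
    obtain ⟨w, hw, hw'⟩ := h1
    exact ⟨⟨w, hw⟩, hw'⟩
  choose F hF using hfwd
  let φ : S →* S := MonoidHom.mk' F (by
    intro a b
    apply Subtype.ext
    apply Subtype.ext
    rw [hF]
    have : (((F a * F b : S) : H') : G) = ((F a : H') : G) * ((F b : H') : G) := rfl
    rw [this, hF, hF]
    push_cast
    group)
  have hinj : Function.Injective φ := by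
    intro a b hab
    have h1 : (((F a : S) : H') : G) = ((F b : H') : G) := by
      have : F a = F b := hab
      rw [this]
    rw [hF, hF] at h1
    apply Subtype.ext
    apply Subtype.ext
    exact mul_left_cancel (mul_right_cancel h1)
  have hbij : Function.Bijective φ := (Finite.injective_iff_bijective).1 hinj
  let e : S ≃* S := MulEquiv.ofBijective φ hbij
  have h1 := hchar.fixed e
  obtain ⟨y, hy, rfl⟩ := hx
  have h2 : (⟨y, hQS hy⟩ : S) ∈ Q0.subgroupOf S := mem_subgroupOf.2 hy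
  rw [← h1, mem_comap] at h2
  have h3 : F ⟨y, hQS hy⟩ ∈ Q0.subgroupOf S := h2
  refine ⟨_, mem_subgroupOf.1 h3, ?_⟩
  exact hF ⟨y, hQS hy⟩

/-- **The climbing theorem.** -/
theorem climb (hTF : TFStatement.{u}) (C : CZ h) (hr : r.Prime) (hr2 : r ≠ 2)
    (hO : ∀ N : Subgroup G, N.Normal → Odd (Nat.card N) → N = ⊥)
    (hact : ∃ x ∈ KK h.z, (∃ k : ℕ, x ^ (r ^ k) = 1) ∧ h.v * x * h.v⁻¹ = x⁻¹ ∧ x ≠ 1)
    (hD : ∀ H : Subgroup G, H ≠ ⊤ → h.S ≤ H →
      (∀ g, g * h.z = h.z * g → ∃ k ∈ KK h.z, k * g ∈ H) →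
      ¬ r ∣ (KK h.z ⊓ H).relIndex (KK h.z) → ∃ N, Good h r H N) :
    ∃ P : Subgroup G, IsPGroup r P ∧ (∀ s ∈ h.S, ∀ x ∈ P, s * x * s⁻¹ ∈ P) ∧
      ¬ r ∣ (P ⊓ KK h.z).relIndex (KK h.z) ∧
      r ^ padicValNat r (centralizer ({h.z} : Set G)).index ∣ inv P h.z := by
  classical
  haveI : Fact r.Prime := ⟨hr⟩
  -- a good pair with maximal `r`-part
  obtain ⟨H, ⟨N, gd⟩, hmax⟩ := Set.exists_max_image {H : Subgroup G | ∃ N, Good h r H N}
    (fun H => padicValNat r (Nat.card H)) (Set.toFinite _)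
    ⟨_, _, good_centralizer (h := h) hr.ne_one⟩
  obtain ⟨P, hPN, hPp, hPS, hPi, hPK, hPv⟩ := exists_P hr gd hact
  set H' : Subgroup G := H ⊓ normalizer (P : Set G) with hH'
  have hH'H : H' ≤ H := inf_le_left
  have hSH' : h.S ≤ H' := fun s hs => ⟨gd.S_le hs, mem_normalizer_of_conj' (hPS s hs)⟩
  have hcov : ∀ c ∈ H, c * h.z = h.z * c → ∃ n ∈ N ⊓ centralizer ({h.z} : Set G), c * n ∈ H' := by
    intro c hc hcz
    obtain ⟨n, hn, hcn⟩ := exists_normalizing hr gd hPN hPp hPS hPi hc hcz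
    exact ⟨n, hn, H.mul_mem hc (gd.N_le hn.1), hcn⟩
  obtain ⟨X, _, π, Qt, zt, v, ρ, hπs, hπ, M, hX, hQt, hzt⟩ := C
  obtain ⟨f, hf, hfs, hfk⟩ := exists_surj gd π hπ hπs H' hH'H hcov
  obtain ⟨f1, -, hfs1, hfk1⟩ := exists_surj gd π hπ hπs H le_rfl
    (fun c hc _ => ⟨1, one_mem _, by rwa [mul_one]⟩)
  -- numbers
  have hPN' : P ≤ N ⊓ H' := le_inf hPN fun x hx => ⟨gd.N_le (hPN hx), le_normalizer hx⟩
  have hkerodd : Odd (Nat.card f.ker) := by
    rw [hfk, card_subgroupOf]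
    exact gd.N_odd.of_dvd_nat (card_dvd_of_le inf_le_left)
  have hPker : P.subgroupOf H' ≤ f.ker := by
    rw [hfk]
    intro x hx
    exact mem_subgroupOf.2 (hPN (mem_subgroupOf.1 hx))
  have hPkeri : ¬ r ∣ (P.subgroupOf H').relIndex f.ker := by
    have h1 : f.ker = (N ⊓ H').subgroupOf H' := by
      rw [hfk, inf_subgroupOf_right]
    rw [h1, relIndex_subgroupOf inf_le_right]
    intro hd
    apply hPi
    rw [← relIndex_mul_relIndex P (N ⊓ H') N hPN' inf_le_left]
    exact Dvd.dvd.mul_right hd _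
  have hPnorm : (P.subgroupOf H').Normal := by
    refine ⟨fun x hx g => ?_⟩
    rw [mem_subgroupOf] at hx ⊢
    exact (mem_normalizer_iff.1 g.2.2 _).1 hx
  have hPp' : IsPGroup r (P.subgroupOf H') :=
    hPp.comap_of_injective H'.subtype H'.subtype_injective
  -- the involution `v`
  have hvH' : h.v ∈ H' := hSH' h.v_mem_S
  have hvz : h.v ∈ centralizer ({h.z} : Set G) := comm_iff_mem.2 v_comm_z
  have hzz : h.z ∈ centralizer ({h.z} : Set G) := comm_iff_mem.2 rfl
  have hfv : f ⟨h.v, hvH'⟩ = π ⟨h.v, hvz⟩ := hf _ _ (by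
    show (h.v)⁻¹ * h.v ∈ N
    rw [inv_mul_cancel]; exact one_mem _)
  have hvQ : h.v ∈ h.Q := h.phi_mem_Q.2 (by decide)
  -- a Sylow `r`-subgroup of `H'`
  obtain ⟨S⟩ : Nonempty (Sylow r H') := inferInstance
  obtain ⟨Q0, hQ0n, hQ0b, hQ0S, hQ0c⟩ := hTF f hfs hkerodd M hX hr hr2 (P.subgroupOf H') hPnorm hPp'
    hPker hPkeri (y := ⟨h.v, hvH'⟩) (Subtype.ext v_sq) (by rw [hfv]; exact hQt _ hvQ)
    (by
      rw [hfv]
      intro h1
      exact v_ne_one (h := h) (odd_sq (K_odd _) ((hπ _).1 h1) v_sq))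
    (by
      rw [hfv]
      intro h1
      rw [← hzt ⟨h.z, hzz⟩ rfl] at h1
      have h2 : π (⟨h.z, hzz⟩⁻¹ * ⟨h.v, hvz⟩) = 1 := by
        rw [map_mul, map_inv, h1, inv_mul_cancel]
      have h3 := (hπ _).1 h2
      have h4 : (h.z)⁻¹ * h.v ∈ KK h.z := h3
      have hzi : h.z⁻¹ = h.z := inv_eq_of_mul_eq_one_right z_sq
      rw [hzi] at h4
      refine zv_ne_one (h := h) (odd_sq (K_odd _) h4 ?_)
      calc h.z * h.v * (h.z * h.v) = h.z * (h.v * h.z) * h.v := by group
        _ = (h.z * h.z) * (h.v * h.v) := by rw [v_comm_z]; group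
        _ = 1 := by rw [z_sq, v_sq, one_mul])
    (by
      obtain ⟨x, hx, hvx⟩ := hPv
      have hxH' : x ∈ H' := (hPN' hx).2
      refine ⟨⟨x, hxH'⟩, mem_subgroupOf.2 hx, ?_⟩
      intro h1
      exact hvx (congrArg Subtype.val h1))
    S S.isPGroup' S.not_dvd_index
  -- subgroups of `G`
  set Q1 : Subgroup G := Q0.map H'.subtype with hQ1
  set S1 : Subgroup G := (S : Subgroup H').map H'.subtype with hS1
  set H2 : Subgroup G := normalizer (Q1 : Set G) with hH2
  have hQ1p : IsPGroup r Q1 := by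
    have h1 : IsPGroup r Q0 := S.isPGroup'.to_le hQ0S
    exact h1.map _
  have hodd_of_p : ∀ L : Subgroup G, IsPGroup r L → Odd (Nat.card L) := by
    intro L hL
    obtain ⟨n, hn⟩ := hL.exists_card_eq
    rw [hn]
    exact (hr.odd_of_ne_two hr2).pow
  have hH2top : H2 ≠ ⊤ := by
    intro h1
    have h2 : Q1.Normal := normalizer_eq_top_iff.1 h1
    have h3 := hO Q1 h2 (hodd_of_p _ hQ1p)
    apply hQ0b
    rw [hQ1, map_eq_bot_iff_of_injective _ H'.subtype_injective] at h3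
    exact h3
  have hH'H2 : H' ≤ H2 := by
    intro g hg
    refine mem_normalizer_of_conj' ?_
    rintro _ ⟨x, hx, rfl⟩
    exact ⟨⟨g, hg⟩ * x * ⟨g, hg⟩⁻¹, hQ0n.conj_mem x hx _, rfl⟩
  obtain ⟨N2, gd2⟩ := hD H2 hH2top (hSH'.trans hH'H2)
    (by
      intro g hg
      obtain ⟨k, hk, hkH⟩ := gd.cover g hg
      have hkz : k * h.z = h.z * k := comm_iff_mem.1 (K_le _ hk)
      have hkg : k * g * h.z = h.z * (k * g) := by
        rw [mul_assoc, hg, ← mul_assoc, hkz, mul_assoc]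
      obtain ⟨n, hn, hkgn⟩ := hcov (k * g) hkH hkg
      refine ⟨k * (g * n * g⁻¹), mul_mem hk (K_conj (comm_iff_mem.2 hg) (inf_le gd hn)), ?_⟩
      have h1 : k * (g * n * g⁻¹) * g = k * g * n := by group
      rw [h1]
      exact hH'H2 hkgn)
    (by
      intro hd
      apply hPK
      have h1 : P ⊓ KK h.z ≤ KK h.z ⊓ H2 :=
        le_inf inf_le_right (inf_le_left.trans (hPN'.trans (inf_le_right.trans hH'H2)))
      rw [← relIndex_mul_relIndex (P ⊓ KK h.z) (KK h.z ⊓ H2) (KK h.z) h1 inf_le_left]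
      exact Dvd.dvd.mul_left hd _)
  have hle := hmax H2 ⟨N2, gd2⟩
  -- valuations
  have vmul : ∀ a b : ℕ, a ≠ 0 → b ≠ 0 → padicValNat r (a * b) = padicValNat r a + padicValNat r b :=
    fun a b ha hb => padicValNat.mul ha hb
  have vzero : ∀ {a : ℕ}, ¬ r ∣ a → padicValNat r a = 0 := fun ha =>
    padicValNat.eq_zero_of_not_dvd ha
  have hcard0 : ∀ L : Subgroup G, Nat.card L ≠ 0 := fun L => Nat.card_pos.ne'
  have hX0 : Nat.card X ≠ 0 := by rw [hX]; norm_num
  have hidx0 : ∀ L L' : Subgroup G, L.relIndex L' ≠ 0 := fun L L' => by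
    show (L.subgroupOf L').index ≠ 0
    exact index_ne_zero_of_finite
  have hvP : padicValNat r (Nat.card N) = padicValNat r (Nat.card P) := by
    rw [← card_mul_relIndex hPN, vmul _ _ (hcard0 _) (hidx0 _ _), vzero hPi, add_zero]
  have hvP' : padicValNat r (Nat.card ↥(N ⊓ H')) = padicValNat r (Nat.card P) := by
    have h1 : ¬ r ∣ P.relIndex (N ⊓ H') := by
      intro hd
      apply hPi
      rw [← relIndex_mul_relIndex P (N ⊓ H') N hPN' inf_le_left]
      exact Dvd.dvd.mul_right hd _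
    rw [← card_mul_relIndex hPN', vmul _ _ (hcard0 _) (hidx0 _ _), vzero h1, add_zero]
  have hvH : padicValNat r (Nat.card H) = padicValNat r (Nat.card X) + padicValNat r (Nat.card P) := by
    rw [card_of_surj f1 hfs1, hfk1, card_subgroupOf, inf_eq_left.2 gd.N_le, vmul _ _ hX0 (hcard0 _),
      hvP]
  have hvH' : padicValNat r (Nat.card H') =
      padicValNat r (Nat.card X) + padicValNat r (Nat.card P) := by
    rw [card_of_surj f hfs, hfk, card_subgroupOf, vmul _ _ hX0 (hcard0 _), hvP']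
  have hS1H' : S1 ≤ H' := by rintro _ ⟨x, -, rfl⟩; exact x.2
  have hS1i : ¬ r ∣ S1.relIndex H' := by
    rw [hS1, relIndex_map_subtype]; exact S.not_dvd_index
  have hvS1 : padicValNat r (Nat.card S1) = padicValNat r (Nat.card H') := by
    rw [← card_mul_relIndex hS1H', vmul _ _ (hcard0 _) (hidx0 _ _), vzero hS1i, add_zero]
  have hS1p : IsPGroup r S1 := S.isPGroup'.map _
  -- `S1` is Sylow in `H2`
  have hS1H2 : ¬ r ∣ S1.relIndex H2 := by
    intro hd
    have h1 : padicValNat r (Nat.card H2) = padicValNat r (Nat.card S1) +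
        padicValNat r (S1.relIndex H2) := by
      rw [← card_mul_relIndex (hS1H'.trans hH'H2), vmul _ _ (hcard0 _) (hidx0 _ _)]
    have h2 : 1 ≤ padicValNat r (S1.relIndex H2) :=
      one_le_padicValNat_of_dvd (hidx0 _ _) hd
    omega
  -- `N_G(S1) ≤ H2`
  have hNS1 : normalizer (S1 : Set G) ≤ H2 := by
    intro g hg
    refine mem_normalizer_of_conj' ?_
    intro x hx
    exact conj_mem_of_characteristic hQ0S hQ0c hg hx
  -- `S1` is Sylow in `G`
  have hS1G : ¬ r ∣ S1.index := by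
    intro hd
    obtain ⟨n, hn⟩ := hS1p.exists_card_eq
    have h1 : r ^ (n + 1) ∣ Nat.card G := by
      rw [← S1.card_mul_index, hn, pow_succ]
      exact Nat.mul_dvd_mul_left _ hd
    have h2 := Sylow.prime_dvd_card_quotient_normalizer h1 hn
    have h3 : r ∣ S1.relIndex (normalizer (S1 : Set G)) := h2
    apply hS1H2
    rw [← relIndex_mul_relIndex S1 (normalizer (S1 : Set G)) H2 le_normalizer hNS1]
    exact Dvd.dvd.mul_right h3 _
  have hvG : padicValNat r (Nat.card G) = padicValNat r (Nat.card S1) := by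
    have h1 : S1.index ≠ 0 := index_ne_zero_of_finite
    rw [← S1.card_mul_index, vmul _ _ (hcard0 _) h1, vzero hS1G, add_zero]
  have hvC : padicValNat r (Nat.card (centralizer ({h.z} : Set G))) =
      padicValNat r (Nat.card X) + padicValNat r (Nat.card (KK h.z)) := by
    have hk : π.ker = (KK h.z).subgroupOf (centralizer ({h.z} : Set G)) := by
      ext g
      rw [MonoidHom.mem_ker, mem_subgroupOf]
      exact hπ g
    rw [card_of_surj π hπs, hk, card_subgroupOf, inf_eq_left.2 (K_le h.z), vmul _ _ hX0 (hcard0 _)]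
  have hvI : padicValNat r (Nat.card G) = padicValNat r (Nat.card (centralizer ({h.z} : Set G))) +
      padicValNat r (centralizer ({h.z} : Set G)).index := by
    have h1 : (centralizer ({h.z} : Set G)).index ≠ 0 := index_ne_zero_of_finite
    rw [← (centralizer ({h.z} : Set G)).card_mul_index, vmul _ _ (hcard0 _) h1]
  refine ⟨P, hPp, hPS, hPK, ?_⟩
  have hPodd : Odd (Nat.card P) := hodd_of_p P hPp
  have hinv := inv_mul_card hPodd (z_sq (h := h)) (fun x hx => hPS _ h.z_mem_S x hx)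
  have hinv0 : inv P h.z ≠ 0 := by
    intro h1
    rw [h1, zero_mul] at hinv
    exact hcard0 P hinv.symm
  have hv1 : padicValNat r (Nat.card P) = padicValNat r (inv P h.z) +
      padicValNat r (Nat.card ↥(P ⊓ centralizer ({h.z} : Set G))) := by
    rw [← hinv, vmul _ _ hinv0 (hcard0 _)]
  have hv2 : padicValNat r (Nat.card ↥(P ⊓ centralizer ({h.z} : Set G))) ≤
      padicValNat r (Nat.card (KK h.z)) := by
    have h1 : P ⊓ centralizer ({h.z} : Set G) ≤ KK h.z :=
      (inf_le_inf_right _ hPN).trans (inf_le gd)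
    rw [← card_mul_relIndex h1, vmul _ _ (hcard0 _) (hidx0 _ _)]
    exact Nat.le_add_right _ _
  refine (pow_dvd_pow r ?_).trans pow_padicValNat_dvd
  omega

end Cfsg.Agent.J2Sylow.Climb
end

-- part: J2Sylow/WeightsKJ
section
/-!
# The elements of `O(C(z))` inverted by `v`, the elements of `O(C(a))` inverted by `z`

(S1776, step (4), piece B2)

* `Tab.inv_m2`, `Tab.inv_m1`: the conjugates of the counts `m2 h`, `m1 h`.
* `inv_K : inv (KK h.z) h.v = m2 h ^ 4`, `inv_J : inv (KK h.a) h.z = m1 h ^ 2 * m2 h ^ 2`.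
-/

set_option autoImplicit false

namespace Cfsg.Agent.J2Sylow

open Model Model.F4 Subgroup

section general

variable {G : Type*} [Group G]

theorem KK_le (x : G) : KK x ≤ centralizer ({x} : Set G) := Functor.K_le x

theorem KK_comm {x y : G} (hy : y ∈ KK x) : y * x = x * y :=
  mem_centralizer_singleton_iff.1 (KK_le x hy)

theorem KK_odd [Finite G] (x : G) : Odd (Nat.card (KK x)) := Functor.K_odd x

theorem KK_map [Finite G] (g x : G) {k : G} (hk : k ∈ KK x) : g * k * g⁻¹ ∈ KK (g * x * g⁻¹) :=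
  Functor.K_map g x hk

theorem KK_map_iff [Finite G] {g x x' : G} (hx : g * x * g⁻¹ = x') {k : G} :
    k ∈ KK x ↔ g * k * g⁻¹ ∈ KK x' := by
  constructor
  · intro h
    rw [← hx]; exact KK_map g x h
  · intro h
    have h1 := KK_map g⁻¹ x' h
    have e1 : g⁻¹ * (g * k * g⁻¹) * (g⁻¹)⁻¹ = k := by group
    have e2 : g⁻¹ * x' * (g⁻¹)⁻¹ = x := by rw [← hx]; group
    rwa [e1, e2] at h1

theorem odd_card_of_le [Finite G] {D D' : Subgroup G} (hle : D ≤ D') (h : Odd (Nat.card D')) :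
    Odd (Nat.card D) := by
  obtain ⟨c, hc⟩ := Subgroup.card_dvd_of_le hle
  rw [hc] at h
  exact (Nat.odd_mul.1 h).1

theorem mem_of_sq_mem {D : Subgroup G} {x : G} (hx : Odd (orderOf x)) (h : x * x ∈ D) : x ∈ D := by
  obtain ⟨m, hm⟩ := hx
  have h1 : x ^ (2 * m + 1 + 1) = x := by rw [pow_succ, ← hm, pow_orderOf_eq_one, one_mul]
  rw [← h1]
  have h2 : x ^ (2 * m + 1 + 1) = (x * x) ^ (m + 1) := by
    rw [← pow_two, ← pow_mul]
    congr 1
  rw [h2]
  exact D.pow_mem h _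

theorem mem_of_pow_two_pow_mem {D : Subgroup G} {x : G} (hx : Odd (orderOf x)) {n : ℕ}
    (h : x ^ (2 ^ n) ∈ D) : x ∈ D := by
  induction n with
  | zero => simpa using h
  | succ n ih =>
    apply ih
    apply mem_of_sq_mem
    · obtain ⟨c, hc⟩ := orderOf_pow_dvd (x := x) (2 ^ n)
      rw [hc] at hx
      exact (Nat.odd_mul.1 hx).1
    · rw [← pow_two, ← pow_mul]
      exact h

theorem inv_congr {D D' : Subgroup G} {s s' : G}
    (h : ∀ x, (x ∈ D ∧ s * x * s⁻¹ = x⁻¹) ↔ (x ∈ D' ∧ s' * x * s'⁻¹ = x⁻¹)) : inv D s = inv D' s' :=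
  Nat.card_congr (Equiv.subtypeEquivRight h)

theorem inv_conj {D D' : Subgroup G} {s s' : G} (g : G) (hD : ∀ x, x ∈ D ↔ g * x * g⁻¹ ∈ D')
    (hs : g * s * g⁻¹ = s') : inv D s = inv D' s' := by
  refine Nat.card_congr ((MulAut.conj g).toEquiv.subtypeEquiv ?_)
  intro x
  change _ ↔ (g * x * g⁻¹ ∈ D' ∧ s' * (g * x * g⁻¹) * s'⁻¹ = (g * x * g⁻¹)⁻¹)
  rw [← hD x, ← hs]
  have e : g * s * g⁻¹ * (g * x * g⁻¹) * (g * s * g⁻¹)⁻¹ = g * (s * x * s⁻¹) * g⁻¹ := by group
  rw [e]
  constructor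
  · rintro ⟨h1, h2⟩
    exact ⟨h1, by rw [h2]; group⟩
  · rintro ⟨h1, h2⟩
    refine ⟨h1, ?_⟩
    calc s * x * s⁻¹ = g⁻¹ * (g * (s * x * s⁻¹) * g⁻¹) * g := by group
      _ = g⁻¹ * (g * x * g⁻¹)⁻¹ * g := by rw [h2]
      _ = _ := by group

end general

namespace Ar

theorem mul_o : ∀ k : F4, k * o = o := by decide
theorem mul_e : ∀ k : F4, k * e = k := by decide
theorem e_mul : ∀ k : F4, e * k = k := by decide
theorem o_mul : ∀ k : F4, o * k = o := by decide
theorem add_o : ∀ k : F4, k + o = k := by decide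
theorem o_add : ∀ k : F4, o + k = k := by decide
theorem add_ee : ∀ k : F4, k + e + e = k := by decide
theorem u_mul : ∀ k : F4, u * k = w * (w * k) := by decide
theorem add_w : ∀ k : F4, k + k * w = k * u := by decide
theorem quot : ∀ k k' : F4, k ≠ o → k' ≠ o → k ≠ k' → ∃ y : F4, (y = w ∨ y = u) ∧ k' = k * y := by decide

end Ar

namespace Setup

variable {G : Type*} [Group G] (h : Setup G)

theorem el_mul (x c x' c' : F4) : h.el x c * h.el x' c' = h.el (x + x') (c + c') := by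
  unfold el
  rw [← map_mul]
  congr 1
  revert x c x' c'
  decide +kernel

theorem el_one : h.el o o = 1 := h.φ.map_one

theorem el_sq (x c : F4) : h.el x c * h.el x c = 1 := by
  rw [el_mul, add_self, add_self]; exact h.el_one

theorem el_comm (x c x' c' : F4) : h.el x c * h.el x' c' = h.el x' c' * h.el x c := by
  rw [el_mul, el_mul, add_comm x, add_comm c]

theorem z_eq : h.z = h.el o e := rfl
theorem v_eq : h.v = h.el o w := rfl
theorem a_eq : h.a = h.el e o := rfl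

theorem conj_r (l x c : F4) :
    h.φ ⟨o, l, o, false⟩ * h.el x c * (h.φ ⟨o, l, o, false⟩)⁻¹ = h.el x (c + l * x) := by
  unfold el
  rw [← map_inv, ← map_mul, ← map_mul]
  congr 1
  revert l x c
  decide +kernel

theorem mem_cent_el {x c : F4} {g : G} : g ∈ centralizer ({h.el x c} : Set G) ↔ g * h.el x c = h.el x c * g :=
  mem_centralizer_singleton_iff

theorem mem_cent_V {l : F4} {g : G} :
    g ∈ centralizer (h.V l) ↔ ∀ t : F4, g * h.el t (l * t) = h.el t (l * t) * g := by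
  rw [mem_centralizer_iff]
  constructor
  · intro h1 t
    exact (h1 _ ⟨t, rfl⟩).symm
  · rintro h1 _ ⟨t, rfl⟩
    exact (h1 t).symm

/-- commuting with `el` is additive -/
theorem comm_el_add {g : G} {x c x' c' : F4} (h1 : g * h.el x c = h.el x c * g)
    (h2 : g * h.el x' c' = h.el x' c' * g) :
    g * h.el (x + x') (c + c') = h.el (x + x') (c + c') * g := by
  rw [← el_mul, ← mul_assoc, h1, mul_assoc, h2, mul_assoc]

theorem comm_one {g : G} : g * h.el o o = h.el o o * g := by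
  rw [el_one, mul_one, one_mul]

/-- commuting with `el` after conjugation -/
theorem comm_el_conj {g c : G} {x y x' y' : F4} (hc : c * h.el x y * c⁻¹ = h.el x' y') :
    g * h.el x y = h.el x y * g ↔ (c * g * c⁻¹) * h.el x' y' = h.el x' y' * (c * g * c⁻¹) := by
  rw [← hc]
  have e1 : (c * g * c⁻¹) * (c * h.el x y * c⁻¹) = c * (g * h.el x y) * c⁻¹ := by group
  have e2 : (c * h.el x y * c⁻¹) * (c * g * c⁻¹) = c * (h.el x y * g) * c⁻¹ := by group
  rw [e1, e2]
  constructor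
  · intro h1; rw [h1]
  · intro h1; exact mul_left_cancel (mul_right_cancel h1)

end Setup

namespace Tab

variable {G : Type*} [Group G] [Finite G] {h : Setup G}

/-- elements acting as scalars on `U` and trivially on `V_0` -/
theorem exists_c (T : Tab h) {k : F4} (hk : k ≠ o) : ∃ c : G,
    ∀ x y : F4, c * h.el x y * c⁻¹ = h.el x (k * y) := by
  obtain ⟨c, hc1, hc2⟩ := T.c3
  have hc : ∀ x y : F4, c * h.el x y * c⁻¹ = h.el x (w * y) := by
    intro x y
    have e1 : h.el x y = h.el x o * h.el o y := by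
      rw [h.el_mul, Ar.add_o, Ar.o_add]
    have e2 : h.el x (w * y) = h.el x o * h.el o (w * y) := by
      rw [h.el_mul, Ar.add_o, Ar.o_add]
    rw [e1, e2]
    calc c * (h.el x o * h.el o y) * c⁻¹ = (c * h.el x o * c⁻¹) * (c * h.el o y * c⁻¹) := by group
      _ = _ := by rw [hc1, hc2]
  cases k with
  | o => exact absurd rfl hk
  | e => exact ⟨1, fun x y => by rw [Ar.e_mul]; group⟩
  | w => exact ⟨c, hc⟩
  | u => exact ⟨c * c, fun x y => by
      rw [Ar.u_mul, ← hc, ← hc]; group⟩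

/-- the conjugates of the count `m2 h` -/
theorem inv_m2 (T : Tab h) {k k' : F4} (l : F4) (hk : k ≠ o) (hk' : k' ≠ o) (hkk : k ≠ k') :
    inv (KK (h.el o k) ⊓ centralizer (h.V l)) (h.el o k') = m2 h := by
  -- `V_o → V_l`
  have step1 : inv (KK (h.el o k) ⊓ centralizer (h.V o)) (h.el o k') =
      inv (KK (h.el o k) ⊓ centralizer (h.V l)) (h.el o k') := by
    have hU : ∀ c : F4, h.φ ⟨o, l, o, false⟩ * h.el o c * (h.φ ⟨o, l, o, false⟩)⁻¹ = h.el o c := by
      intro c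
      rw [h.conj_r, Ar.mul_o, Ar.add_o]
    refine inv_conj (h.φ ⟨o, l, o, false⟩) ?_ (hU k')
    intro x
    rw [mem_inf, mem_inf, ← KK_map_iff (hU k), h.mem_cent_V, h.mem_cent_V]
    refine and_congr_right fun _ => forall_congr' fun t => ?_
    apply h.comm_el_conj
    rw [h.conj_r, Ar.o_mul, Ar.o_add]
  rw [← step1]
  -- scalar
  obtain ⟨y, hy, hyk⟩ : ∃ y : F4, (y = w ∨ y = u) ∧ k' = k * y := Ar.quot k k' hk hk' hkk
  obtain ⟨c, hc⟩ := T.exists_c hk
  have step2 : inv (KK h.z ⊓ centralizer (h.V o)) (h.el o y) =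
      inv (KK (h.el o k) ⊓ centralizer (h.V o)) (h.el o k') := by
    have hz : c * h.z * c⁻¹ = h.el o k := by
      rw [h.z_eq, hc, Ar.mul_e]
    refine inv_conj c ?_ (by rw [hc, hyk])
    intro x
    rw [mem_inf, mem_inf, ← KK_map_iff hz, h.mem_cent_V, h.mem_cent_V]
    refine and_congr_right fun _ => forall_congr' fun t => ?_
    apply h.comm_el_conj
    rw [hc, Ar.o_mul, Ar.mul_o]
  rw [← step2, m2]
  rcases hy with rfl | rfl
  · rfl
  · apply inv_congr
    intro x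
    refine and_congr_right fun hx => ?_
    have hxz := KK_comm hx.1
    have e1 : h.el o u = h.v * h.z := by
      rw [h.v_eq, h.z_eq, h.el_mul]; rfl
    rw [e1]
    have e2 : h.v * h.z * x * (h.v * h.z)⁻¹ = h.v * x * h.v⁻¹ := by
      calc h.v * h.z * x * (h.v * h.z)⁻¹ = h.v * (h.z * x) * h.z⁻¹ * h.v⁻¹ := by group
        _ = h.v * (x * h.z) * h.z⁻¹ * h.v⁻¹ := by rw [hxz]
        _ = _ := by group
    rw [e2]

/-- the conjugates of the count `m1 h` -/
theorem inv_m1 (T : Tab h) {k k' : F4} (hk : k ≠ o) (hk' : k' ≠ o) (hkk : k ≠ k') :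
    inv (KK h.a ⊓ centralizer (h.V o) ⊓ centralizer {h.el o k}) (h.el o k') = m1 h := by
  obtain ⟨y, hy, hyk⟩ : ∃ y : F4, (y = w ∨ y = u) ∧ k' = k * y := Ar.quot k k' hk hk' hkk
  obtain ⟨c, hc⟩ := T.exists_c hk
  have step2 : inv (KK h.a ⊓ centralizer (h.V o) ⊓ centralizer {h.z}) (h.el o y) =
      inv (KK h.a ⊓ centralizer (h.V o) ⊓ centralizer {h.el o k}) (h.el o k') := by
    have ha : c * h.a * c⁻¹ = h.a := by
      rw [h.a_eq, hc, Ar.mul_o]
    have hz : c * h.el o e * c⁻¹ = h.el o k := by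
      rw [hc, Ar.mul_e]
    refine inv_conj c ?_ (by rw [hc, hyk])
    intro x
    rw [mem_inf, mem_inf, mem_inf, mem_inf, ← KK_map_iff ha, h.mem_cent_V, h.mem_cent_V, h.mem_cent_el,
      h.z_eq, h.mem_cent_el, h.comm_el_conj hz]
    refine and_congr_left fun _ => and_congr_right fun _ => forall_congr' fun t => ?_
    apply h.comm_el_conj
    rw [hc, Ar.o_mul, Ar.mul_o]
  rw [← step2, m1]
  rcases hy with rfl | rfl
  · rfl
  · apply inv_congr
    intro x
    refine and_congr_right fun hx => ?_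
    have hxz : x * h.z = h.z * x := mem_centralizer_singleton_iff.1 hx.2
    have e1 : h.el o u = h.v * h.z := by
      rw [h.v_eq, h.z_eq, h.el_mul]; rfl
    rw [e1]
    have e2 : h.v * h.z * x * (h.v * h.z)⁻¹ = h.v * x * h.v⁻¹ := by
      calc h.v * h.z * x * (h.v * h.z)⁻¹ = h.v * (h.z * x) * h.z⁻¹ * h.v⁻¹ := by group
        _ = h.v * (x * h.z) * h.z⁻¹ * h.v⁻¹ := by rw [hxz]
        _ = _ := by group
    rw [e2]

/-- `two` for the other involutions of `U` -/
theorem two' (T : Tab h) {k : F4} (hk : k ≠ o) {g : G} (hg : g * h.el o k = h.el o k * g)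
    (hga : g * h.a * g⁻¹ * (h.a)⁻¹ ∈ KK (h.el o k)) : ∃ n : ℕ, g ^ (2 ^ n) ∈ KK (h.el o k) := by
  obtain ⟨c, hc⟩ := T.exists_c hk
  have hz : c * h.el o e * c⁻¹ = h.el o k := by
    rw [hc, Ar.mul_e]
  have ha : c * h.a * c⁻¹ = h.a := by
    rw [h.a_eq, hc, Ar.mul_o]
  have hz' : c⁻¹ * h.el o k * (c⁻¹)⁻¹ = h.z := by
    rw [← hz, h.z_eq]; group
  have ha' : c⁻¹ * h.a * (c⁻¹)⁻¹ = h.a := by
    nth_rw 1 [← ha]; group
  obtain ⟨n, hn⟩ := T.two (c⁻¹ * g * c) (by
    have h1 := (h.comm_el_conj (g := g) (c := c⁻¹) (x := o) (y := k) (x' := o) (y' := e) hz').1 hg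
    rw [inv_inv] at h1
    exact h1) (by
    have h1 := (KK_map_iff hz').1 hga
    have e1 : c⁻¹ * (g * h.a * g⁻¹ * (h.a)⁻¹) * (c⁻¹)⁻¹ =
        (c⁻¹ * g * c) * (c⁻¹ * h.a * (c⁻¹)⁻¹) * (c⁻¹ * g * c)⁻¹ * (c⁻¹ * h.a * (c⁻¹)⁻¹)⁻¹ := by group
    rw [e1, ha'] at h1
    exact h1)
  refine ⟨n, ?_⟩
  rw [KK_map_iff hz']
  have e2 : c⁻¹ * g ^ (2 ^ n) * (c⁻¹)⁻¹ = (c⁻¹ * g * c) ^ (2 ^ n) := by
    have := conj_pow (i := 2 ^ n) (a := c⁻¹) (b := g)
    rw [inv_inv] at this
    rw [this, inv_inv]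
  rw [e2]
  exact hn

end Tab

/-- splitting for `E1`-invariant subgroups -/
theorem inv_split_el {G : Type*} [Group G] (h : Setup G) {D : Subgroup G} (hD : Odd (Nat.card D))
    (hE : ∀ x c : F4, ∀ y ∈ D, h.el x c * y * (h.el x c)⁻¹ ∈ D) (x c x' c' : F4) :
    inv D (h.el x c) = inv (D ⊓ centralizer {h.el x' c'}) (h.el x c) *
      inv (D ⊓ centralizer {h.el (x + x') (c + c')}) (h.el x c) := by
  rw [← h.el_mul]
  exact inv_split hD (h.el_sq _ _) (h.el_sq _ _) (h.el_comm _ _ _ _) (hE x c) (hE x' c')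

theorem inf_cent_inv {G : Type*} [Group G] (h : Setup G) {D : Subgroup G}
    (hE : ∀ x c : F4, ∀ y ∈ D, h.el x c * y * (h.el x c)⁻¹ ∈ D) (x' c' : F4) :
    ∀ x c : F4, ∀ y ∈ D ⊓ centralizer {h.el x' c'}, h.el x c * y * (h.el x c)⁻¹ ∈
      D ⊓ centralizer {h.el x' c'} := by
  intro x c y hy
  refine ⟨hE x c y hy.1, h.mem_cent_el.2 ?_⟩
  have h1 := h.mem_cent_el.1 hy.2
  have h2 := h.el_comm x c x' c'
  have h3 : h.el x c * h.el x' c' * (h.el x c)⁻¹ = h.el x' c' := by rw [h2]; group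
  have h4 := (h.comm_el_conj (g := y) (c := h.el x c) h3).1 h1
  exact h4

section

variable {G : Type*} [Group G] [Finite G] {h : Setup G}

theorem KK_el_inv (h : Setup G) (x' c' : F4) : ∀ x c : F4, ∀ y ∈ KK (h.el x' c'),
    h.el x c * y * (h.el x c)⁻¹ ∈ KK (h.el x' c') := by
  intro x c y hy
  have h3 : h.el x c * h.el x' c' * (h.el x c)⁻¹ = h.el x' c' := by rw [h.el_comm]; group
  exact (KK_map_iff h3).1 hy

/-- the factors of `inv_K` -/
theorem inv_K_factor (T : Tab h) (l c1 c2 : F4) (h1 : c1 = l ∨ c1 = l + e) (h2 : c2 = l * w ∨ c2 = l * w + e) :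
    inv (KK h.z ⊓ centralizer {h.el e c1} ⊓ centralizer {h.el w c2}) h.v = m2 h := by
  have e0 : (o : F4) + o = o := rfl
  rw [← T.inv_m2 l (k := e) (k' := w) (by decide) (by decide) (by decide)]
  apply inv_congr
  intro x
  refine and_congr_left fun _ => ?_
  rw [mem_inf, mem_inf, mem_inf, h.mem_cent_el, h.mem_cent_el, h.mem_cent_V, and_assoc]
  refine and_congr_right fun hx => ?_
  have hxz : x * h.el o e = h.el o e * x := KK_comm hx
  constructor
  · rintro ⟨a1, a2⟩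
    have b1 : x * h.el e l = h.el e l * x := by
      rcases h1 with rfl | rfl
      · exact a1
      · have := h.comm_el_add a1 hxz
        have f1 : e + o = e := rfl
        rwa [f1, Ar.add_ee] at this
    have b2 : x * h.el w (l * w) = h.el w (l * w) * x := by
      rcases h2 with rfl | rfl
      · exact a2
      · have := h.comm_el_add a2 hxz
        have f1 : w + o = w := rfl
        rwa [f1, Ar.add_ee] at this
    intro t
    cases t with
    | o =>
      rw [Ar.mul_o]; exact h.comm_one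
    | e =>
      rw [Ar.mul_e]; exact b1
    | w => exact b2
    | u =>
      have := h.comm_el_add b1 b2
      have f1 : e + w = u := rfl
      rwa [f1, Ar.add_w] at this
  · intro a
    have b1 := a e
    have b2 := a w
    rw [Ar.mul_e] at b1
    constructor
    · rcases h1 with rfl | rfl
      · exact b1
      · exact h.comm_el_add b1 hxz
    · rcases h2 with rfl | rfl
      · exact b2
      · exact h.comm_el_add b2 hxz

theorem inv_K (T : Tab h) : inv (KK h.z) h.v = m2 h ^ 4 := by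
  have hE := KK_el_inv h o e
  have hodd : Odd (Nat.card (KK h.z)) := KK_odd _
  have s1 : inv (KK h.z) h.v = inv (KK h.z ⊓ centralizer {h.el e o}) h.v *
      inv (KK h.z ⊓ centralizer {h.el e w}) h.v := inv_split_el h hodd hE o w e o
  have s2 : inv (KK h.z ⊓ centralizer {h.el e o}) h.v =
      inv (KK h.z ⊓ centralizer {h.el e o} ⊓ centralizer {h.el w o}) h.v *
      inv (KK h.z ⊓ centralizer {h.el e o} ⊓ centralizer {h.el w w}) h.v :=
    inv_split_el h (odd_card_of_le inf_le_left hodd) (inf_cent_inv h hE e o) o w w o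
  have s3 : inv (KK h.z ⊓ centralizer {h.el e w}) h.v =
      inv (KK h.z ⊓ centralizer {h.el e w} ⊓ centralizer {h.el w o}) h.v *
      inv (KK h.z ⊓ centralizer {h.el e w} ⊓ centralizer {h.el w w}) h.v :=
    inv_split_el h (odd_card_of_le inf_le_left hodd) (inf_cent_inv h hE e w) o w w o
  rw [s1, s2, s3, inv_K_factor T o o o (by decide) (by decide),
    inv_K_factor T e o w (by decide) (by decide), inv_K_factor T u w o (by decide) (by decide),
    inv_K_factor T w w w (by decide) (by decide)]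
  ring

/-- the second factors of `inv_J` -/
theorem inv_J_factor (T : Tab h) {k : F4} (hk : k = w ∨ k = u) :
    inv (KK h.a ⊓ centralizer {h.el o k} ⊓ centralizer {h.el w e}) h.z = m2 h := by
  have hk0 : k ≠ o := by rcases hk with rfl | rfl <;> decide
  have hke : k ≠ e := by rcases hk with rfl | rfl <;> decide
  rw [← T.inv_m2 k hk0 (k' := e) (by decide) hke]
  apply inv_congr
  intro x
  have key : x * h.el o k = h.el o k * x → ((x * h.el e o = h.el e o * x ∧ x * h.el w e = h.el w e * x) ↔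
      ∀ t : F4, x * h.el t (k * t) = h.el t (k * t) * x) := by
    intro hx
    constructor
    · rintro ⟨a1, a2⟩
      have b1 : x * h.el e k = h.el e k * x := (h.comm_el_add a1 hx :)
      have b2 : x * h.el w (k * w) = h.el w (k * w) * x := by
        rcases hk with rfl | rfl
        · exact (h.comm_el_add a2 hx :)
        · exact a2
      intro t
      cases t with
      | o =>
        rw [Ar.mul_o]; exact h.comm_one
      | e =>
        rw [Ar.mul_e]; exact b1
      | w => exact b2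
      | u =>
        have := h.comm_el_add b1 b2
        have f1 : e + w = u := rfl
        rwa [f1, Ar.add_w] at this
    · intro a
      have b1 := a e
      have b2 := a w
      constructor
      · rcases hk with rfl | rfl
        · exact h.comm_el_add b1 hx
        · exact h.comm_el_add b1 hx
      · rcases hk with rfl | rfl
        · exact h.comm_el_add b2 hx
        · exact b2
  rw [mem_inf, mem_inf, mem_inf, h.mem_cent_el, h.mem_cent_el, h.mem_cent_V]
  constructor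
  · rintro ⟨⟨⟨c1, c2⟩, c3⟩, c4⟩
    have hxa : x * h.el e o = h.el e o * x := KK_comm c1
    refine ⟨⟨?_, (key c2).1 ⟨hxa, c3⟩⟩, c4⟩
    obtain ⟨n, hn⟩ := T.two' hk0 c2 (by
      have : x * h.a * x⁻¹ * (h.a)⁻¹ = 1 := by rw [h.a_eq, hxa]; group
      rw [this]; exact one_mem _)
    exact mem_of_pow_two_pow_mem (Functor.odd_orderOf_of_mem (KK_odd _) c1) hn
  · rintro ⟨⟨c1, c2⟩, c4⟩
    have hxk : x * h.el o k = h.el o k * x := KK_comm c1
    obtain ⟨hxa, hxb⟩ := (key hxk).2 c2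
    refine ⟨⟨⟨?_, hxk⟩, hxb⟩, c4⟩
    have h1 := T.cen x hxa w
    have e1 : h.el w o = h.el w e * h.z := by rw [h.z_eq, h.el_mul]; rfl
    have c4' : h.z * x * (h.z)⁻¹ = x⁻¹ := c4
    have e2 : x * h.el w o * x⁻¹ * (h.el w o)⁻¹ = x * x := by
      calc x * h.el w o * x⁻¹ * (h.el w o)⁻¹ = (x * h.el w e) * (h.z * x⁻¹ * (h.z)⁻¹) * (h.el w e)⁻¹ := by
            rw [e1]; group
        _ = (h.el w e * x) * (h.z * x * (h.z)⁻¹)⁻¹ * (h.el w e)⁻¹ := by rw [hxb]; group
        _ = (h.el w e * x) * x * (h.el w e)⁻¹ := by rw [c4', inv_inv]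
        _ = (x * h.el w e) * x * (h.el w e)⁻¹ := by rw [hxb]
        _ = x * (h.el w e * x) * (h.el w e)⁻¹ := by group
        _ = x * (x * h.el w e) * (h.el w e)⁻¹ := by rw [hxb]
        _ = x * x := by group
    rw [e2] at h1
    exact mem_of_sq_mem (Functor.odd_orderOf_of_mem (KK_odd _) c1) h1

/-- the first factors of `inv_J` -/
theorem inv_J_factor' (T : Tab h) {k : F4} (hk : k ≠ o) (hke : k ≠ e) :
    inv (KK h.a ⊓ centralizer {h.el o k} ⊓ centralizer {h.el w o}) h.z = m1 h := by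
  rw [← T.inv_m1 hk (k' := e) (by decide) hke]
  apply inv_congr
  intro x
  refine and_congr_left fun _ => ?_
  rw [mem_inf, mem_inf, mem_inf, mem_inf, h.mem_cent_el, h.mem_cent_el, h.mem_cent_V]
  constructor
  · rintro ⟨⟨c1, c2⟩, c3⟩
    have hxa : x * h.el e o = h.el e o * x := KK_comm c1
    refine ⟨⟨c1, ?_⟩, c2⟩
    intro t
    rw [Ar.o_mul]
    cases t with
    | o => exact h.comm_one
    | e => exact hxa
    | w => exact c3
    | u => exact h.comm_el_add hxa c3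
  · rintro ⟨⟨c1, c2⟩, c3⟩
    exact ⟨⟨c1, c3⟩, c2 w⟩

theorem inv_J (T : Tab h) : inv (KK h.a) h.z = m1 h ^ 2 * m2 h ^ 2 := by
  have hE := KK_el_inv h e o
  have hodd : Odd (Nat.card (KK h.a)) := KK_odd _
  have s1 : inv (KK h.a) h.z = inv (KK h.a ⊓ centralizer {h.el o w}) h.z *
      inv (KK h.a ⊓ centralizer {h.el o u}) h.z := inv_split_el h hodd hE o e o w
  have s2 : inv (KK h.a ⊓ centralizer {h.el o w}) h.z =
      inv (KK h.a ⊓ centralizer {h.el o w} ⊓ centralizer {h.el w o}) h.z *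
      inv (KK h.a ⊓ centralizer {h.el o w} ⊓ centralizer {h.el w e}) h.z :=
    inv_split_el h (odd_card_of_le inf_le_left hodd) (inf_cent_inv h hE o w) o e w o
  have s3 : inv (KK h.a ⊓ centralizer {h.el o u}) h.z =
      inv (KK h.a ⊓ centralizer {h.el o u} ⊓ centralizer {h.el w o}) h.z *
      inv (KK h.a ⊓ centralizer {h.el o u} ⊓ centralizer {h.el w e}) h.z :=
    inv_split_el h (odd_card_of_le inf_le_left hodd) (inf_cent_inv h hE o u) o e w o
  rw [s1, s2, s3, inv_J_factor' T (k := w) (by decide) (by decide), inv_J_factor T (Or.inl rfl),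
    inv_J_factor' T (k := u) (by decide) (by decide), inv_J_factor T (Or.inr rfl)]
  ring

end

end Cfsg.Agent.J2Sylow
end

-- part: J2Sylow/Weights2
section
set_option autoImplicit false

/-!
# The weights of a `T`-invariant `r`-subgroup (S1776, step (4), piece B2)

`val_lt_of_not_bal` and `inv_P`.
-/

namespace Cfsg.Agent.J2Sylow.Weights2

open Model Model.F4 Subgroup Cfsg.Agent.J2Sylow InvSylow
open Cfsg.Agent.StandardComponent.CentCore

variable {G : Type*} [Group G]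

section Elements

variable (h : Setup G)

theorem el_mul (x c y d : F4) : h.el x c * h.el y d = h.el (x + y) (c + d) := by
  show h.φ _ * h.φ _ = h.φ _
  rw [← map_mul]
  congr 1
  revert x c y d
  decide +kernel

theorem mul_one_F4 (l : F4) : l * e = l := by revert l; decide

theorem mul_o (l : F4) : l * o = o := by revert l; decide

theorem o_add (l : F4) : o + l = l := by revert l; decide

theorem add_o (l : F4) : l + o = l := by revert l; decide

theorem mul_eu (l : F4) : l * e + l * w = l * u := by revert l; decide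

theorem el_o : h.el o o = 1 := map_one h.φ

theorem el_e : h.el o e = h.z := rfl
theorem el_w : h.el o w = h.v := rfl
theorem el_a : h.el e o = h.a := rfl

theorem el_comm (x c y d : F4) : h.el x c * h.el y d = h.el y d * h.el x c := by
  rw [el_mul, el_mul, add_comm x y, add_comm c d]

theorem el_sq (x c : F4) : h.el x c * h.el x c = 1 := by
  rw [el_mul, F4.add_self, F4.add_self]
  exact el_o h

theorem zz : h.z * h.z = 1 := el_sq h o e
theorem vv : h.v * h.v = 1 := el_sq h o w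

/-- the element moving `V_0` to `V_l` -/
noncomputable def ml (l : F4) : G := h.φ ⟨o, l, o, false⟩

theorem ml_conj (l x c : F4) : ml h l * h.el x c * (ml h l)⁻¹ = h.el x (c + l * x) := by
  show h.φ _ * h.φ _ * (h.φ _)⁻¹ = h.φ _
  rw [← map_inv, ← map_mul, ← map_mul]
  congr 1
  revert l x c
  decide +kernel

theorem mem_E1 {s : G} : s ∈ h.E1 ↔ ∃ x c, s = h.el x c := by
  constructor
  · rintro ⟨⟨a, b, c, d⟩, ⟨h1, h2⟩, rfl⟩
    exact ⟨a, c, by subst h1 h2; rfl⟩
  · rintro ⟨x, c, rfl⟩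
    exact ⟨⟨x, o, c, false⟩, ⟨rfl, rfl⟩, rfl⟩

theorem mem_cV {l : F4} {x : G} :
    x ∈ centralizer (h.V l) ↔ ∀ t, x * h.el t (l * t) = h.el t (l * t) * x := by
  rw [mem_centralizer_iff]
  constructor
  · intro H t
    exact (H _ ⟨t, rfl⟩).symm
  · rintro H _ ⟨t, rfl⟩
    exact (H t).symm

theorem mem_cVo {x : G} :
    x ∈ centralizer (h.V o) ↔ ∀ t, x * h.el t o = h.el t o * x := by
  rw [mem_cV]
  have : ∀ t : F4, o * t = o := by decide
  simp only [this]

theorem el_mem_cVo (x c : F4) : h.el x c ∈ centralizer (h.V o) := by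
  rw [mem_cVo]
  intro t
  exact el_comm h _ _ _ _

/-- the conjugate of an element of `C(V_0)` by an element of `E1` -/
theorem conj_cVo (x c : F4) {y : G} (hy : y ∈ centralizer (h.V o)) :
    h.el x c * y * (h.el x c)⁻¹ ∈ centralizer (h.V o) :=
  mul_mem (mul_mem (el_mem_cVo h x c) hy) (inv_mem (el_mem_cVo h x c))

end Elements

section Generic

theorem mem_of_pow_two_pow {H : Subgroup G} {x : G} {n : ℕ} (h : x ^ (2 ^ n) ∈ H)
    (hx : Odd (orderOf x)) : x ∈ H := by
  have h1 : (2 ^ n).Coprime (orderOf x) :=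
    Nat.Coprime.pow_left _ (Nat.coprime_two_left.2 hx)
  have h2 : ∃ k : ℕ, (x ^ (2 ^ n)) ^ k = x := by
    obtain ⟨k, hk⟩ := exists_pow_eq_self_of_coprime h1
    exact ⟨k, hk⟩
  obtain ⟨k, hk⟩ := h2
  rw [← hk]
  exact H.pow_mem h k

theorem mem_of_sq {H : Subgroup G} {x : G} (h : x * x ∈ H) (hx : Odd (orderOf x)) : x ∈ H := by
  refine mem_of_pow_two_pow (n := 1) ?_ hx
  rwa [pow_one, pow_two]

/-- if `s` inverts `x` and `[s, x] ∈ H` then `x ∈ H` (`x` of odd order) -/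
theorem mem_of_inverted {H : Subgroup G} {s x : G} (hx : Odd (orderOf x))
    (h1 : s * x * s⁻¹ = x⁻¹) (h2 : s * x * s⁻¹ * x⁻¹ ∈ H) : x ∈ H := by
  rw [h1] at h2
  have h3 := H.inv_mem h2
  rw [mul_inv_rev, inv_inv] at h3
  exact mem_of_sq h3 hx

/-- if all elements of `D` inverted by `s` are conjugated by `g` to elements of `E` inverted by
`t` -/
theorem inv_le_conj [Finite G] {D E : Subgroup G} {s t : G} (g : G)
    (H : ∀ x ∈ D, s * x * s⁻¹ = x⁻¹ →
      g * x * g⁻¹ ∈ E ∧ t * (g * x * g⁻¹) * t⁻¹ = (g * x * g⁻¹)⁻¹) : inv D s ≤ inv E t := by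
  refine Nat.card_le_card_of_injective
    (fun x : {x : G // x ∈ D ∧ s * x * s⁻¹ = x⁻¹} => (⟨g * x * g⁻¹, H x x.2.1 x.2.2⟩ :
      {x : G // x ∈ E ∧ t * x * t⁻¹ = x⁻¹})) ?_
  intro x y hxy
  have h1 : g * (x : G) * g⁻¹ = g * y * g⁻¹ :=
    congrArg (fun t' : {x : G // x ∈ E ∧ t * x * t⁻¹ = x⁻¹} => (t' : G)) hxy
  exact Subtype.ext (mul_left_cancel (mul_right_cancel h1))

/-- if all elements of `D` inverted by `s` are inverted by `t` and in `E` -/
theorem inv_le [Finite G] {D E : Subgroup G} {s t : G}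
    (H : ∀ x ∈ D, s * x * s⁻¹ = x⁻¹ → x ∈ E ∧ t * x * t⁻¹ = x⁻¹) : inv D s ≤ inv E t := by
  refine Nat.card_le_card_of_injective
    (fun x : {x : G // x ∈ D ∧ s * x * s⁻¹ = x⁻¹} => (⟨x, H x x.2.1 x.2.2⟩ :
      {x : G // x ∈ E ∧ t * x * t⁻¹ = x⁻¹})) ?_
  intro x y hxy
  have h1 : (x : G) = y := congrArg (fun t' : {x : G // x ∈ E ∧ t * x * t⁻¹ = x⁻¹} => (t' : G)) hxy
  exact Subtype.ext h1

/-- for an invariant `r`-group the number of inverted elements is a power of `r` -/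
theorem inv_pow_of [Finite G] {D : Subgroup G} {s : G} {r : ℕ} (hr : r.Prime) (hr2 : r ≠ 2)
    (hD : IsPGroup r D) (hs : s * s = 1) (hn : ∀ x ∈ D, s * x * s⁻¹ ∈ D) :
    ∃ n, inv D s = r ^ n := by
  have : Fact r.Prime := ⟨hr⟩
  obtain ⟨n, hn'⟩ := IsPGroup.iff_card.1 hD
  have ho : Odd (Nat.card D) := by
    rw [hn']
    exact (hr.odd_of_ne_two hr2).pow
  have h1 := inv_mul_card ho hs hn
  obtain ⟨m, -, hm⟩ := (Nat.dvd_prime_pow hr).1 (hn' ▸ Dvd.intro _ h1 : inv D s ∣ r ^ n)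
  exact ⟨m, hm⟩

theorem dvd_of_le_pow {r a m : ℕ} (hr : r.Prime) (h : ∃ n, a = r ^ n) (hle : a ≤ r ^ m) :
    a ∣ r ^ m := by
  obtain ⟨n, rfl⟩ := h
  exact Nat.pow_dvd_pow r ((Nat.pow_le_pow_iff_right hr.one_lt).1 hle)

end Generic

variable {h : Setup G}

theorem z_comm_el (c : F4) : h.el o c * h.z = h.z * h.el o c := el_comm h _ _ _ _

variable [Finite G]

/-- `O(C(a)) ∩ C(V_0) ∩ C(z)` is contained in `O(C(z)) ∩ C(V_0)` -/
theorem D1_le_D2 (T : Tab h) :
    KK h.a ⊓ centralizer (h.V o) ⊓ centralizer {h.z} ≤ KK h.z ⊓ centralizer (h.V o) := by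
  rintro x ⟨⟨h1, h2⟩, h3⟩
  refine ⟨?_, h2⟩
  have h4 : x * h.z = h.z * x := mem_cent.1 h3
  have h5 : x * h.a = h.a * x := core_comm h1
  obtain ⟨n, hn⟩ := T.two x h4 (by rw [h5]; simp)
  exact mem_of_pow_two_pow hn (core_odd_order h1)

omit [Finite G] in
theorem D2_conj (c : F4) : ∀ x ∈ KK h.z ⊓ centralizer (h.V o),
    h.el o c * x * (h.el o c)⁻¹ ∈ KK h.z ⊓ centralizer (h.V o) := fun _ hx =>
  ⟨core_conj_mem (z_comm_el c) hx.1, conj_cVo h _ _ hx.2⟩

omit [Finite G] in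
theorem D1_conj (c : F4) : ∀ x ∈ KK h.a ⊓ centralizer (h.V o) ⊓ centralizer {h.z},
    h.el o c * x * (h.el o c)⁻¹ ∈ KK h.a ⊓ centralizer (h.V o) ⊓ centralizer {h.z} :=
  fun _ hx => ⟨⟨core_conj_mem (el_comm h _ _ _ _) hx.1.1, conj_cVo h _ _ hx.1.2⟩,
    Subgroup.mul_mem _ (Subgroup.mul_mem _ (mem_cent.2 (z_comm_el c)) hx.2)
      (Subgroup.inv_mem _ (mem_cent.2 (z_comm_el c)))⟩

theorem D2_odd : Odd (Nat.card ↥(KK h.z ⊓ centralizer (h.V o))) :=
  Odd.of_dvd_nat (core_odd h.z) (card_dvd_of_le inf_le_left)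

theorem D1_odd : Odd (Nat.card ↥(KK h.a ⊓ centralizer (h.V o) ⊓ centralizer {h.z})) :=
  Odd.of_dvd_nat (core_odd h.a) (card_dvd_of_le (inf_le_left.trans inf_le_left))

theorem val_lt_of_not_bal (T : Tab h) {r : ℕ} (hr : r.Prime) (hB : ¬ Bal r h) :
    padicValNat r (m1 h) < padicValNat r (m2 h) := by
  classical
  -- a bad element
  unfold Bal at hB
  push Not at hB
  obtain ⟨x, hxz, hxV, hxv, ⟨k, hk⟩, hxa⟩ := hB
  have hx2 : x ∈ KK h.z ⊓ centralizer (h.V o) := ⟨hxz, (mem_cVo h).2 hxV⟩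
  have hY : IsPGroup r (zpowers x) := by
    intro y
    obtain ⟨n, hn⟩ := mem_zpowers_iff.1 y.2
    refine ⟨k, Subtype.ext ?_⟩
    show (y : G) ^ r ^ k = 1
    rw [← hn, ← zpow_natCast, ← zpow_mul, mul_comm, zpow_mul, zpow_natCast, hk, one_zpow]
  have hYv : ∀ y ∈ zpowers x, h.v * y * h.v⁻¹ ∈ zpowers x := by
    intro y hy
    obtain ⟨n, rfl⟩ := mem_zpowers_iff.1 hy
    rw [← conj_zpow, hxv, inv_zpow]
    exact inv_mem (zpow_mem (mem_zpowers x) n)
  obtain ⟨P, hYP, hPD, hP, hPi, hAP⟩ := exists_inv_sylow' hr (vv h) (D2_odd (h := h))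
    (D2_conj w) (zpowers_le.2 hx2) hY hYv
  -- a Sylow subgroup of `D1` and one of `D2` containing it
  obtain ⟨P1, -, hP1D, hP1, hP1i, hAP1⟩ := exists_inv_sylow' (Y := ⊥) hr (vv h) (D1_odd (h := h))
    (D1_conj w) bot_le IsPGroup.of_bot (by
      intro y hy
      rw [mem_bot] at hy ⊢
      rw [hy]; group)
  obtain ⟨P2, hP12, hP2D, hP2, hP2i, hAP2⟩ := exists_inv_sylow' hr (vv h) (D2_odd (h := h))
    (D2_conj w) (hP1D.trans (D1_le_D2 T)) hP1 hAP1
  have e1 := inv_eq_pow hr (vv h) (D1_odd (h := h)) (D1_conj w) hP1D hP1 hP1i hAP1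
  have e2 := inv_eq_pow hr (vv h) (D2_odd (h := h)) (D2_conj w) hP2D hP2 hP2i hAP2
  -- conjugate the bad element into `P2`
  obtain ⟨c, hc, hcv, hcP⟩ := conj_of_inv hr (isPGroup_zpowers (vv h)) (D2_odd (h := h))
    (zpowers_inv (vv h) (D2_conj w)) hPD hP hPi (zpowers_inv (vv h) hAP) hP2D hP2 hP2i
    (zpowers_inv (vv h) hAP2)
  have hcv' : h.v * c = c * h.v := hcv h.v (mem_zpowers _)
  have hca : c * h.a = h.a * c := ((mem_cVo h).1 hc.2 e)
  have hx' : c * x * c⁻¹ ∈ P2 := by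
    rw [hcP]
    have : c⁻¹ * (c * x * c⁻¹) * c = x := by group
    rw [this]
    exact hYP (mem_zpowers x)
  have hx'v : h.v * (c * x * c⁻¹) * h.v⁻¹ = (c * x * c⁻¹)⁻¹ := by
    calc h.v * (c * x * c⁻¹) * h.v⁻¹ = (h.v * c) * x * (h.v * c)⁻¹ := by group
      _ = c * (h.v * x * h.v⁻¹) * c⁻¹ := by rw [hcv']; group
      _ = (c * x * c⁻¹)⁻¹ := by rw [hxv]; group
  have hx'a : c * x * c⁻¹ ∉ KK h.a := by
    intro hm
    have hci : c⁻¹ * h.a = h.a * c⁻¹ := (Commute.inv_left hca)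
    have h1 := core_conj_mem hci hm
    have h2 : c⁻¹ * (c * x * c⁻¹) * c⁻¹⁻¹ = x := by group
    rw [h2] at h1
    exact hxa h1
  -- strict inequality
  have hlt : inv P1 h.v < inv P2 h.v := by
    have hfin : Finite {x : G // x ∈ P2 ∧ h.v * x * h.v⁻¹ = x⁻¹} := inferInstance
    let f : {x : G // x ∈ P1 ∧ h.v * x * h.v⁻¹ = x⁻¹} →
      {x : G // x ∈ P2 ∧ h.v * x * h.v⁻¹ = x⁻¹} := fun x => ⟨x, hP12 x.2.1, x.2.2⟩
    have hf : Function.Injective f := by
      intro x y hxy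
      have h1 : (x : G) = y :=
        congrArg (fun t' : {x : G // x ∈ P2 ∧ h.v * x * h.v⁻¹ = x⁻¹} => (t' : G)) hxy
      exact Subtype.ext h1
    refine lt_of_le_of_ne (Nat.card_le_card_of_injective f hf) fun heq => ?_
    obtain ⟨y, hy⟩ := ((Nat.bijective_iff_injective_and_card f).2 ⟨hf, heq⟩).2
      ⟨c * x * c⁻¹, hx', hx'v⟩
    have h1 : (y : G) = c * x * c⁻¹ :=
      congrArg (fun t' : {x : G // x ∈ P2 ∧ h.v * x * h.v⁻¹ = x⁻¹} => (t' : G)) hy
    apply hx'a
    rw [← h1]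
    exact (hP1D y.2.1).1.1
  rw [e1, e2] at hlt
  exact (Nat.pow_lt_pow_iff_right hr.one_lt).1 hlt

/-- the key step at `V_0` -/
theorem step (T : Tab h) {r : ℕ} (hr : r.Prime) (hr2 : r ≠ 2) (hB : ¬ Bal r h)
    {P : Subgroup G} (hP : IsPGroup r P) (hE : ∀ x c, ∀ y ∈ P, h.el x c * y * (h.el x c)⁻¹ ∈ P)
    (hPK : ¬ r ∣ (P ⊓ KK h.z).relIndex (KK h.z)) {c' : F4} (hc' : c' = w ∨ c' = u)
    {D : Subgroup G} (hDP : D ≤ P) (hDV : D ≤ centralizer (h.V o))
    (hDc : ∀ x ∈ D, x * h.el o c' = h.el o c' * x) (hDz : ∀ x ∈ D, h.z * x * h.z⁻¹ ∈ D) :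
    inv D h.z ∣ r ^ padicValNat r (m1 h) := by
  classical
  have : Fact r.Prime := ⟨hr⟩
  -- the Sylow subgroup `P ∩ O(C(z)) ∩ C(V_0)` of `O(C(z)) ∩ C(V_0)`
  have hAE : _root_.Subgroup.closure (h.V o) ≤ h.E1 := by
    rw [closure_le]
    rintro _ ⟨x, rfl⟩
    exact (mem_E1 h).2 ⟨_, _, rfl⟩
  have hA2 : IsPGroup 2 (closure (h.V o)) := by
    rintro ⟨t, ht⟩
    refine ⟨1, Subtype.ext ?_⟩
    obtain ⟨x, c, rfl⟩ := (mem_E1 h).1 (hAE ht)
    show h.el x c ^ 2 ^ 1 = 1
    rw [pow_one, pow_two, el_sq]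
  have hCA : centralizer (h.V o) = centralizer ((closure (h.V o) : Subgroup G) : Set G) :=
    (centralizer_closure _).symm
  have hAz : ∀ s ∈ closure (h.V o), ∀ x ∈ KK h.z, s * x * s⁻¹ ∈ KK h.z := by
    intro s hs x hx
    obtain ⟨y, c, rfl⟩ := (mem_E1 h).1 (hAE hs)
    exact core_conj_mem (el_comm h _ _ _ _) hx
  have hAP : ∀ s ∈ closure (h.V o), ∀ x ∈ P ⊓ KK h.z, s * x * s⁻¹ ∈ P ⊓ KK h.z := by
    intro s hs x hx
    refine ⟨?_, hAz s hs x hx.2⟩
    obtain ⟨y, c, rfl⟩ := (mem_E1 h).1 (hAE hs)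
    exact hE _ _ _ hx.1
  have c1 := cent_sylow hr hA2 (core_odd h.z) hAz inf_le_right (hP.to_le inf_le_left) hPK hAP hCA
  have hPv : ∀ x ∈ P ⊓ KK h.z ⊓ centralizer (h.V o), h.v * x * h.v⁻¹ ∈
      P ⊓ KK h.z ⊓ centralizer (h.V o) := fun x hx =>
    ⟨⟨hE o w x hx.1.1, core_conj_mem (z_comm_el w) hx.1.2⟩, conj_cVo h o w hx.2⟩
  have e2 := inv_eq_pow hr (vv h) (D2_odd (h := h)) (D2_conj w)
    (inf_le_inf_right _ inf_le_right : P ⊓ KK h.z ⊓ centralizer (h.V o) ≤ _)
    (hP.to_le (inf_le_left.trans inf_le_left)) c1 hPv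
  -- some element of `U` centralizes `P ∩ C(V_0)` modulo `O(C(a))`
  obtain ⟨y, hy, hst⟩ := T.star r hr hr2 (P ⊓ centralizer (h.V o)) (hP.to_le inf_le_left)
    (fun x hx => (mem_cVo h).1 hx.2 e)
    (fun y x hx => ⟨hE o y x hx.1, conj_cVo h o y hx.2⟩)
  have hodd : ∀ x ∈ P, Odd (orderOf x) := by
    intro x hx
    obtain ⟨n, hn⟩ := IsPGroup.iff_orderOf.1 hP ⟨x, hx⟩
    rw [Subgroup.orderOf_mk] at hn
    rw [hn]
    exact (hr.odd_of_ne_two hr2).pow
  have hye : y = e := by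
    by_contra hye
    have hy' : y = w ∨ y = u := by
      cases y
      · exact absurd rfl hy
      · exact absurd rfl hye
      · exact Or.inl rfl
      · exact Or.inr rfl
    have h1 : inv (P ⊓ KK h.z ⊓ centralizer (h.V o)) h.v ≤
        inv (P ⊓ KK h.z ⊓ centralizer (h.V o) ⊓ KK h.a) h.v := by
      refine inv_le fun x hx hxv => ⟨⟨hx, ?_⟩, hxv⟩
      refine mem_of_inverted (hodd x hx.1.1) (s := h.el o y) ?_ (hst x ⟨hx.1.1, hx.2⟩)
      rcases hy' with rfl | rfl
      · exact hxv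
      · have h2 : h.el o u = h.z * h.v := by
          rw [← el_e, ← el_w, el_mul]; rfl
        have h3 : x * h.z = h.z * x := core_comm hx.1.2
        rw [h2]
        calc h.z * h.v * x * (h.z * h.v)⁻¹ = h.z * (h.v * x * h.v⁻¹) * h.z⁻¹ := by group
          _ = h.z * x⁻¹ * h.z⁻¹ := by rw [hxv]
          _ = x⁻¹ := by
            have h4 : h.z * x⁻¹ = x⁻¹ * h.z := (Commute.inv_right (show Commute h.z x from h3.symm))
            rw [h4]; group
    have h2 : inv (P ⊓ KK h.z ⊓ centralizer (h.V o) ⊓ KK h.a) h.v ∣ r ^ padicValNat r (m1 h) := by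
      refine inv_dvd hr (vv h) (D1_odd (h := h)) (D1_conj w) ?_ ?_ ?_
      · rintro x ⟨⟨⟨h1, h2⟩, h3⟩, h4⟩
        exact ⟨⟨h4, h3⟩, mem_cent.2 (core_comm h2)⟩
      · exact hP.to_le ((inf_le_left.trans inf_le_left).trans inf_le_left)
      · intro x hx
        exact ⟨hPv x hx.1, core_conj_mem (el_comm h _ _ _ _) hx.2⟩
    rw [e2] at h1
    have h3 := h1.trans (Nat.le_of_dvd (pow_pos hr.pos _) h2)
    have h4 := (Nat.pow_le_pow_iff_right hr.one_lt).1 h3
    exact absurd (val_lt_of_not_bal T hr hB) (not_lt.2 h4)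
  subst hye
  -- the `z`-inverted elements of `D` are in `O(C(a))`
  have hDa : ∀ x ∈ D, h.z * x * h.z⁻¹ = x⁻¹ → x ∈ KK h.a := fun x hx hxz =>
    mem_of_inverted (hodd x (hDP hx)) hxz (hst x ⟨hDP hx, hDV hx⟩)
  -- the element moving `c'` to `e`
  obtain ⟨g, hg1, hg2, k, hk, hg3⟩ : ∃ g : G, (∀ x : F4, g * h.el x o * g⁻¹ = h.el x o) ∧
      g * h.el o c' * g⁻¹ = h.z ∧ ∃ k : F4, (k = w ∨ k = u) ∧ g * h.z * g⁻¹ = h.el o k := by
    obtain ⟨c, hc1, hc2⟩ := T.c3
    rcases hc' with rfl | rfl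
    · refine ⟨c * c, fun x => ?_, ?_, u, Or.inr rfl, ?_⟩
      · calc c * c * h.el x o * (c * c)⁻¹ = c * (c * h.el x o * c⁻¹) * c⁻¹ := by group
          _ = h.el x o := by rw [hc1, hc1]
      · calc c * c * h.el o w * (c * c)⁻¹ = c * (c * h.el o w * c⁻¹) * c⁻¹ := by group
          _ = h.el o (w * (w * w)) := by rw [hc2, hc2]
          _ = h.z := rfl
      · calc c * c * h.el o e * (c * c)⁻¹ = c * (c * h.el o e * c⁻¹) * c⁻¹ := by group
          _ = h.el o (w * (w * e)) := by rw [hc2, hc2]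
          _ = _ := rfl
    · exact ⟨c, hc1, hc2 u, w, Or.inl rfl, hc2 e⟩
  have hga : g * h.a = h.a * g := by
    have h1 := hg1 e
    exact mul_inv_eq_iff_eq_mul.1 h1
  have hgV : ∀ x ∈ centralizer (h.V o), g * x * g⁻¹ ∈ centralizer (h.V o) := by
    have hg : g ∈ centralizer (h.V o) :=
      (mem_cVo h).2 fun t => mul_inv_eq_iff_eq_mul.1 (hg1 t)
    intro x hx
    exact mul_mem (mul_mem hg hx) (inv_mem hg)
  have hkv : h.v = h.el o k ∨ h.v = h.z * h.el o k := by
    rcases hk with rfl | rfl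
    · exact Or.inl rfl
    · right
      rw [← el_e, el_mul]; rfl
  -- elements commuting with `z`
  have hvk : ∀ x : G, x * h.z = h.z * x → h.v * x * h.v⁻¹ = h.el o k * x * (h.el o k)⁻¹ := by
    intro x hx
    rcases hkv with h1 | h1
    · rw [h1]
    · have h2 : (h.el o k * x * (h.el o k)⁻¹) * h.z = h.z * (h.el o k * x * (h.el o k)⁻¹) := by
        have h3 : Commute (h.el o k) h.z := z_comm_el k
        have h4 : Commute x h.z := hx
        exact (h3.mul_left h4).mul_left h3.inv_left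
      rw [h1]
      calc h.z * h.el o k * x * (h.z * h.el o k)⁻¹ =
          h.z * (h.el o k * x * (h.el o k)⁻¹) * h.z⁻¹ := by group
        _ = _ := by rw [← h2]; group
  let D' : Subgroup G := (D ⊓ KK h.a).map (MulAut.conj g).toMonoidHom
  have hD'z : ∀ x ∈ D, (g * x * g⁻¹) * h.z = h.z * (g * x * g⁻¹) := by
    intro x hx
    rw [← hg2]
    calc g * x * g⁻¹ * (g * h.el o c' * g⁻¹) = g * (x * h.el o c') * g⁻¹ := by group
      _ = g * h.el o c' * g⁻¹ * (g * x * g⁻¹) := by rw [hDc x hx]; group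
  have hD'1 : D' ≤ KK h.a ⊓ centralizer (h.V o) ⊓ centralizer {h.z} := by
    rintro _ ⟨x, hx, rfl⟩
    exact ⟨⟨core_conj_mem hga hx.2, hgV x (hDV hx.1)⟩, mem_cent.2 (hD'z x hx.1)⟩
  have hD'r : IsPGroup r D' := (hP.to_le (inf_le_left.trans hDP)).map _
  have hD'v : ∀ x ∈ D', h.v * x * h.v⁻¹ ∈ D' := by
    rintro _ ⟨x, hx, rfl⟩
    show h.v * (g * x * g⁻¹) * h.v⁻¹ ∈ D'
    rw [hvk _ (hD'z x hx.1), ← hg3]
    refine ⟨h.z * x * h.z⁻¹, ⟨hDz x hx.1, core_conj_mem (el_comm h _ _ _ _) hx.2⟩, ?_⟩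
    show g * (h.z * x * h.z⁻¹) * g⁻¹ = _
    group
  have h1 : inv D h.z ≤ inv D' h.v := by
    refine inv_le_conj g fun x hx hxz => ⟨⟨x, ⟨hx, hDa x hx hxz⟩, rfl⟩, ?_⟩
    rw [hvk _ (hD'z x hx), ← hg3]
    calc g * h.z * g⁻¹ * (g * x * g⁻¹) * (g * h.z * g⁻¹)⁻¹ = g * (h.z * x * h.z⁻¹) * g⁻¹ := by
          group
      _ = _ := by rw [hxz]; group
  have h2 := inv_dvd hr (vv h) (D1_odd (h := h)) (D1_conj w) hD'1 hD'r hD'v
  exact dvd_of_le_pow hr (inv_pow_of hr hr2 (hP.to_le hDP) (zz h) hDz)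
    (h1.trans (Nat.le_of_dvd (pow_pos hr.pos _) h2))

/-- the key step at `V_l` -/
theorem step_l (T : Tab h) {r : ℕ} (hr : r.Prime) (hr2 : r ≠ 2) (hB : ¬ Bal r h)
    {P : Subgroup G} (hP : IsPGroup r P) (hE : ∀ x c, ∀ y ∈ P, h.el x c * y * (h.el x c)⁻¹ ∈ P)
    (hPK : ¬ r ∣ (P ⊓ KK h.z).relIndex (KK h.z)) {c' : F4} (hc' : c' = w ∨ c' = u) (l : F4)
    {D : Subgroup G} (hDP : D ≤ P) (hDV : D ≤ centralizer (h.V l))
    (hDc : ∀ x ∈ D, x * h.el o c' = h.el o c' * x) (hDz : ∀ x ∈ D, h.z * x * h.z⁻¹ ∈ D) :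
    inv D h.z ∣ r ^ padicValNat r (m1 h) := by
  have : Fact r.Prime := ⟨hr⟩
  let m := ml h l
  have hm : ∀ x c : F4, m⁻¹ * h.el x (c + l * x) * m = h.el x c := by
    intro x c
    rw [← ml_conj]
    show m⁻¹ * (m * h.el x c * m⁻¹) * m = _
    group
  have hmo : ∀ c : F4, m⁻¹ * h.el o c * m = h.el o c := by
    intro c
    have h1 := hm o c
    rwa [mul_o, add_o] at h1
  have hmz : m⁻¹ * h.z * m = h.z := hmo e
  have hmz' : m⁻¹ * h.z = h.z * m⁻¹ := by
    conv_rhs => rw [← hmz]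
    group
  let f := (MulAut.conj m⁻¹).toMonoidHom
  have hf : ∀ x, f x = m⁻¹ * x * m := fun x => by
    show m⁻¹ * x * m⁻¹⁻¹ = _
    rw [inv_inv]
  have hfi : Function.Injective f := (MulAut.conj m⁻¹).injective
  have hKz : (KK h.z).map f = KK h.z := by
    have hle : (KK h.z).map f ≤ KK h.z := by
      rintro _ ⟨x, hx, rfl⟩
      show m⁻¹ * x * m⁻¹⁻¹ ∈ _
      exact core_conj_mem hmz' hx
    exact Subgroup.eq_of_le_of_card_ge hle (by rw [Subgroup.card_map_of_injective hfi])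
  have hPK' : ¬ r ∣ (P.map f ⊓ KK h.z).relIndex (KK h.z) := by
    have h1 : P.map f ⊓ KK h.z = (P ⊓ KK h.z).map f := by
      rw [Subgroup.map_inf _ _ _ hfi, hKz]
    have h2 : (P.map f ⊓ KK h.z).relIndex (KK h.z) = (P ⊓ KK h.z).relIndex (KK h.z) := by
      have h3 := Subgroup.relIndex_map_map_of_injective (P ⊓ KK h.z) (KK h.z) hfi
      rw [h1]
      rwa [hKz] at h3
    rwa [h2]
  have hE' : ∀ x c, ∀ y ∈ P.map f, h.el x c * y * (h.el x c)⁻¹ ∈ P.map f := by
    rintro x c _ ⟨y, hy, rfl⟩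
    refine ⟨h.el x (c + l * x) * y * (h.el x (c + l * x))⁻¹, hE _ _ y hy, ?_⟩
    rw [hf, hf, ← hm x c]
    group
  have hDV' : D.map f ≤ centralizer (h.V o) := by
    rintro _ ⟨y, hy, rfl⟩
    rw [mem_cVo]
    intro t
    have h1 := (mem_cV h).1 (hDV hy) t
    have h2 := hm t o
    rw [o_add] at h2
    rw [hf, ← h2]
    calc m⁻¹ * y * m * (m⁻¹ * h.el t (l * t) * m) = m⁻¹ * (y * h.el t (l * t)) * m := by group
      _ = _ := by rw [h1]; group
  have hDc' : ∀ x ∈ D.map f, x * h.el o c' = h.el o c' * x := by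
    rintro _ ⟨y, hy, rfl⟩
    rw [hf, ← hmo c']
    calc m⁻¹ * y * m * (m⁻¹ * h.el o c' * m) = m⁻¹ * (y * h.el o c') * m := by group
      _ = _ := by rw [hDc y hy]; group
  have hDz' : ∀ x ∈ D.map f, h.z * x * h.z⁻¹ ∈ D.map f := by
    rintro _ ⟨y, hy, rfl⟩
    refine ⟨h.z * y * h.z⁻¹, hDz y hy, ?_⟩
    rw [hf, hf]
    calc m⁻¹ * (h.z * y * h.z⁻¹) * m = (m⁻¹ * h.z * m) * (m⁻¹ * y * m) * (m⁻¹ * h.z * m)⁻¹ := by
          group
      _ = _ := by rw [hmz]
  have h1 := step T hr hr2 hB (hP.map f) hE' hPK' hc' (Subgroup.map_mono hDP) hDV' hDc' hDz'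
  have h2 : inv D h.z ≤ inv (D.map f) h.z := by
    refine inv_le_conj m⁻¹ fun x hx hxz => ⟨⟨x, hx, rfl⟩, ?_⟩
    rw [inv_inv]
    conv_lhs => rw [← hmz]
    calc m⁻¹ * h.z * m * (m⁻¹ * x * m) * (m⁻¹ * h.z * m)⁻¹ = m⁻¹ * (h.z * x * h.z⁻¹) * m := by group
      _ = _ := by rw [hxz]; group
  exact dvd_of_le_pow hr (inv_pow_of hr hr2 (hP.to_le hDP) (zz h) hDz)
    (h2.trans (Nat.le_of_dvd (pow_pos hr.pos _) h1))

theorem exists_l : ∀ c' l1 l2 : F4, (c' = w ∨ c' = u) → (l1 = o ∨ l1 = e) → (l2 = o ∨ l2 = e) →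
    ∃ l : F4, (l = l1 ∨ l = l1 + c') ∧ (l * w = l2 ∨ l * w = l2 + c') := by
  decide

omit [Finite G] in
theorem comm_mul {x s t : G} (h1 : x * s = s * x) (h2 : x * t = t * x) :
    x * (s * t) = s * t * x := Commute.mul_right h1 h2

/-- **Piece B2.** -/
theorem inv_P (T : Tab h) {r : ℕ} (hr : r.Prime) (hr2 : r ≠ 2) (hB : ¬ Bal r h)
    {P : Subgroup G} (hP : IsPGroup r P) (hE : ∀ s ∈ h.E1, ∀ x ∈ P, s * x * s⁻¹ ∈ P)
    (hPK : ¬ r ∣ (P ⊓ KK h.z).relIndex (KK h.z)) :
    inv P h.z ∣ r ^ (8 * padicValNat r (m1 h)) := by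
  classical
  have : Fact r.Prime := ⟨hr⟩
  have hE' : ∀ x c, ∀ y ∈ P, h.el x c * y * (h.el x c)⁻¹ ∈ P :=
    fun x c y hy => hE _ ((mem_E1 h).2 ⟨x, c, rfl⟩) y hy
  have hPo : Odd (Nat.card P) := by
    obtain ⟨n, hn⟩ := IsPGroup.iff_card.1 hP
    rw [hn]
    exact (hr.odd_of_ne_two hr2).pow
  -- the hyperplanes
  have key : ∀ c' l1 l2 : F4, (c' = w ∨ c' = u) → (l1 = o ∨ l1 = e) → (l2 = o ∨ l2 = e) →
      inv (P ⊓ centralizer {h.el o c'} ⊓ centralizer {h.el e l1} ⊓ centralizer {h.el w l2}) h.z ∣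
        r ^ padicValNat r (m1 h) := by
    intro c' l1 l2 hc' hl1 hl2
    obtain ⟨l, hl, hlw⟩ := exists_l c' l1 l2 hc' hl1 hl2
    refine step_l T hr hr2 hB hP hE' hPK hc' l (fun x hx => hx.1.1.1) ?_ ?_ ?_
    · intro x hx
      have h1 := mem_cent.1 hx.1.1.2
      have h2 := mem_cent.1 hx.1.2
      have h3 := mem_cent.1 hx.2
      have h4 : x * h.el e (l * e) = h.el e (l * e) * x := by
        rw [mul_one_F4]
        rcases hl with h5 | h5
        · rw [h5]; exact h2
        · have h6 := comm_mul h2 h1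
          rw [el_mul] at h6
          rw [h5]
          exact h6
      have h5 : x * h.el w (l * w) = h.el w (l * w) * x := by
        rcases hlw with h6 | h6
        · rw [h6]; exact h3
        · have h7 := comm_mul h3 h1
          rw [el_mul] at h7
          rw [h6]
          exact h7
      rw [mem_cV]
      intro t
      cases t
      · rw [mul_o, el_o]; simp
      · exact h4
      · exact h5
      · have h6 := comm_mul h4 h5
        rw [el_mul, mul_eu] at h6
        exact h6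
    · intro x hx
      exact mem_cent.1 hx.1.1.2
    · intro x hx
      have hc : ∀ y d : F4, ∀ x : G, x ∈ centralizer ({h.el y d} : Set G) →
          h.z * x * h.z⁻¹ ∈ centralizer ({h.el y d} : Set G) := by
        intro y d x hx
        have h1 : h.z ∈ centralizer ({h.el y d} : Set G) := mem_cent.2 (el_comm h o e y d)
        exact mul_mem (mul_mem h1 hx) (inv_mem h1)
      exact ⟨⟨⟨hE' o e x hx.1.1.1, hc _ _ x hx.1.1.2⟩, hc _ _ x hx.1.2⟩, hc _ _ x hx.2⟩
  -- splitting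
  have hInf : ∀ (D : Subgroup G), (∀ x c, ∀ y ∈ D, h.el x c * y * (h.el x c)⁻¹ ∈ D) →
      ∀ s d : F4, ∀ x c, ∀ y ∈ D ⊓ centralizer {h.el s d},
        h.el x c * y * (h.el x c)⁻¹ ∈ D ⊓ centralizer {h.el s d} := by
    intro D hD s d x c y hy
    have h1 : h.el x c ∈ centralizer ({h.el s d} : Set G) := mem_cent.2 (el_comm h x c s d)
    exact ⟨hD x c y hy.1, Subgroup.mul_mem _ (Subgroup.mul_mem _ h1 hy.2)
      (Subgroup.inv_mem _ h1)⟩
  have hspl : ∀ (D : Subgroup G), D ≤ P → (∀ x c, ∀ y ∈ D, h.el x c * y * (h.el x c)⁻¹ ∈ D) →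
      ∀ s d d' : F4, e + d = d' → inv D h.z = inv (D ⊓ centralizer {h.el s d}) h.z *
        inv (D ⊓ centralizer {h.el s d'}) h.z := by
    intro D hDP hD s d d' hd
    have h1 := inv_split (D := D) (s := h.z) (t := h.el s d)
      (Odd.of_dvd_nat hPo (card_dvd_of_le hDP)) (zz h) (el_sq h s d) (el_comm h o e s d)
      (hD o e) (hD s d)
    have h2 : h.z * h.el s d = h.el s d' := by
      rw [← el_e, el_mul, hd, o_add]
    rw [h2] at h1
    exact h1
  have hw : e + w = u := rfl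
  have hoe : e + o = e := rfl
  have e1 := hspl P le_rfl hE' o w u hw
  have e2 : ∀ c', inv (P ⊓ centralizer {h.el o c'}) h.z = _ := fun c' =>
    hspl (P ⊓ centralizer {h.el o c'}) inf_le_left (hInf P hE' o c') e o e hoe
  have e3 : ∀ c' l1, inv (P ⊓ centralizer {h.el o c'} ⊓ centralizer {h.el e l1}) h.z = _ :=
    fun c' l1 => hspl (P ⊓ centralizer {h.el o c'} ⊓ centralizer {h.el e l1})
      (inf_le_left.trans inf_le_left) (hInf _ (hInf P hE' o c') e l1) w o e hoe
  rw [e1, e2, e2, e3, e3, e3, e3]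
  have k1 := key w o o (Or.inl rfl) (Or.inl rfl) (Or.inl rfl)
  have k2 := key w o e (Or.inl rfl) (Or.inl rfl) (Or.inr rfl)
  have k3 := key w e o (Or.inl rfl) (Or.inr rfl) (Or.inl rfl)
  have k4 := key w e e (Or.inl rfl) (Or.inr rfl) (Or.inr rfl)
  have k5 := key u o o (Or.inr rfl) (Or.inl rfl) (Or.inl rfl)
  have k6 := key u o e (Or.inr rfl) (Or.inl rfl) (Or.inr rfl)
  have k7 := key u e o (Or.inr rfl) (Or.inr rfl) (Or.inl rfl)
  have k8 := key u e e (Or.inr rfl) (Or.inr rfl) (Or.inr rfl)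
  have hp : r ^ (8 * padicValNat r (m1 h)) =
      ((r ^ padicValNat r (m1 h) * r ^ padicValNat r (m1 h)) *
        (r ^ padicValNat r (m1 h) * r ^ padicValNat r (m1 h))) *
      ((r ^ padicValNat r (m1 h) * r ^ padicValNat r (m1 h)) *
        (r ^ padicValNat r (m1 h) * r ^ padicValNat r (m1 h))) := by
    simp only [← pow_add]
    congr 1
    ring
  rw [hp]
  exact Nat.mul_dvd_mul (Nat.mul_dvd_mul (Nat.mul_dvd_mul k1 k2) (Nat.mul_dvd_mul k3 k4))
    (Nat.mul_dvd_mul (Nat.mul_dvd_mul k5 k6) (Nat.mul_dvd_mul k7 k8))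

end Cfsg.Agent.J2Sylow.Weights2
end

-- part: J2Sylow/LemmaD
section
set_option autoImplicit false

/-!
# Good pairs from covering subgroups (S1776, step (4), piece D)

If `H` contains the Sylow 2-subgroup, covers `C(z)/O(C(z))` and contains a Sylow `r`-subgroup of
`O(C(z))`, and `Bal r` fails for `G` but holds for `H` (whenever `H` has the full fusion) then `z`
is isolated in `H`, and the `Z*` theorem gives a good pair `(H, N)`.
-/

namespace Cfsg.Agent.J2Sylow.LemmaD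

open Model Model.F4 Subgroup Cfsg.Agent.J2Sylow InvSylow
open Cfsg.Agent.StandardComponent.CentCore
open Cfsg.Agent.J2Sylow.Weights2 (vv zz mem_cVo mem_of_inverted inv_le inv_le_conj mem_E1 conj_cVo val_lt_of_not_bal
  D2_conj D2_odd D1_odd D1_conj el_mem_cVo)

variable {G : Type*} [Group G] [Finite G]

/-- the setup of a subgroup containing `S` -/
noncomputable def setupOf (h : Setup G) {H : Subgroup G} (hS : h.S ≤ H) : Setup H where
  φ := h.φ.codRestrict H (fun t => hS ⟨t, rfl⟩)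
  inj := fun x y hxy => h.inj (congrArg (fun t : H => (t : G)) hxy)
  odd_index := by
    have h1 := h.relIndex_odd hS
    have h2 : (h.φ.codRestrict H (fun t => hS ⟨t, rfl⟩)).range = h.S.subgroupOf H := by
      ext x
      rw [mem_subgroupOf, MonoidHom.mem_range, Setup.mem_S]
      constructor
      · rintro ⟨t, rfl⟩
        exact ⟨t, rfl⟩
      · rintro ⟨t, ht⟩
        exact ⟨t, Subtype.ext ht⟩
    rw [h2]
    exact h1

theorem setupOf_phi (h : Setup G) {H : Subgroup G} (hS : h.S ≤ H) (t : T) :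
    (((setupOf h hS).φ t : H) : G) = h.φ t := rfl

/-- correcting an element of `C(z)` normalizing a 2-group `Q` to an element of `H` -/
theorem cover_fix {z : G} {H Q : Subgroup G} (hQH : Q ≤ H) (hQ : IsPGroup 2 Q)
    (hQz : ∀ x ∈ Q, x * z = z * x)
    (cover : ∀ g, g * z = z * g → ∃ k ∈ KK z, k * g ∈ H) {g : G} (hg : g * z = z * g)
    (hgQ : ∀ x ∈ Q, g * x * g⁻¹ ∈ Q) :
    ∃ k ∈ KK z, k * g ∈ H ∧ ∀ x ∈ Q, k * x = x * k := by
  have : Fact (Nat.Prime 2) := ⟨Nat.prime_two⟩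
  obtain ⟨k0, hk0, hk0g⟩ := cover g hg
  have hgN := Functor.mem_normalizer_of_conj' hgQ
  have hinv : ∀ x ∈ Q, g⁻¹ * x * g ∈ Q := by
    intro x hx
    have h1 := (mem_normalizer_iff.mp ((normalizer (Q : Set G)).inv_mem hgN) x).mp hx
    rwa [inv_inv] at h1
  have h1 : ∀ x ∈ Q, k0 * x * k0⁻¹ ∈ H := by
    intro x hx
    have h2 := H.mul_mem (H.mul_mem hk0g (hQH (hinv x hx))) (H.inv_mem hk0g)
    have h3 : k0 * g * (g⁻¹ * x * g) * (k0 * g)⁻¹ = k0 * x * k0⁻¹ := by group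
    rwa [h3] at h2
  have hodd : ¬ 2 ∣ Nat.card ↥(KK z ⊓ H) := by
    have h2 : Odd (Nat.card ↥(KK z ⊓ H)) := Odd.of_dvd_nat (core_odd z) (card_dvd_of_le inf_le_left)
    rwa [← Nat.not_even_iff_odd, even_iff_two_dvd] at h2
  obtain ⟨d, hd, hdQ⟩ := SignalizersComponents.CoprimeBasic.exists_fixed_in_coset Q hQ (KK z ⊓ H)
    hodd (fun a ha d hd => ⟨core_conj_mem (hQz a ha) hd.1,
      H.mul_mem (H.mul_mem (hQH ha) hd.2) (H.inv_mem (hQH ha))⟩) k0⁻¹ (by
      intro a ha
      refine ⟨?_, ?_⟩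
      · rw [inv_inv]
        exact mul_mem hk0 (core_conj_mem (hQz a ha) (inv_mem hk0))
      · rw [inv_inv]
        have h2 := H.mul_mem (h1 a ha) (H.inv_mem (hQH ha))
        have h3 : k0 * a * k0⁻¹ * a⁻¹ = k0 * (a * k0⁻¹ * a⁻¹) := by group
        rwa [h3] at h2)
  refine ⟨(k0⁻¹ * d)⁻¹, inv_mem (mul_mem (inv_mem hk0) hd.1), ?_, ?_⟩
  · have h2 := H.mul_mem (H.inv_mem hd.2) hk0g
    have h3 : d⁻¹ * (k0 * g) = (k0⁻¹ * d)⁻¹ * g := by group
    rwa [h3] at h2
  · intro x hx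
    have h2 : Commute x (k0⁻¹ * d) := hdQ x hx
    exact h2.inv_right.symm

section

variable (h : Setup G) {H : Subgroup G} (hS : h.S ≤ H)

/-- `f2` for `H` -/
theorem f2_of_cover (F : Fused h)
    (cover : ∀ g, g * h.z = h.z * g → ∃ k ∈ KK h.z, k * g ∈ H) :
    ∃ g : H, g * (setupOf h hS).z = (setupOf h hS).z * g ∧
      (∀ x ∈ (setupOf h hS).Q, g * x * g⁻¹ ∈ (setupOf h hS).Q) ∧
      g * (setupOf h hS).tau * g⁻¹ = (setupOf h hS).v := by
  obtain ⟨g, hg1, hg2, hg3⟩ := F.f2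
  obtain ⟨k, hk, hkg, hkQ⟩ := cover_fix (h.Q_le_S.trans hS) (h.isPGroup_S.to_le h.Q_le_S)
    (fun x hx => (h.z_comm (h.Q_le_S hx)).symm) cover hg1 hg2
  have hkz : k * h.z = h.z * k := core_comm hk
  refine ⟨⟨k * g, hkg⟩, ?_, ?_, ?_⟩
  · apply Subtype.ext
    show k * g * h.z = h.z * (k * g)
    rw [mul_assoc, hg1, ← mul_assoc, hkz, mul_assoc]
  · rintro _ ⟨t, ht, rfl⟩
    have h1 : g * h.φ t * g⁻¹ ∈ h.Q := hg2 _ ⟨t, ht, rfl⟩
    obtain ⟨t', ht', e⟩ := h1
    refine ⟨t', ht', Subtype.ext ?_⟩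
    show h.φ t' = k * g * h.φ t * (k * g)⁻¹
    have h2 := hkQ (h.φ t') ⟨t', ht', rfl⟩
    calc h.φ t' = k * h.φ t' * k⁻¹ := by rw [h2]; group
      _ = k * (g * h.φ t * g⁻¹) * k⁻¹ := by rw [e]
      _ = _ := by group
  · apply Subtype.ext
    show k * g * h.tau * (k * g)⁻¹ = h.v
    have hv : h.v ∈ h.Q := h.phi_mem_Q.2 (by decide)
    have h2 := hkQ _ hv
    calc k * g * h.tau * (k * g)⁻¹ = k * (g * h.tau * g⁻¹) * k⁻¹ := by group
      _ = h.v := by rw [hg3, h2]; group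

include hS in
/-- the case where `z` is isolated in `H` -/
theorem good_of_isolated {r : ℕ}
    (cover : ∀ g, g * h.z = h.z * g → ∃ k ∈ KK h.z, k * g ∈ H)
    (rpart : ¬ r ∣ (KK h.z ⊓ H).relIndex (KK h.z))
    (hiso : ∀ g ∈ H, g * h.z * g⁻¹ ∈ h.S → g * h.z * g⁻¹ = h.z) : ∃ N, Good h r H N := by
  have : Fact (Nat.Prime 2) := ⟨Nat.prime_two⟩
  have hzo : orderOf (setupOf h hS).z = 2 := by
    rw [orderOf_eq_prime_iff]
    refine ⟨?_, ?_⟩
    · apply Subtype.ext
      show h.z ^ 2 = 1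
      rw [pow_two, zz]
    · intro h1
      have h2 : h.z = 1 := congrArg (fun t : H => (t : G)) h1
      have h3 : h.φ T.z = h.φ 1 := by rw [map_one]; exact h2
      exact absurd (h.inj h3) (by decide)
  let P : Sylow 2 H := IsPGroup.toSylow (P := (setupOf h hS).S) (setupOf h hS).isPGroup_S (by
    have h1 : Odd (setupOf h hS).S.index := (setupOf h hS).odd_index
    rwa [← Nat.not_even_iff_odd, even_iff_two_dvd] at h1)
  obtain ⟨N0, hN0, hN0o, hN0c⟩ := Cfsg.Agent.S0215.result P (setupOf h hS).z hzo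
    (setupOf h hS).z_mem_S (by
      rintro g ⟨t, ht⟩
      apply Subtype.ext
      refine hiso g g.2 ⟨t, ?_⟩
      exact congrArg (fun t : H => (t : G)) ht)
  let M0 : Subgroup G := N0.map H.subtype
  have hM0H : M0 ≤ H := map_subtype_le _
  have hM0o : Odd (Nat.card M0) := by
    rw [show Nat.card M0 = Nat.card N0 from card_map_of_injective H.subtype_injective]
    exact hN0o
  have hM0n : ∀ g ∈ H, ∀ x ∈ M0, g * x * g⁻¹ ∈ M0 := by
    rintro g hg _ ⟨x, hx, rfl⟩
    exact ⟨⟨g, hg⟩ * x * ⟨g, hg⟩⁻¹, hN0.conj_mem x hx _, rfl⟩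
  have hM0c : ∀ g ∈ H, h.z * g * h.z⁻¹ * g⁻¹ ∈ M0 := fun g hg => ⟨_, hN0c ⟨g, hg⟩, rfl⟩
  have hL : ∀ l ∈ KK h.z ⊓ H, ∀ n ∈ M0, l * n * l⁻¹ ∈ M0 := fun l hl n hn => hM0n l hl.2 n hn
  have hmem : ∀ x, x ∈ M0 ⊔ (KK h.z ⊓ H) ↔ ∃ n ∈ M0, ∃ l ∈ KK h.z ⊓ H, x = n * l :=
    fun x => CoreTools.mem_sup_iff hL
  refine ⟨M0 ⊔ (KK h.z ⊓ H), ?_⟩
  constructor
  · exact hS
  · exact sup_le hM0H inf_le_right
  · intro g hg x hx
    obtain ⟨n, hn, l, hl, rfl⟩ := (hmem x).1 hx
    obtain ⟨n', hn', hc⟩ := CoreTools.exists_commute_coset hM0o (zz h) (hM0n g hg) (hM0c g hg)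
    have hcH : g * n' ∈ H := H.mul_mem hg (hM0H hn')
    rw [hmem]
    refine ⟨(g * n') * (n'⁻¹ * n * (l * n' * l⁻¹)) * (g * n')⁻¹, hM0n _ hcH _ ?_,
      (g * n') * l * (g * n')⁻¹, ⟨core_conj_mem hc hl.1, ?_⟩, by group⟩
    · exact mul_mem (mul_mem (inv_mem hn') hn) (hL l hl n' hn')
    · exact H.mul_mem (H.mul_mem hcH hl.2) (H.inv_mem hcH)
  · exact CoreTools.odd_sup hM0o (Odd.of_dvd_nat (core_odd h.z) (card_dvd_of_le inf_le_left)) hL
  · intro g hg
    exact (le_sup_left : M0 ≤ M0 ⊔ (KK h.z ⊓ H)) (hM0c g hg)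
  · exact le_sup_right
  · exact cover
  · exact rpart

end

/-- Sylow `r`-subgroups of `O(C(z))`: the inverted elements of `C(V_0)` -/
theorem inv_PV {h : Setup G} {r : ℕ} (hr : r.Prime)
    {P : Subgroup G} (hPK : P ≤ KK h.z) (hP : IsPGroup r P)
    (hE : ∀ x c, ∀ y ∈ P, h.el x c * y * (h.el x c)⁻¹ ∈ P)
    (hPi : ¬ r ∣ P.relIndex (KK h.z)) :
    inv (P ⊓ centralizer (h.V o)) h.v = r ^ padicValNat r (m2 h) := by
  have hAE : _root_.Subgroup.closure (h.V o) ≤ h.E1 := by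
    rw [closure_le]
    rintro _ ⟨x, rfl⟩
    exact (mem_E1 h).2 ⟨_, _, rfl⟩
  have hA2 : IsPGroup 2 (closure (h.V o)) := by
    rintro ⟨t, ht⟩
    refine ⟨1, Subtype.ext ?_⟩
    obtain ⟨x, c, rfl⟩ := (mem_E1 h).1 (hAE ht)
    show h.el x c ^ 2 ^ 1 = 1
    rw [pow_one, pow_two, h.el_sq]
  have hCA : centralizer (h.V o) = centralizer ((closure (h.V o) : Subgroup G) : Set G) :=
    (centralizer_closure _).symm
  have hAz : ∀ s ∈ closure (h.V o), ∀ x ∈ KK h.z, s * x * s⁻¹ ∈ KK h.z := by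
    intro s hs x hx
    obtain ⟨y, c, rfl⟩ := (mem_E1 h).1 (hAE hs)
    exact core_conj_mem (h.el_comm _ _ _ _) hx
  have hAP : ∀ s ∈ closure (h.V o), ∀ x ∈ P, s * x * s⁻¹ ∈ P := by
    intro s hs x hx
    obtain ⟨y, c, rfl⟩ := (mem_E1 h).1 (hAE hs)
    exact hE _ _ _ hx
  have c1 := cent_sylow hr hA2 (core_odd h.z) hAz hPK hP hPi hAP hCA
  exact inv_eq_pow hr (vv h) (D2_odd (h := h)) (D2_conj w)
    (inf_le_inf_right _ hPK : P ⊓ centralizer (h.V o) ≤ _)
    (hP.to_le inf_le_left) c1 (fun x hx => ⟨hE o w x hx.1, conj_cVo h o w hx.2⟩)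

/-- `O(C_H(a))` as a subgroup of `G` -/
def KH {H : Subgroup G} (a : H) : Subgroup G := (KK a).map H.subtype

theorem KH_odd {H : Subgroup G} (a : H) : Odd (Nat.card (KH a)) := by
  rw [show Nat.card (KH a) = Nat.card (KK a) from card_map_of_injective H.subtype_injective]
  exact core_odd a

omit [Finite G] in
theorem KH_conj {H : Subgroup G} {a : H} {g x : G} (hg : g ∈ H) (hga : g * a = a * g)
    (hx : x ∈ KH a) : g * x * g⁻¹ ∈ KH a := by
  obtain ⟨x, hx, rfl⟩ := hx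
  have h1 : (⟨g, hg⟩ : H) * a = a * ⟨g, hg⟩ := Subtype.ext hga
  exact ⟨_, core_conj_mem h1 hx, rfl⟩

omit [Finite G] in
theorem mem_U (h : Setup G) {s : G} : s ∈ h.U ↔ ∃ c, s = h.el o c := by
  constructor
  · rintro ⟨⟨a, b, c, d⟩, ⟨h1, h2, h3⟩, rfl⟩
    exact ⟨c, by subst h1 h2 h3; rfl⟩
  · rintro ⟨c, rfl⟩
    exact ⟨⟨o, o, c, false⟩, ⟨rfl, rfl, rfl⟩, rfl⟩

/-- **Piece D**, relative to `Std`. -/
theorem good_of_cover' (h : Setup G) (F : Fused h) (T : Tab h) {r : ℕ} (hr : r.Prime)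
    (hr2 : r ≠ 2) (hB : ¬ Bal r h) {H : Subgroup G} (hS : h.S ≤ H)
    (cover : ∀ g, g * h.z = h.z * g → ∃ k ∈ KK h.z, k * g ∈ H)
    (rpart : ¬ r ∣ (KK h.z ⊓ H).relIndex (KK h.z))
    (hstd : Fused (setupOf h hS) → Std (setupOf h hS))
    (hind : ∀ h2 : Setup H, (∀ t, ((h2.φ t : H) : G) = h.φ t) → Fused h2 → Std h2 → Bal r h2) :
    ∃ N, Good h r H N := by
  classical
  by_cases hiso : ∀ g ∈ H, g * h.z * g⁻¹ ∈ h.S → g * h.z * g⁻¹ = h.z
  · exact good_of_isolated h hS cover rpart hiso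
  exfalso
  push Not at hiso
  obtain ⟨g0, hg0H, hg0S, hg0z⟩ := hiso
  have F2 : Fused (setupOf h hS) := by
    refine (setupOf h hS).fused_of_f2 (f2_of_cover h hS F cover) ⟨⟨g0, hg0H⟩, ?_, ?_⟩
    · obtain ⟨t, ht⟩ := hg0S
      exact ⟨t, Subtype.ext ht⟩
    · intro h1
      exact hg0z (congrArg (fun t : H => (t : G)) h1)
  have S2 := hstd F2
  have B2 := hind (setupOf h hS) (fun t => rfl) F2 S2
  have : Fact r.Prime := ⟨hr⟩
  -- facts on `E1`
  have hEH : ∀ x c, h.el x c ∈ H := fun x c => hS ⟨_, rfl⟩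
  have hE1p : IsPGroup 2 h.E1 := h.isPGroup_S.to_le h.E1_le_S
  -- an `E1`-invariant Sylow `r`-subgroup
  obtain ⟨P, -, hPK, hP, hPi, hPE⟩ := exists_inv_sylow (A := h.E1) (K := KK h.z ⊓ H) (Y := ⊥) hr
    hE1p (Odd.of_dvd_nat (core_odd h.z) (card_dvd_of_le inf_le_left)) (by
      rintro s hs x hx
      obtain ⟨y, c, rfl⟩ := (mem_E1 h).1 hs
      exact ⟨core_conj_mem (h.el_comm _ _ _ _) hx.1,
        H.mul_mem (H.mul_mem (hEH y c) hx.2) (H.inv_mem (hEH y c))⟩) bot_le IsPGroup.of_bot (by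
      intro s _ x hx
      rw [mem_bot] at hx ⊢
      rw [hx]; group)
  have hPz : P ≤ KK h.z := hPK.trans inf_le_left
  have hPH : P ≤ H := hPK.trans inf_le_right
  have hPi' : ¬ r ∣ P.relIndex (KK h.z) := by
    rw [← relIndex_mul_relIndex P (KK h.z ⊓ H) (KK h.z) hPK inf_le_left, hr.dvd_mul]
    exact not_or.2 ⟨hPi, rpart⟩
  have hPE' : ∀ x c, ∀ y ∈ P, h.el x c * y * (h.el x c)⁻¹ ∈ P :=
    fun x c y hy => hPE _ ((mem_E1 h).2 ⟨x, c, rfl⟩) y hy
  have e2 := inv_PV hr hPz hP hPE' hPi'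
  -- inverted elements lie in `O(C_H(a))`
  have haH : ∀ g : G, g * ((setupOf h hS).a : H) = ((setupOf h hS).a : H) * g ↔
    g * h.a = h.a * g := fun g => Iff.rfl
  let I : Subgroup G := KH (setupOf h hS).a ⊓ centralizer (h.V o)
  have hIo : Odd (Nat.card I) := Odd.of_dvd_nat (KH_odd _) (card_dvd_of_le inf_le_left)
  have hBx : ∀ x ∈ P, x ∈ centralizer (h.V o) → h.v * x * h.v⁻¹ = x⁻¹ →
      x ∈ KH (setupOf h hS).a := by
    intro x hx hxV hxv
    have h1 : (⟨x, hPH hx⟩ : H) ∈ KK (setupOf h hS).z := by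
      have h2 : (KK h.z ⊓ H).subgroupOf H ≤ KK (setupOf h hS).z := by
        refine le_core _ ?_ ?_ ?_
        · intro y hy
          exact Subtype.ext (core_comm hy.1)
        · intro y hy x hx
          exact ⟨core_conj_mem (congrArg Subtype.val hy) hx.1, (y * x * y⁻¹).2⟩
        · rw [Nat.card_congr (subgroupOfEquivOfLe (inf_le_right : KK h.z ⊓ H ≤ H)).toEquiv]
          exact Odd.of_dvd_nat (core_odd h.z) (card_dvd_of_le inf_le_left)
      exact h2 ⟨hPz hx, hPH hx⟩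
    obtain ⟨k, hk⟩ := hP ⟨x, hx⟩
    have h3 := B2 ⟨x, hPH hx⟩ h1 (fun t => Subtype.ext ((mem_cVo h).1 hxV t)) (Subtype.ext hxv)
      ⟨k, Subtype.ext (by
        have h4 : x ^ r ^ k = 1 := congrArg (fun t : P => (t : G)) hk
        exact h4)⟩
    exact ⟨_, h3, rfl⟩
  have hUI : ∀ c, ∀ x ∈ I, h.el o c * x * (h.el o c)⁻¹ ∈ I := fun c x hx =>
    ⟨KH_conj (hEH o c) (h.el_comm _ _ _ _) hx.1, conj_cVo h o c hx.2⟩
  let Y : Subgroup G := P ⊓ centralizer (h.V o) ⊓ KH (setupOf h hS).a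
  have hY1 : inv (P ⊓ centralizer (h.V o)) h.v ≤ inv Y h.v :=
    inv_le fun x hx hxv => ⟨⟨hx, hBx x hx.1 hx.2 hxv⟩, hxv⟩
  have hYI : Y ≤ I := fun x hx => ⟨hx.2, hx.1.2⟩
  have hYE : ∀ c, ∀ x ∈ Y, h.el o c * x * (h.el o c)⁻¹ ∈ Y := fun c x hx =>
    ⟨⟨hPE' o c x hx.1.1, conj_cVo h o c hx.1.2⟩,
      KH_conj (hEH o c) (h.el_comm _ _ _ _) hx.2⟩
  have hUp : IsPGroup 2 h.U := h.isPGroup_S.to_le h.U_le_S
  have hU : ∀ L : Subgroup G, (∀ c, ∀ x ∈ L, h.el o c * x * (h.el o c)⁻¹ ∈ L) →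
      ∀ s ∈ h.U, ∀ x ∈ L, s * x * s⁻¹ ∈ L := by
    intro L hL s hs x hx
    obtain ⟨c, rfl⟩ := (mem_U h).1 hs
    exact hL c x hx
  obtain ⟨P1, hYP1, hP1I, hP1, hP1i, hP1U⟩ := exists_inv_sylow (A := h.U) hr hUp hIo (hU I hUI) hYI
    (hP.to_le (inf_le_left.trans inf_le_left)) (hU Y hYE)
  have hP1E : ∀ c, ∀ x ∈ P1, h.el o c * x * (h.el o c)⁻¹ ∈ P1 := fun c x hx =>
    hP1U _ ((mem_U h).2 ⟨c, rfl⟩) x hx
  -- the element `c`
  obtain ⟨c, hc1, hc2⟩ := S2
  have hc1' : ∀ x : F4, (c : G) * h.el x o * (c : G)⁻¹ = h.el x o :=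
    fun x => congrArg Subtype.val (hc1 x)
  have hc2' : ∀ y : F4, (c : G) * h.el o y * (c : G)⁻¹ = h.el o (w * y) :=
    fun y => congrArg Subtype.val (hc2 y)
  have hca : (c : G) * h.a = h.a * c := mul_inv_eq_iff_eq_mul.1 (hc1' e)
  have hcV : (c : G) ∈ centralizer (h.V o) :=
    (mem_cVo h).2 fun t => mul_inv_eq_iff_eq_mul.1 (hc1' t)
  let f := (MulAut.conj (c : G)).toMonoidHom
  have hf : ∀ x, f x = c * x * (c : G)⁻¹ := fun x => rfl
  have hfi : Function.Injective f := (MulAut.conj (c : G)).injective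
  have hfI : I.map f = I := by
    have hle : I.map f ≤ I := by
      rintro _ ⟨x, hx, rfl⟩
      exact ⟨KH_conj c.2 hca hx.1, Subgroup.mul_mem _ (Subgroup.mul_mem _ hcV hx.2)
        (Subgroup.inv_mem _ hcV)⟩
    exact Subgroup.eq_of_le_of_card_ge hle (by rw [Subgroup.card_map_of_injective hfi])
  have hP1cI : P1.map f ≤ I := by
    have h1 := Subgroup.map_mono (f := f) hP1I
    rwa [hfI] at h1
  have hP1ci : ¬ r ∣ (P1.map f).relIndex I := by
    have h1 := Subgroup.relIndex_map_map_of_injective P1 I hfi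
    rw [hfI] at h1
    rwa [h1]
  have hwu : ∀ y : F4, w * (u * y) = y := by decide
  have hP1cU : ∀ c', ∀ x ∈ P1.map f, h.el o c' * x * (h.el o c')⁻¹ ∈ P1.map f := by
    rintro c' _ ⟨x, hx, rfl⟩
    refine ⟨h.el o (u * c') * x * (h.el o (u * c'))⁻¹, hP1E _ x hx, ?_⟩
    have h1 := hc2' (u * c')
    rw [hwu] at h1
    rw [hf, hf, ← h1]
    group
  obtain ⟨d, hdI, hdU, hdP⟩ := conj_of_inv (A := h.U) hr hUp hIo (hU I hUI) hP1cI (hP1.map f) hP1ci
    (hU _ hP1cU) hP1I hP1 hP1i hP1U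
  have hgP : ∀ p ∈ P1, (d * c) * p * (d * c)⁻¹ ∈ P1 := by
    intro p hp
    rw [hdP]
    refine ⟨p, hp, ?_⟩
    rw [hf]; group
  have hgU : ∀ y : F4, (d * c) * h.el o y * (d * c)⁻¹ = h.el o (w * y) := by
    intro y
    have h1 := hdU (h.el o (w * y)) ((mem_U h).2 ⟨_, rfl⟩)
    calc (d * c) * h.el o y * (d * c)⁻¹ = d * (c * h.el o y * (c : G)⁻¹) * d⁻¹ := by group
      _ = d * h.el o (w * y) * d⁻¹ := by rw [hc2']
      _ = _ := by rw [← h1]; group
  -- moving around `U`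
  have hmove : ∀ k k' : F4, inv (P1 ⊓ centralizer {h.el o k}) (h.el o k') ≤
      inv (P1 ⊓ centralizer {h.el o (w * k)}) (h.el o (w * k')) := by
    intro k k'
    refine inv_le_conj (d * c) fun x hx hxk => ⟨⟨hgP x hx.1, ?_⟩, ?_⟩
    · exact h.mem_cent_el.2 ((h.comm_el_conj (hgU k)).1 (h.mem_cent_el.1 hx.2))
    · rw [← hgU k']
      calc (d * c) * h.el o k' * (d * c)⁻¹ * ((d * c) * x * (d * c)⁻¹) *
          ((d * c) * h.el o k' * (d * c)⁻¹)⁻¹ = (d * c) * (h.el o k' * x * (h.el o k')⁻¹) *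
          (d * c)⁻¹ := by group
        _ = _ := by rw [hxk]; group
  have hn1 : r ^ padicValNat r (m2 h) ≤ inv (P1 ⊓ centralizer {h.el o e}) (h.el o w) := by
    rw [← e2]
    refine hY1.trans (inv_le fun x hx hxv => ⟨⟨hYP1 hx, ?_⟩, hxv⟩)
    exact h.mem_cent_el.2 (core_comm (hPz hx.1.1))
  have hn2 := hn1.trans (hmove e w)
  have hn3 := hn2.trans (hmove (w * e) (w * w))
  obtain ⟨y, hy, hst⟩ := T.star r hr hr2 P1 hP1 (fun x hx => (mem_cVo h).1 (hP1I hx).2 e)
    (fun y x hx => hP1E y x hx)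
  obtain ⟨k, hk, hky, hle⟩ : ∃ k : F4, k ≠ o ∧ k ≠ y ∧
      r ^ padicValNat r (m2 h) ≤ inv (P1 ⊓ centralizer {h.el o k}) (h.el o y) := by
    cases y
    · exact absurd rfl hy
    · exact ⟨u, by decide, by decide, hn3⟩
    · exact ⟨e, by decide, by decide, hn1⟩
    · exact ⟨w, by decide, by decide, hn2⟩
  have hodd : ∀ x ∈ P1, Odd (orderOf x) := fun x hx =>
    Odd.of_dvd_nat hIo (by
      have h1 := _root_.orderOf_dvd_natCard (⟨x, hP1I hx⟩ : I)
      rwa [Subgroup.orderOf_mk] at h1)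
  have h1 : inv (P1 ⊓ centralizer {h.el o k}) (h.el o y) ≤
      inv (P1 ⊓ centralizer {h.el o k} ⊓ KK h.a) (h.el o y) :=
    inv_le fun x hx hxy => ⟨⟨hx, mem_of_inverted (hodd x hx.1) hxy (hst x hx.1)⟩, hxy⟩
  have hcent : ∀ c', ∀ x ∈ centralizer ({h.el o k} : Set G),
      h.el o c' * x * (h.el o c')⁻¹ ∈ centralizer ({h.el o k} : Set G) := by
    intro c' x hx
    have h2 : h.el o c' ∈ centralizer ({h.el o k} : Set G) := h.mem_cent_el.2 (h.el_comm _ _ _ _)
    exact mul_mem (mul_mem h2 hx) (inv_mem h2)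
  have h2 : inv (P1 ⊓ centralizer {h.el o k} ⊓ KK h.a) (h.el o y) ∣
      r ^ padicValNat r (inv (KK h.a ⊓ centralizer (h.V o) ⊓ centralizer {h.el o k})
        (h.el o y)) := by
    refine inv_dvd hr (h.el_sq o y) ?_ ?_ ?_ ?_ ?_
    · exact Odd.of_dvd_nat (core_odd h.a) (card_dvd_of_le (inf_le_left.trans inf_le_left))
    · intro x hx
      exact ⟨⟨core_conj_mem (h.el_comm _ _ _ _) hx.1.1, conj_cVo h o y hx.1.2⟩,
        hcent y x hx.2⟩
    · intro x hx
      exact ⟨⟨hx.2, (hP1I hx.1.1).2⟩, hx.1.2⟩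
    · exact hP1.to_le (inf_le_left.trans inf_le_left)
    · intro x hx
      exact ⟨⟨hP1E y x hx.1.1, hcent y x hx.1.2⟩, core_conj_mem (h.el_comm _ _ _ _) hx.2⟩
  rw [T.inv_m1 hk hy hky] at h2
  have h3 := (hle.trans h1).trans (Nat.le_of_dvd (pow_pos hr.pos _) h2)
  have h4 := (Nat.pow_le_pow_iff_right hr.one_lt).1 h3
  exact absurd (val_lt_of_not_bal T hr hB) (not_lt.2 h4)

end Cfsg.Agent.J2Sylow.LemmaD
end

-- part: J2Sylow/Quot
section
set_option autoImplicit false

/-!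
# Factoring out a normal subgroup of odd order (piece F of step (4) of S1776)

If `N` is a normal subgroup of odd order of `G` then a `Setup` of `G` gives one of `G ⧸ N`, the
fusion is the same, and the balance property `Bal r` of `G ⧸ N` implies the one of `G`.
-/

namespace Cfsg.Agent.J2Sylow.Quot

open Model Model.F4 Subgroup Cfsg.Agent.J2Sylow
open Cfsg.Agent.StandardComponent.CentCore

section Generic

variable {G : Type*} [Group G]

/-- involutions `x`, `y` with `|xy|` odd are conjugate in `⟨xy⟩` -/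
theorem exists_conj_of_odd {x y : G} (hx : x * x = 1) (hy : y * y = 1)
    (ho : Odd (orderOf (x * y))) : ∃ g ∈ zpowers (x * y), g * x * g⁻¹ = y := by
  obtain ⟨k, hk⟩ := ho
  have h1 : (x * y) ^ (2 * k + 1) = 1 := by rw [← hk]; exact pow_orderOf_eq_one _
  have hxi : x⁻¹ = x := inv_eq_of_mul_eq_one_left hx
  have hyi : y⁻¹ = y := inv_eq_of_mul_eq_one_left hy
  have hinv : ∀ k : ℕ, x * ((x * y) ^ k)⁻¹ = (x * y) ^ k * x := by
    intro k
    have h2 : x * (x * y)⁻¹ * x⁻¹ = x * y := by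
      rw [mul_inv_rev, hxi, hyi]
      calc x * (y * x) * x = x * y * (x * x) := by simp only [mul_assoc]
        _ = x * y := by rw [hx, mul_one]
    have h3 : x * ((x * y) ^ k)⁻¹ * x⁻¹ = (x * y) ^ k := by
      rw [← inv_pow, ← conj_pow, h2]
    exact mul_inv_eq_iff_eq_mul.1 h3
  refine ⟨(x * y) ^ k, npow_mem_zpowers _ _, ?_⟩
  rw [mul_assoc, hinv k, ← mul_assoc, ← pow_add]
  have h4 : (x * y) ^ (k + k) * (x * y) = 1 := by
    rw [← pow_succ, ← h1]; congr 1; omega
  rw [mul_eq_one_iff_eq_inv.mp h4, mul_inv_rev, hxi, hyi, mul_assoc, hx, mul_one]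

theorem odd_orderOf_of_mem {N : Subgroup G} (hN : Odd (Nat.card N)) {x : G} (hx : x ∈ N) :
    Odd (orderOf x) := by
  have h1 := _root_.orderOf_dvd_natCard (⟨x, hx⟩ : N)
  rw [Subgroup.orderOf_mk] at h1
  exact Odd.of_dvd_nat hN h1

/-- involutions which are equal modulo a subgroup of odd order are conjugate in it -/
theorem exists_conj_of_mul_mem {N : Subgroup G} (hN : Odd (Nat.card N)) {x y : G}
    (hx : x * x = 1) (hy : y * y = 1) (hxy : x * y ∈ N) : ∃ n ∈ N, n * x * n⁻¹ = y := by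
  obtain ⟨n, hn, e⟩ := exists_conj_of_odd hx hy (odd_orderOf_of_mem hN hxy)
  exact ⟨n, (zpowers_le.2 hxy) hn, e⟩

/-- an element centralizing the involution `s` modulo `N` centralizes it after multiplication by
an element of `N` -/
theorem exists_mul_comm {N : Subgroup G} (hN : Odd (Nat.card N)) {s g : G}
    (hs : s * s = 1) (hg : g * s * g⁻¹ * s⁻¹ ∈ N) : ∃ n ∈ N, (n * g) * s = s * (n * g) := by
  have hsi : s⁻¹ = s := inv_eq_of_mul_eq_one_left hs
  rw [hsi] at hg
  have h1 : (g * s * g⁻¹) * (g * s * g⁻¹) = 1 := by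
    calc (g * s * g⁻¹) * (g * s * g⁻¹) = g * (s * s) * g⁻¹ := by group
      _ = 1 := by rw [hs]; group
  obtain ⟨n, hn, e⟩ := exists_conj_of_mul_mem hN h1 hs hg
  refine ⟨n, hn, ?_⟩
  calc n * g * s = n * (g * s * g⁻¹) * n⁻¹ * (n * g) := by group
    _ = s * (n * g) := by rw [e]

variable [Finite G] (N : Subgroup G) [N.Normal]

/-- The order of the preimage of a subgroup of a quotient. -/
theorem card_comap_mk (W : Subgroup (G ⧸ N)) :
    Nat.card (W.comap (QuotientGroup.mk' N)) = Nat.card W * Nat.card N := by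
  have h1 : (W.comap (QuotientGroup.mk' N)).index = W.index :=
    Subgroup.index_comap_of_surjective W (QuotientGroup.mk'_surjective N)
  have h2 := (W.comap (QuotientGroup.mk' N)).card_mul_index
  have h3 := W.card_mul_index
  have h4 : Nat.card G = Nat.card (G ⧸ N) * Nat.card N := card_eq_card_quotient_mul_card_subgroup N
  rw [h1] at h2
  have h5 : 0 < W.index := Nat.pos_of_ne_zero index_ne_zero_of_finite
  apply Nat.eq_of_mul_eq_mul_right h5
  rw [h2, h4, ← h3]
  ring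

/-- `O(C(s))` maps into `O(C(sN))` -/
theorem mk_mem_KK (hN : Odd (Nat.card N)) {s x : G} (hs : s * s = 1) (hx : x ∈ KK s) :
    (x : G ⧸ N) ∈ KK (s : G ⧸ N) := by
  have hle : (KK s).map (QuotientGroup.mk' N) ≤ KK (s : G ⧸ N) := by
    refine le_core _ ?_ ?_ ?_
    · rintro _ ⟨y, hy, rfl⟩
      show ((y * s : G) : G ⧸ N) = ((s * y : G) : G ⧸ N)
      rw [core_comm hy]
    · intro g hg _ hy
      obtain ⟨y, hy, rfl⟩ := hy
      obtain ⟨g, rfl⟩ := QuotientGroup.mk_surjective g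
      have hg' : ((g * s : G) : G ⧸ N) = ((s * g : G) : G ⧸ N) := hg
      have h1 : g * s * g⁻¹ * s⁻¹ ∈ N := by
        have h2 := (QuotientGroup.eq (s := N)).1 hg'.symm
        have h3 := (inferInstance : N.Normal).conj_mem _ h2 (s * g)
        have h4 : s * g * ((s * g)⁻¹ * (g * s)) * (s * g)⁻¹ = g * s * g⁻¹ * s⁻¹ := by group
        rwa [h4] at h3
      obtain ⟨n, hn, e⟩ := exists_mul_comm hN hs h1
      refine ⟨(n * g) * y * (n * g)⁻¹, core_conj_mem e hy, ?_⟩
      have h5 : ((n : G) : G ⧸ N) = 1 := (QuotientGroup.eq_one_iff n).2 hn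
      show (((n * g) * y * (n * g)⁻¹ : G) : G ⧸ N) = (g : G ⧸ N) * (y : G ⧸ N) * (g : G ⧸ N)⁻¹
      rw [QuotientGroup.mk_mul, QuotientGroup.mk_mul, QuotientGroup.mk_inv, QuotientGroup.mk_mul,
        h5, one_mul]
    · have h1 : Nat.card ((KK s).map (QuotientGroup.mk' N)) ∣ Nat.card (KK s) :=
        Subgroup.card_map_dvd _ _
      exact Odd.of_dvd_nat (core_odd s) h1
  exact hle ⟨x, hx, rfl⟩

/-- elements of `C(s)` which map into `O(C(sN))` are in `O(C(s))` -/
theorem mem_KK_of_mk (hN : Odd (Nat.card N)) {s x : G} (hxs : x * s = s * x)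
    (hx : (x : G ⧸ N) ∈ KK (s : G ⧸ N)) : x ∈ KK s := by
  let D : Subgroup G := (KK (s : G ⧸ N)).comap (QuotientGroup.mk' N) ⊓ centralizer {s}
  have hD : D ≤ KK s := by
    refine le_core _ (fun y hy => mem_cent.1 hy.2) ?_ ?_
    · intro g hg y hy
      refine ⟨?_, ?_⟩
      · have h1 : (g : G ⧸ N) * (s : G ⧸ N) = (s : G ⧸ N) * (g : G ⧸ N) := by
          rw [← QuotientGroup.mk_mul, ← QuotientGroup.mk_mul, hg]
        exact core_conj_mem h1 hy.1
      · have h2 := mem_cent.1 hy.2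
        have h3 : Commute g s := hg
        have h4 : Commute y s := h2
        exact mem_cent.2 ((h3.mul_left h4).mul_left h3.inv_left)
    · have h1 := card_comap_mk N (KK (s : G ⧸ N))
      have h3 : Nat.card D ∣ Nat.card ((KK (s : G ⧸ N)).comap (QuotientGroup.mk' N)) :=
        Subgroup.card_dvd_of_le inf_le_left
      rw [h1] at h3
      exact Odd.of_dvd_nat ((core_odd _).mul hN) h3
  exact hD ⟨hx, mem_cent.2 hxs⟩

end Generic

section Main

variable {G : Type*} [Group G] [Finite G] (h : Setup G) (N : Subgroup G) [N.Normal]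

/-- the setup of the quotient -/
noncomputable def setup (hN : Odd (Nat.card N)) : Setup (G ⧸ N) where
  φ := (QuotientGroup.mk' N).comp h.φ
  inj := by
    rw [injective_iff_map_eq_one]
    intro t ht
    have h1 : h.φ t ∈ N := (QuotientGroup.eq_one_iff _).1 ht
    have h2 := odd_orderOf_of_mem hN h1
    rw [orderOf_injective h.φ h.inj] at h2
    have h3 : orderOf t ∣ 2 ^ 7 := by
      have := _root_.orderOf_dvd_natCard t
      rw [T.card_T] at this
      exact this
    obtain ⟨k, -, hk⟩ := (Nat.dvd_prime_pow Nat.prime_two).1 h3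
    rcases Nat.eq_zero_or_pos k with h0 | h0
    · rw [h0, pow_zero] at hk
      exact orderOf_eq_one_iff.1 hk
    · rw [hk] at h2
      exact absurd h2 (by rw [Nat.not_odd_iff_even]; exact (Nat.even_pow' h0.ne').2 even_two)
  odd_index := by
    have h1 : ((QuotientGroup.mk' N).comp h.φ).range = h.φ.range.map (QuotientGroup.mk' N) :=
      MonoidHom.range_comp _ _
    rw [h1]
    exact Odd.of_dvd_nat h.odd_index
      (Subgroup.index_map_dvd _ (QuotientGroup.mk'_surjective N))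

/-- **Piece F.** -/
theorem bal_of_quotient (hN : Odd (Nat.card N)) : ∃ h' : Setup (G ⧸ N),
    (∀ t, h'.φ t = (h.φ t : G ⧸ N)) ∧ (Fused h → Fused h') ∧ (Std h → Std h') ∧
    (IsConj h'.z h'.a → IsConj h.z h.a) ∧ ∀ r, Bal r h' → Bal r h := by
  have hφ : ∀ t, (setup h N hN).φ t = (h.φ t : G ⧸ N) := fun t => rfl
  have hzz : h.z * h.z = 1 := by
    show h.φ T.z * h.φ T.z = 1
    rw [← map_mul, show T.z * T.z = 1 by decide, map_one]
  have haa : h.a * h.a = 1 := by
    show h.φ ⟨e, o, o, false⟩ * h.φ ⟨e, o, o, false⟩ = 1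
    rw [← map_mul, show (⟨e, o, o, false⟩ : T) * ⟨e, o, o, false⟩ = 1 by decide, map_one]
  refine ⟨setup h N hN, hφ, ?_, ?_, ?_, ?_⟩
  · rintro ⟨⟨g, hg1, hg2⟩, ⟨k, hk1, hk2, hk3⟩⟩
    refine ⟨⟨(g : G ⧸ N), ?_, ?_⟩, ⟨(k : G ⧸ N), ?_, ?_, ?_⟩⟩
    · rintro _ ⟨t, ht, rfl⟩
      obtain ⟨t', ht', e⟩ := hg1 (h.φ t) ⟨t, ht, rfl⟩
      refine ⟨t', ht', ?_⟩
      rw [hφ, hφ, e]; rfl
    · show ((g * h.v * g⁻¹ : G) : G ⧸ N) = _
      rw [hg2]; rfl
    · show ((k * h.z : G) : G ⧸ N) = ((h.z * k : G) : G ⧸ N)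
      rw [hk1]
    · rintro _ ⟨t, ht, rfl⟩
      obtain ⟨t', ht', e⟩ := hk2 (h.φ t) ⟨t, ht, rfl⟩
      refine ⟨t', ht', ?_⟩
      rw [hφ, hφ, e]; rfl
    · show ((k * h.tau * k⁻¹ : G) : G ⧸ N) = _
      rw [hk3]; rfl
  · rintro ⟨c, hc1, hc2⟩
    refine ⟨(c : G ⧸ N), fun x => ?_, fun y => ?_⟩
    · show ((c * h.el x o * c⁻¹ : G) : G ⧸ N) = _
      rw [hc1]; rfl
    · show ((c * h.el o y * c⁻¹ : G) : G ⧸ N) = _
      rw [hc2]; rfl
  · intro hc
    obtain ⟨g, hg⟩ := isConj_iff.1 hc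
    obtain ⟨g, rfl⟩ := QuotientGroup.mk_surjective g
    have h1 : ((g * h.z * g⁻¹ : G) : G ⧸ N) = ((h.a : G) : G ⧸ N) := hg
    have h2 : g * h.z * g⁻¹ * h.a ∈ N := by
      rw [← QuotientGroup.eq_one_iff, QuotientGroup.mk_mul, h1, ← QuotientGroup.mk_mul, haa]
      rfl
    have h3 : (g * h.z * g⁻¹) * (g * h.z * g⁻¹) = 1 := by
      calc (g * h.z * g⁻¹) * (g * h.z * g⁻¹) = g * (h.z * h.z) * g⁻¹ := by group
        _ = 1 := by rw [hzz]; group
    obtain ⟨n, -, e⟩ := exists_conj_of_mul_mem hN h3 haa h2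
    exact isConj_iff.2 ⟨n * g, by rw [← e]; group⟩
  · intro r hB x hx hV hv hr
    refine mem_KK_of_mk N hN ?_ ?_
    · exact hV e
    · refine hB (x : G ⧸ N) (mk_mem_KK N hN hzz hx) ?_ ?_ ?_
      · intro t
        show ((x * h.el t o : G) : G ⧸ N) = ((h.el t o * x : G) : G ⧸ N)
        rw [hV t]
      · show ((h.v * x * h.v⁻¹ : G) : G ⧸ N) = ((x⁻¹ : G) : G ⧸ N)
        rw [hv]
      · obtain ⟨k, hk⟩ := hr
        exact ⟨k, by rw [← QuotientGroup.mk_pow, hk]; rfl⟩

end Main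

end Cfsg.Agent.J2Sylow.Quot
end

-- part: J2Sylow/CosetCount
section
/-!
# Counting involutions in cosets of an odd order subgroup

General tools for the Thompson order formula in the presence of cores (S1776, S0503).
-/

set_option autoImplicit false

namespace Cfsg.Agent.J2Sylow.CosetCount

open Subgroup

variable {G : Type*} [Group G]

theorem card_sigma_const {α : Type*} [Finite α] {β : α → Type*} [∀ a, Finite (β a)] (n : ℕ)
    (h : ∀ a, Nat.card (β a) = n) : Nat.card (Σ a, β a) = Nat.card α * n := by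
  classical
  have := Fintype.ofFinite α
  rw [Nat.card_sigma, Finset.sum_congr rfl (fun a _ => h a), Finset.sum_const, Finset.card_univ,
    Nat.card_eq_fintype_card, smul_eq_mul]

/-- fibre counting: all fibres of `f` over `β` have `n` elements -/
theorem card_of_fibres {α β : Type*} [Finite α] [Finite β] (f : α → β) (n : ℕ)
    (h : ∀ b, Nat.card {a // f a = b} = n) : Nat.card α = Nat.card β * n := by
  rw [← card_sigma_const (β := fun b : β => {a // f a = b}) n h]
  exact Nat.card_congr (Equiv.sigmaFiberEquiv f).symm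

/-- orbit-stabiliser for conjugation by a subgroup -/
theorem card_orbit_mul [Finite G] (H : Subgroup G) (t : G) :
    Nat.card {x : G // ∃ s ∈ H, s * t * s⁻¹ = x} * Nat.card ↥(H ⊓ centralizer {t} : Subgroup G) =
      Nat.card H := by
  symm
  apply card_of_fibres (fun s : H => (⟨(s : G) * t * (s : G)⁻¹, s, s.2, rfl⟩ :
    {x : G // ∃ s ∈ H, s * t * s⁻¹ = x}))
  rintro ⟨x, s, hs, rfl⟩
  apply Nat.card_congr
  refine
    { toFun := fun r => ⟨s⁻¹ * (r.1 : G), mem_inf.mpr ⟨H.mul_mem (H.inv_mem hs) r.1.2, ?_⟩⟩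
      invFun := fun c => ⟨⟨s * (c : G), H.mul_mem hs (mem_inf.mp c.2).1⟩, ?_⟩
      left_inv := ?_
      right_inv := ?_ }
  · have h1 : (r.1 : G) * t * (r.1 : G)⁻¹ = s * t * s⁻¹ := congrArg Subtype.val r.2
    rw [mem_centralizer_singleton_iff]
    calc s⁻¹ * (r.1 : G) * t = s⁻¹ * ((r.1 : G) * t * (r.1 : G)⁻¹) * (r.1 : G) := by group
      _ = t * (s⁻¹ * (r.1 : G)) := by rw [h1]; group
  · apply Subtype.ext
    have h1 := mem_centralizer_singleton_iff.mp (mem_inf.mp c.2).2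
    change s * (c : G) * t * (s * (c : G))⁻¹ = s * t * s⁻¹
    calc s * (c : G) * t * (s * (c : G))⁻¹ = s * ((c : G) * t) * (c : G)⁻¹ * s⁻¹ := by group
      _ = s * t * s⁻¹ := by rw [h1]; group
  · intro r
    apply Subtype.ext
    apply Subtype.ext
    change s * (s⁻¹ * (r.1 : G)) = r.1
    group
  · intro c
    apply Subtype.ext
    change s⁻¹ * (s * (c : G)) = c
    group

/-- an involution in the coset `K t` is a `K`-conjugate of `t` (`K` odd, `t` an involution) -/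
theorem exists_conj_of_coset [Finite G] {K : Subgroup G} (hK : Odd (Nat.card K)) {t x : G}
    (ht : t * t = 1) (hx : x * x = 1) (hxt : x * t⁻¹ ∈ K) : ∃ s ∈ K, s * t * s⁻¹ = x := by
  obtain ⟨m, hm⟩ := hK
  set k := x * t⁻¹ with hk
  have hti : t⁻¹ = t := (eq_inv_of_mul_eq_one_left ht).symm
  have hxi : x⁻¹ = x := (eq_inv_of_mul_eq_one_left hx).symm
  have hxk : x = k * t := by rw [hk]; group
  have h1 : t * k * t⁻¹ = k⁻¹ := by
    rw [hk, mul_inv_rev, inv_inv, hxi, hti]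
    calc t * (x * t) * t = t * x * (t * t) := by group
      _ = t * x := by rw [ht, mul_one]
  have hkn : k ^ Nat.card K = 1 := by
    have h5 : (⟨k, hxt⟩ : K) ^ Nat.card K = 1 := pow_card_eq_one'
    exact congrArg Subtype.val h5
  refine ⟨k ^ (m + 1), K.pow_mem hxt _, ?_⟩
  have h2 : t * (k ^ (m + 1))⁻¹ * t⁻¹ = k ^ (m + 1) := by
    have h6 : t * k⁻¹ * t⁻¹ = k := by
      calc t * k⁻¹ * t⁻¹ = (t * k * t⁻¹)⁻¹ := by group
        _ = k := by rw [h1, inv_inv]
    rw [← inv_pow, ← conj_pow, h6]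
  have h3 : k ^ (m + 1) * k ^ (m + 1) = k := by
    rw [← pow_add, show m + 1 + (m + 1) = (2 * m + 1) + 1 by ring, pow_succ, ← hm, hkn, one_mul]
  calc k ^ (m + 1) * t * (k ^ (m + 1))⁻¹ = k ^ (m + 1) * (t * (k ^ (m + 1))⁻¹ * t⁻¹) * t := by group
    _ = k * t := by rw [h2, h3]
    _ = x := hxk.symm

/-- number of involutions in the coset `K t` -/
theorem card_coset [Finite G] {K : Subgroup G} (hK : Odd (Nat.card K)) {t : G} (ht : t * t = 1)
    (hn : ∀ k ∈ K, t * k * t⁻¹ ∈ K) :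
    Nat.card {x : G // x * x = 1 ∧ x * t⁻¹ ∈ K} * Nat.card ↥(K ⊓ centralizer {t} : Subgroup G) =
      Nat.card K := by
  rw [← card_orbit_mul K t]
  congr 1
  apply Nat.card_congr
  refine Equiv.subtypeEquivRight fun x => ⟨fun h => exists_conj_of_coset hK ht h.1 h.2, ?_⟩
  rintro ⟨s, hs, rfl⟩
  constructor
  · calc s * t * s⁻¹ * (s * t * s⁻¹) = s * (t * t) * s⁻¹ := by group
      _ = 1 := by rw [ht]; group
  · have h1 : s * t * s⁻¹ * t⁻¹ = s * (t * s⁻¹ * t⁻¹) := by group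
    rw [h1]
    exact K.mul_mem hs (hn _ (K.inv_mem hs))

end Cfsg.Agent.J2Sylow.CosetCount
end

-- part: J2Sylow/OrderFacts
section
/-!
# Decidable facts for the order formula
-/

set_option autoImplicit false

namespace Cfsg.Agent.J2Sylow.OrderFacts

open Model Model.T

/-- an involution of `e Q`, `e ∈ E1 ∖ U`, is conjugate to `e` -/
theorem eQ_conj : ∀ e : T, e ∈ E1 → e ∉ U → ∀ y : T, y * y = 1 → e * y ∈ Q →
    ∃ g : T, g * y * g⁻¹ = e := by
  decide +kernel

theorem inv_Q : ∀ y : T, y * y = 1 → y ∈ Q → y ∈ U ∨ y.s = true := by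
  decide +kernel

theorem E1_notQ : ∀ e : T, e ∈ E1 → e ∉ U → e ∉ Q := by decide +kernel

theorem pow4 : ∀ q : T, q.s = true → q * q = 1 → ∀ e : T, e ∈ E1 → e ∉ U →
    (q * e) * (q * e) * ((q * e) * (q * e)) = z := by
  decide +kernel

theorem comm_Q : ∀ e : T, e ∈ E1 → ∀ s : T, e * (s * e * s⁻¹) ∈ Q := by decide +kernel

theorem conj_eQ (e s t : T) (he : e ∈ E1) (ht : (t)⁻¹ * (s * e * s⁻¹) ∈ Q) : e * t ∈ Q := by
  have h1 := comm_Q e he s
  have h2 : e * t = e * (s * e * s⁻¹) * (t⁻¹ * (s * e * s⁻¹))⁻¹ := by group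
  rw [h2]
  exact Q.mul_mem h1 (Q.inv_mem ht)

/-- the noncentral involutions of `Q` outside `R` -/
theorem card_tauClass : Nat.card {q : T // q.s = true ∧ q * q = 1} = 8 := by
  rw [Nat.card_eq_fintype_card, Fintype.card_subtype]; decide +kernel

/-- The involution `(0 1)(2 3)`. -/
def s0 : alternatingGroup (Fin 5) :=
  ⟨Equiv.swap 0 1 * Equiv.swap 2 3, Equiv.Perm.mem_alternatingGroup.2 (by decide)⟩

theorem a5_conj_s0 : ∀ a : alternatingGroup (Fin 5), a * a = 1 → a ≠ 1 →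
    ∃ g : alternatingGroup (Fin 5), g * a * g⁻¹ = s0 := by
  simp only [↓Cfsg.Agent.PermCode.M, Cfsg.Agent.PermCode.P5.R, Cfsg.Agent.PermCode.B]
  decide +kernel

theorem a5_conj (a b : alternatingGroup (Fin 5)) (ha : a * a = 1) (ha1 : a ≠ 1) (hb : b * b = 1)
    (hb1 : b ≠ 1) : ∃ g : alternatingGroup (Fin 5), g * a * g⁻¹ = b := by
  obtain ⟨x, hx⟩ := a5_conj_s0 a ha ha1
  obtain ⟨y, hy⟩ := a5_conj_s0 b hb hb1
  refine ⟨y⁻¹ * x, ?_⟩
  calc y⁻¹ * x * a * (y⁻¹ * x)⁻¹ = y⁻¹ * (x * a * x⁻¹) * y := by group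
    _ = y⁻¹ * (y * b * y⁻¹) * y := by rw [hx, hy]
    _ = b := by group

end Cfsg.Agent.J2Sylow.OrderFacts
end

-- part: J2Sylow/OrderZ
section
/-!
# The first term of the Thompson order formula for groups with a Sylow 2-subgroup of type J2

`e` an involution of `E1 ∖ U` which is not conjugate to `z`.  The number of pairs `(x, y)` with
`x ~ z`, `y ~ e` and `z ∈ ⟨x y⟩` is `960 |K|² / (|C_K(e)| |C_K(v)|)`, where `K = O(C(z))`.
-/

set_option autoImplicit false

namespace Cfsg.Agent.J2Sylow.OrderZ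

open Subgroup Model OrderFacts Cfsg.Agent.J2Sylow.Functor CosetCount

variable {G : Type*} [Group G]

/-- elements of a product with a normalised subgroup -/
theorem mem_sup_iff {H N : Subgroup G} (hn : ∀ s ∈ H, ∀ n ∈ N, s * n * s⁻¹ ∈ N) {x : G} :
    x ∈ H ⊔ N ↔ ∃ n ∈ N, ∃ s ∈ H, x = n * s := by
  constructor
  · intro hx
    let P : Subgroup G :=
      { carrier := {x | ∃ n ∈ N, ∃ s ∈ H, x = n * s}
        one_mem' := ⟨1, N.one_mem, 1, H.one_mem, by simp⟩
        mul_mem' := by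
          rintro _ _ ⟨n, hn1, s, hs, rfl⟩ ⟨n', hn1', s', hs', rfl⟩
          exact ⟨n * (s * n' * s⁻¹), N.mul_mem hn1 (hn s hs n' hn1'), s * s', H.mul_mem hs hs',
            by group⟩
        inv_mem' := by
          rintro _ ⟨n, hn1, s, hs, rfl⟩
          exact ⟨s⁻¹ * n⁻¹ * s⁻¹⁻¹, hn _ (H.inv_mem hs) _ (N.inv_mem hn1), s⁻¹, H.inv_mem hs,
            by group⟩ }
    have hle : H ⊔ N ≤ P := sup_le (fun s hs => ⟨1, N.one_mem, s, hs, by simp⟩)
      (fun n hn' => ⟨n, hn', 1, H.one_mem, by simp⟩)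
    exact hle hx
  · rintro ⟨n, hn', s, hs, rfl⟩
    exact mul_mem (mem_sup_right hn') (mem_sup_left hs)

/-- If `w` is an involution in `⟨x y⟩`, `x, y` involutions, then `w` commutes with `x` and `y`. -/
theorem comm_of_mem_zpowers {x y w : G} (hx : x * x = 1) (hy : y * y = 1) (hw : w * w = 1)
    (h : w ∈ zpowers (x * y)) : x * w = w * x ∧ y * w = w * y := by
  obtain ⟨k, rfl⟩ := mem_zpowers_iff.mp h
  have hxi : x⁻¹ = x := (eq_inv_of_mul_eq_one_left hx).symm
  have hyi : y⁻¹ = y := (eq_inv_of_mul_eq_one_left hy).symm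
  have hwi : ((x * y) ^ k)⁻¹ = (x * y) ^ k := (eq_inv_of_mul_eq_one_left hw).symm
  have h1 : x * (x * y) * x⁻¹ = (x * y)⁻¹ := by
    rw [mul_inv_rev, hyi, hxi, ← mul_assoc, hx, one_mul]
  have h2 : x * (x * y) ^ k * x⁻¹ = (x * y) ^ k := by
    rw [← conj_zpow, h1, inv_zpow, hwi]
  have h3 : x * (x * y) ^ k = (x * y) ^ k * x := by
    calc x * (x * y) ^ k = x * (x * y) ^ k * x⁻¹ * x := by group
      _ = (x * y) ^ k * x := by rw [h2]
  refine ⟨h3, ?_⟩
  have h4 : (x * y) * (x * y) ^ k = (x * y) ^ k * (x * y) := by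
    rw [← zpow_one_add, ← zpow_add_one, add_comm]
  have h5 : x * (y * (x * y) ^ k) = x * ((x * y) ^ k * y) := by
    calc x * (y * (x * y) ^ k) = (x * y) * (x * y) ^ k := by group
      _ = (x * y) ^ k * (x * y) := h4
      _ = ((x * y) ^ k * x) * y := by group
      _ = (x * (x * y) ^ k) * y := by rw [h3]
      _ = x * ((x * y) ^ k * y) := by group
  exact mul_left_cancel h5

/-- `C(z)/(Q O(C(z))) ≅ A5`, as a function on `G` -/
structure Quo (h : Setup G) where
  /-- the map `C(z) → A5` -/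
  p : G → alternatingGroup (Fin 5)
  mul : ∀ x y, x * h.z = h.z * x → y * h.z = h.z * y → p (x * y) = p x * p y
  surj : ∀ a, ∃ x, x * h.z = h.z * x ∧ p x = a
  ker : ∀ x, x * h.z = h.z * x → (p x = 1 ↔ x ∈ h.Q ⊔ K h.z)

theorem card_conj_inf {K' : Subgroup G} {c x : G} (hc : ∀ k ∈ K', c * k * c⁻¹ ∈ K')
    (hc' : ∀ k ∈ K', c⁻¹ * k * c ∈ K') :
    Nat.card ↥(K' ⊓ centralizer {x} : Subgroup G) =
      Nat.card ↥(K' ⊓ centralizer {c * x * c⁻¹} : Subgroup G) := by
  refine Nat.card_congr ((MulAut.conj c).toEquiv.subtypeEquiv fun k => ?_)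
  simp only [MulEquiv.toEquiv_eq_coe, EquivLike.coe_coe, MulAut.conj_apply, mem_inf,
    mem_centralizer_singleton_iff]
  constructor
  · rintro ⟨h1, h2⟩
    refine ⟨hc _ h1, ?_⟩
    calc c * k * c⁻¹ * (c * x * c⁻¹) = c * (k * x) * c⁻¹ := by group
      _ = c * (x * k) * c⁻¹ := by rw [h2]
      _ = _ := by group
  · rintro ⟨h1, h2⟩
    refine ⟨?_, ?_⟩
    · have := hc' _ h1
      have e1 : c⁻¹ * (c * k * c⁻¹) * c = k := by group
      rwa [e1] at this
    · calc k * x = c⁻¹ * (c * k * c⁻¹ * (c * x * c⁻¹)) * c := by group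
        _ = c⁻¹ * (c * x * c⁻¹ * (c * k * c⁻¹)) * c := by rw [h2]
        _ = _ := by group

section

variable (h : Setup G)

theorem zz : h.z * h.z = 1 := by
  change h.φ T.z * h.φ T.z = 1
  rw [← map_mul, ← map_one h.φ]
  congr 1

theorem z_ne : h.z ≠ 1 := by
  intro h1
  have h2 : h.φ T.z = h.φ 1 := by rw [map_one]; exact h1
  have h3 := h.inj h2
  revert h3
  decide

theorem phi_comm_z (t : T) : h.φ t * h.z = h.z * h.φ t := (h.z_comm (h.phi_mem_S t)).symm

theorem z_conj_K {c k : G} (hc : c * h.z = h.z * c) (hk : k ∈ K h.z) : c * k * c⁻¹ ∈ K h.z :=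
  K_conj (mem_centralizer_singleton_iff.mpr hc) hk

theorem K_comm_z {k : G} (hk : k ∈ K h.z) : k * h.z = h.z * k :=
  mem_centralizer_singleton_iff.mp (K_le _ hk)

theorem inv_comm_z {c : G} (hc : c * h.z = h.z * c) : c⁻¹ * h.z = h.z * c⁻¹ := by
  calc c⁻¹ * h.z = c⁻¹ * (h.z * c) * c⁻¹ := by group
    _ = c⁻¹ * (c * h.z) * c⁻¹ := by rw [hc]
    _ = h.z * c⁻¹ := by group

theorem mul_comm_z {c d : G} (hc : c * h.z = h.z * c) (hd : d * h.z = h.z * d) :
    c * d * h.z = h.z * (c * d) := by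
  rw [mul_assoc, hd, ← mul_assoc, hc, mul_assoc]

theorem mem_sup_K (H : Subgroup T) {x : G} :
    x ∈ H.map h.φ ⊔ K h.z ↔ ∃ k ∈ K h.z, ∃ t ∈ H, x = k * h.φ t := by
  rw [mem_sup_iff]
  · constructor
    · rintro ⟨k, hk, _, ⟨t, ht, rfl⟩, rfl⟩
      exact ⟨k, hk, t, ht, rfl⟩
    · rintro ⟨k, hk, t, ht, rfl⟩
      exact ⟨k, hk, _, ⟨t, ht, rfl⟩, rfl⟩
  · rintro _ ⟨t, ht, rfl⟩ n hn
    exact z_conj_K h (phi_comm_z h t) hn

variable [Finite G]

theorem eq_one_of_mem_K {t : T} (ht : h.φ t ∈ K h.z) : t = 1 := by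
  have h1 : Odd (orderOf (h.φ t)) := by
    have h2 : orderOf (⟨h.φ t, ht⟩ : K h.z) ∣ Nat.card (K h.z) := _root_.orderOf_dvd_natCard _
    rw [orderOf_mk] at h2
    exact Odd.of_dvd_nat (K_odd h.z) h2
  rw [orderOf_injective h.φ h.inj] at h1
  have h3 : orderOf t ∣ 2 ^ 7 := by
    have := _root_.orderOf_dvd_natCard t
    rwa [T.card_T] at this
  obtain ⟨k, -, hk⟩ := (Nat.dvd_prime_pow Nat.prime_two).mp h3
  rcases Nat.eq_zero_or_pos k with rfl | hk0
  · exact orderOf_eq_one_iff.mp (by rw [hk, pow_zero])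
  · exfalso
    rw [hk] at h1
    exact (Nat.not_even_iff_odd.mpr h1) ((Nat.even_pow.mpr ⟨even_two, hk0.ne'⟩))

/-- product decomposition -/
theorem unique {k k' : G} (hk : k ∈ K h.z) (hk' : k' ∈ K h.z) {t t' : T}
    (e : k * h.φ t = k' * h.φ t') : k = k' ∧ t = t' := by
  have h1 : h.φ (t * t'⁻¹) = k⁻¹ * k' := by
    rw [map_mul, map_inv]
    calc h.φ t * (h.φ t')⁻¹ = k⁻¹ * (k * h.φ t) * (h.φ t')⁻¹ := by group
      _ = k⁻¹ * k' := by rw [e]; group
  have h2 : t * t'⁻¹ = 1 := eq_one_of_mem_K h (by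
    rw [h1]; exact (K h.z).mul_mem ((K h.z).inv_mem hk) hk')
  have h3 : t = t' := by rwa [mul_inv_eq_one] at h2
  subst h3
  exact ⟨mul_right_cancel e, rfl⟩

end

namespace Quo

variable {h : Setup G} (ψ : Quo h)

theorem p_one : ψ.p 1 = 1 := by
  have h1 := ψ.mul 1 1 (by simp) (by simp)
  rw [mul_one] at h1
  exact (mul_eq_left.mp h1.symm)

theorem p_inv {x : G} (hx : x * h.z = h.z * x) : ψ.p x⁻¹ = (ψ.p x)⁻¹ := by
  have h1 := ψ.mul x⁻¹ x (inv_comm_z h hx) hx
  rw [inv_mul_cancel, ψ.p_one] at h1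
  exact (eq_inv_of_mul_eq_one_left h1.symm :)

theorem p_K {k : G} (hk : k ∈ K h.z) : ψ.p k = 1 :=
  (ψ.ker k (K_comm_z h hk)).mpr (mem_sup_right hk)

theorem p_eq_iff {x y : G} (hx : x * h.z = h.z * x) (hy : y * h.z = h.z * y) :
    ψ.p x = ψ.p y ↔ x⁻¹ * y ∈ h.Q ⊔ K h.z := by
  rw [← ψ.ker _ (mul_comm_z h (inv_comm_z h hx) hy), ψ.mul _ _ (inv_comm_z h hx) hy, ψ.p_inv hx,
    inv_mul_eq_one]

variable [Finite G]

theorem phi_mem_iff {t : T} : h.φ t ∈ h.Q ⊔ K h.z ↔ t ∈ T.Q := by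
  constructor
  · intro h1
    obtain ⟨k, hk, s, hs, e⟩ := (mem_sup_K h T.Q).mp h1
    have h2 := unique h (K h.z).one_mem hk (t := t) (t' := s) (by rw [one_mul]; exact e)
    rw [h2.2]
    exact hs
  · intro ht
    exact mem_sup_left ⟨t, ht, rfl⟩

theorem p_phi {t : T} : ψ.p (h.φ t) = 1 ↔ t ∈ T.Q := by
  rw [ψ.ker _ (phi_comm_z h t), phi_mem_iff]

theorem p_phi_eq {s t : T} : ψ.p (h.φ s) = ψ.p (h.φ t) ↔ s⁻¹ * t ∈ T.Q := by
  rw [ψ.p_eq_iff (phi_comm_z h s) (phi_comm_z h t), ← map_inv, ← map_mul, phi_mem_iff]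

/-- an involution of `C(z)` with the same image as `e` is conjugate to `e` -/
theorem exists_conj_of_eq {e : T} (he : e ∈ T.E1) (heU : e ∉ T.U) {y : G}
    (hy : y * h.z = h.z * y) (hyy : y * y = 1) (hp : ψ.p y = ψ.p (h.φ e)) :
    ∃ c, c * h.z = h.z * c ∧ c * y * c⁻¹ = h.φ e := by
  have hy2 : y ^ 2 = 1 := by rw [pow_two]; exact hyy
  have hP : IsPGroup 2 (zpowers y) := by
    intro ⟨g, hg⟩
    obtain ⟨k, rfl⟩ := mem_zpowers_iff.mp hg
    refine ⟨1, ?_⟩
    apply Subtype.ext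
    change (y ^ k) ^ (2 ^ 1) = 1
    rw [pow_one, ← zpow_natCast, ← zpow_mul, mul_comm, zpow_mul]
    have : y ^ ((2 : ℕ) : ℤ) = 1 := by rw [zpow_natCast]; exact hy2
    rw [this, one_zpow]
  have hmem : y ∈ h.S ⊔ K h.z := by
    have h1 := (ψ.p_eq_iff (phi_comm_z h e) hy).mp hp.symm
    have h2 : y = h.φ e * ((h.φ e)⁻¹ * y) := by group
    rw [h2]
    refine mul_mem (mem_sup_left (h.phi_mem_S e)) ?_
    exact (sup_le_sup_right h.Q_le_S _) h1
  obtain ⟨c, hc, hcS⟩ := exists_conj_le (zpowers y) (h.S ⊔ K h.z) h.S hP (by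
    rw [zpowers_le]; exact hmem) (h.relIndex_odd le_sup_left)
  have hS' : h.S = (⊤ : Subgroup T).map h.φ := by
    rw [← MonoidHom.range_eq_map]; rfl
  have hc' := hc
  rw [hS'] at hc'
  obtain ⟨k, hk, s, -, rfl⟩ := (mem_sup_K h ⊤).mp hc'
  obtain ⟨t, ht⟩ := hcS y (mem_zpowers y)
  have hcz : k * h.φ s * h.z = h.z * (k * h.φ s) := mul_comm_z h (K_comm_z h hk) (phi_comm_z h s)
  have htt : t * t = 1 := by
    apply h.inj
    rw [map_mul, ht, map_one]
    calc k * h.φ s * y * (k * h.φ s)⁻¹ * (k * h.φ s * y * (k * h.φ s)⁻¹)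
        = k * h.φ s * (y * y) * (k * h.φ s)⁻¹ := by group
      _ = 1 := by rw [hyy]; group
  have hpt : ψ.p (h.φ t) = ψ.p (h.φ (s * e * s⁻¹)) := by
    rw [ht, ψ.mul _ _ (mul_comm_z h hcz hy) (inv_comm_z h hcz), ψ.mul _ _ hcz hy,
      ψ.p_inv hcz, ψ.mul _ _ (K_comm_z h hk) (phi_comm_z h s), ψ.p_K hk, one_mul, hp,
      map_mul, map_mul, map_inv,
      ψ.mul _ _ (mul_comm_z h (phi_comm_z h s) (phi_comm_z h e))
        (inv_comm_z h (phi_comm_z h s)), ψ.mul _ _ (phi_comm_z h s) (phi_comm_z h e),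
      ψ.p_inv (phi_comm_z h s)]
  have h3 := ψ.p_phi_eq.mp hpt
  obtain ⟨g, hg⟩ := eQ_conj e he heU t htt (conj_eQ e s t he h3)
  refine ⟨h.φ g * (k * h.φ s), mul_comm_z h (phi_comm_z h g) hcz, ?_⟩
  calc h.φ g * (k * h.φ s) * y * (h.φ g * (k * h.φ s))⁻¹
      = h.φ g * (k * h.φ s * y * (k * h.φ s)⁻¹) * (h.φ g)⁻¹ := by group
    _ = h.φ g * h.φ t * (h.φ g)⁻¹ := by rw [ht]
    _ = h.φ e := by rw [h.phi_conj, hg]

include ψ in
/-- an involution of `C(z)` outside `Q O(C(z))` is conjugate to `e` -/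
theorem exists_conj_e {e : T} (he : e ∈ T.E1) (heU : e ∉ T.U) {y : G}
    (hy : y * h.z = h.z * y) (hyy : y * y = 1) (hn : y ∉ h.Q ⊔ K h.z) :
    ∃ c, c * h.z = h.z * c ∧ c * y * c⁻¹ = h.φ e := by
  have h1 : ψ.p y ≠ 1 := fun h0 => hn ((ψ.ker y hy).mp h0)
  have h2 : ψ.p y * ψ.p y = 1 := by rw [← ψ.mul y y hy hy, hyy, ψ.p_one]
  have h3 : ψ.p (h.φ e) ≠ 1 := fun h0 => E1_notQ e he heU (ψ.p_phi.mp h0)
  have h4 : ψ.p (h.φ e) * ψ.p (h.φ e) = 1 := by
    rw [← ψ.mul _ _ (phi_comm_z h e) (phi_comm_z h e), ← map_mul, T.E1_sq e he, map_one, ψ.p_one]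
  obtain ⟨g, hg⟩ := a5_conj _ _ h2 h1 h4 h3
  obtain ⟨x, hx, rfl⟩ := ψ.surj g
  obtain ⟨c, hc, hc2⟩ := ψ.exists_conj_of_eq he heU (y := x * y * x⁻¹)
    (mul_comm_z h (mul_comm_z h hx hy) (inv_comm_z h hx)) (by
      calc x * y * x⁻¹ * (x * y * x⁻¹) = x * (y * y) * x⁻¹ := by group
        _ = 1 := by rw [hyy]; group) (by
      rw [ψ.mul _ _ (mul_comm_z h hx hy) (inv_comm_z h hx), ψ.mul _ _ hx hy, ψ.p_inv hx]
      exact hg)
  refine ⟨c * x, mul_comm_z h hc hx, ?_⟩
  rw [← hc2]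
  group

/-- an involution of `Q O(C(z))` is `O(C(z))`-conjugate into `Q` -/
theorem exists_conj_Q {y : G} (hyy : y * y = 1) (hn : y ∈ h.Q ⊔ K h.z) :
    ∃ t ∈ T.Q, t * t = 1 ∧ y * (h.φ t)⁻¹ ∈ K h.z ∧ ∃ s ∈ K h.z, s * h.φ t * s⁻¹ = y := by
  obtain ⟨k, hk, t, ht, rfl⟩ := (mem_sup_K h T.Q).mp hn
  have h1 : h.φ (t * t) ∈ K h.z := by
    have h2 : h.φ (t * t) = (h.φ t * k * (h.φ t)⁻¹)⁻¹ * (k⁻¹ * (k * h.φ t * (k * h.φ t))) := by
      rw [map_mul]; group
    rw [h2, hyy, mul_one]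
    exact (K h.z).mul_mem ((K h.z).inv_mem (z_conj_K h (phi_comm_z h t) hk))
      ((K h.z).inv_mem hk)
  have h3 : t * t = 1 := eq_one_of_mem_K h h1
  have h4 : k * h.φ t * (h.φ t)⁻¹ ∈ K h.z := by
    have : k * h.φ t * (h.φ t)⁻¹ = k := by group
    rwa [this]
  refine ⟨t, ht, h3, h4, ?_⟩
  exact exists_conj_of_coset (K_odd h.z) (by rw [← map_mul, h3, map_one]) hyy h4

end Quo

section Fusion

variable {h : Setup G}

theorem v_conj_z (hf : Fused h) : IsConj h.z h.v := by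
  obtain ⟨g, -, hg⟩ := hf.f1
  exact (isConj_iff.mpr ⟨g, hg⟩).symm

theorem tau_conj_z (hf : Fused h) : IsConj h.z h.tau := by
  obtain ⟨g, -, -, hg⟩ := hf.f2
  exact (v_conj_z hf).trans (isConj_iff.mpr ⟨g, hg⟩).symm

theorem conj_z_of_mem_Q (hf : Fused h) {t : T} (ht : t ∈ T.Q) (htt : t * t = 1) (ht1 : t ≠ 1) :
    IsConj h.z (h.φ t) := by
  rcases inv_Q t htt ht with hU | hs
  · rcases T.U_cases t hU with rfl | rfl | rfl | rfl
    · exact absurd rfl ht1
    · exact IsConj.refl _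
    · exact v_conj_z hf
    · refine (v_conj_z hf).trans (isConj_iff.mpr ⟨h.tau, ?_⟩)
      change h.φ T.tau * h.φ T.v * (h.φ T.tau)⁻¹ = _
      rw [h.phi_conj]
      congr 1
  · obtain ⟨g, hg⟩ := T.tau_conj t hs htt
    refine (tau_conj_z hf).trans (isConj_iff.mpr ⟨h.φ g, ?_⟩).symm
    rw [h.phi_conj, hg]
    rfl

theorem sq_of_conj {x a : G} (ha : a * a = 1) (hx : IsConj a x) : x * x = 1 := by
  obtain ⟨c, rfl⟩ := isConj_iff.mp hx
  calc c * a * c⁻¹ * (c * a * c⁻¹) = c * (a * a) * c⁻¹ := by group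
    _ = 1 := by rw [ha]; group

variable [Finite G] (hf : Fused h) (ψ : Quo h) {e : T} (he : e ∈ T.E1) (heU : e ∉ T.U)
  (hez : ¬ IsConj h.z (h.φ e))

include ψ he heU hez in
/-- conjugates of `z` in `C(z)` lie in `Q O(C(z))` -/
theorem mem_of_conj_z {x : G} (hx : IsConj h.z x) (hc : x * h.z = h.z * x) :
    x ∈ h.Q ⊔ K h.z := by
  by_contra hn
  obtain ⟨c, -, hc2⟩ := ψ.exists_conj_e he heU hc (sq_of_conj (zz h) hx) hn
  exact hez (hx.trans (isConj_iff.mpr ⟨c, hc2⟩))

omit [Finite G] in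
theorem phi_sq {e : T} (he : e ∈ T.E1) : h.φ e * h.φ e = 1 := by
  rw [← map_mul, T.E1_sq e he, map_one]

end Fusion

section Count

variable {h : Setup G} [Finite G] (hf : Fused h) (ψ : Quo h) {e : T} (he : e ∈ T.E1)
  (heU : e ∉ T.U) (hez : ¬ IsConj h.z (h.φ e))

omit [Finite G] in
include hf in
/-- the centralizers in `O(C(z))` of the involutions of `Q ∖ U` -/
theorem card_K_inf_tau {q : T} (hq : q.s = true) (hqq : q * q = 1) :
    Nat.card ↥(K h.z ⊓ centralizer {h.φ q} : Subgroup G) =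
      Nat.card ↥(K h.z ⊓ centralizer {h.v} : Subgroup G) := by
  obtain ⟨g, hg⟩ := T.tau_conj q hq hqq
  obtain ⟨x, hx, -, hxv⟩ := hf.f2
  have hc : x * h.φ g * h.z = h.z * (x * h.φ g) := mul_comm_z h hx (phi_comm_z h g)
  have h1 := card_conj_inf (K' := K h.z) (c := x * h.φ g) (x := h.φ q)
    (fun k hk => z_conj_K h hc hk) (fun k hk => by
      have h2 := z_conj_K h (inv_comm_z h hc) hk
      rwa [inv_inv] at h2)
  rw [h1]
  have h3 : x * h.φ g * h.φ q * (x * h.φ g)⁻¹ = h.v := by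
    calc x * h.φ g * h.φ q * (x * h.φ g)⁻¹ = x * (h.φ g * h.φ q * (h.φ g)⁻¹) * x⁻¹ := by group
      _ = x * h.tau * x⁻¹ := by rw [h.phi_conj, hg]; rfl
      _ = h.v := hxv
  rw [h3]

include hf ψ he heU hez in
/-- the condition on the pairs with second entry `e` -/
theorem iff_coset (x : G) : (IsConj h.z x ∧ h.z ∈ zpowers (x * h.φ e)) ↔
    ∃ q : T, (q.s = true ∧ q * q = 1) ∧ (x * x = 1 ∧ x * (h.φ q)⁻¹ ∈ K h.z) := by
  have hK := K_odd h.z
  constructor
  · rintro ⟨hx, hm⟩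
    have hxx := sq_of_conj (zz h) hx
    have hcx := (comm_of_mem_zpowers hxx (phi_sq he) (zz h) hm).1
    have hxQ := mem_of_conj_z ψ he heU hez hx hcx
    obtain ⟨q, hqQ, hqq, hk, -⟩ := Quo.exists_conj_Q (h := h) hxx hxQ
    refine ⟨q, ⟨?_, hqq⟩, hxx, hk⟩
    rcases inv_Q q hqq hqQ with hU | hs
    · exfalso
      -- `q ∈ U`: then `(x e)^2 ∈ K`
      set k := x * (h.φ q)⁻¹ with hkdef
      have hxk : x = k * h.φ q := by rw [hkdef]; group
      have hqe : q * e ∈ T.E1 := T.E1.mul_mem (T.U_le_E1 hU) he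
      have hy : x * h.φ e = k * h.φ (q * e) := by rw [hxk, map_mul]; group
      have hy2 : (x * h.φ e) * (x * h.φ e) ∈ K h.z := by
        rw [hy]
        have h1 : k * h.φ (q * e) * (k * h.φ (q * e)) =
            k * (h.φ (q * e) * k * (h.φ (q * e))⁻¹) * (h.φ (q * e) * h.φ (q * e)) := by group
        rw [h1, phi_sq hqe, mul_one]
        exact (K h.z).mul_mem hk (z_conj_K h (phi_comm_z h _) hk)
      obtain ⟨n, hn⟩ := mem_zpowers_iff.mp hm
      rcases Int.even_or_odd' n with ⟨m, rfl | rfl⟩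
      · -- even
        have h1 : (x * h.φ e) ^ (2 * m) ∈ K h.z := by
          rw [zpow_mul, zpow_two]
          exact (K h.z).zpow_mem hy2 m
        rw [hn] at h1
        have h2 := eq_one_of_mem_K h (t := T.z) h1
        revert h2
        decide
      · have h1 : ψ.p h.z = 1 := ψ.p_phi.mpr (T.U_le_Q (by decide))
        rw [← hn, zpow_add, zpow_mul, zpow_two, zpow_one, ψ.mul _ _
          (K_comm_z h ((K h.z).zpow_mem hy2 m)) (mul_comm_z h hcx (phi_comm_z h e)),
          ψ.p_K ((K h.z).zpow_mem hy2 m), one_mul, ψ.mul _ _ hcx (phi_comm_z h e),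
          (ψ.ker _ hcx).mpr hxQ, one_mul] at h1
        exact E1_notQ e he heU (ψ.p_phi.mp h1)
    · exact hs
  · rintro ⟨q, ⟨hs, hqq⟩, hxx, hk⟩
    obtain ⟨s, hsK, hsx⟩ := exists_conj_of_coset hK (t := h.φ q) (by
      rw [← map_mul, hqq, map_one]) hxx hk
    have hqz : IsConj h.z (h.φ q) := conj_z_of_mem_Q hf (T.mem_Q_of_inv_not_R q hs hqq) hqq (by
      rintro rfl
      revert hs
      decide)
    refine ⟨hqz.trans (isConj_iff.mpr ⟨s, hsx⟩), ?_⟩
    set k := x * (h.φ q)⁻¹ with hkdef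
    have hxk : x = k * h.φ q := by rw [hkdef]; group
    have hy : x * h.φ e = k * h.φ (q * e) := by rw [hxk, map_mul]; group
    have h4 := pow_mul_inv_mem hk (s := h.φ (q * e))
      (fun y hy => z_conj_K h (phi_comm_z h _) hy) 4
    rw [← hy] at h4
    have h5 : (h.φ (q * e)) ^ 4 = h.z := by
      have h6 := pow4 q hs hqq e he heU
      rw [← map_pow]
      change _ = h.φ T.z
      rw [← h6, show 4 = 2 + 2 from rfl, pow_add, pow_two]
    rw [h5] at h4
    -- `(x e)^4 = k' z`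
    set k' := (x * h.φ e) ^ 4 * h.z⁻¹ with hk'
    have h7 : (x * h.φ e) ^ 4 = k' * h.z := by rw [hk']; group
    have h8 : Commute k' h.z := K_comm_z h h4
    have h9 : ((x * h.φ e) ^ 4) ^ Nat.card (K h.z) = h.z := by
      rw [h7, h8.mul_pow]
      have h10 : k' ^ Nat.card (K h.z) = 1 := by
        have h5 : (⟨k', h4⟩ : K h.z) ^ Nat.card (K h.z) = 1 := pow_card_eq_one'
        exact congrArg Subtype.val h5
      obtain ⟨m, hm⟩ := hK
      rw [h10, one_mul, hm, pow_add, pow_mul, pow_two, zz h, one_pow, one_mul, pow_one]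
    rw [← h9, ← pow_mul]
    exact pow_mem (mem_zpowers _) _

include hf ψ he heU hez in
/-- the number of `x ~ z` with `z ∈ ⟨x e⟩` -/
theorem card_M : Nat.card {x : G // IsConj h.z x ∧ h.z ∈ zpowers (x * h.φ e)} *
    Nat.card ↥(K h.z ⊓ centralizer {h.v} : Subgroup G) = 8 * Nat.card (K h.z) := by
  have hK := K_odd h.z
  rw [Nat.card_congr (Equiv.subtypeEquivRight (iff_coset hf ψ he heU hez))]
  have e1 : {x : G // ∃ q : T, (q.s = true ∧ q * q = 1) ∧ (x * x = 1 ∧ x * (h.φ q)⁻¹ ∈ K h.z)} ≃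
      Σ q : {q : T // q.s = true ∧ q * q = 1},
        {x : G // x * x = 1 ∧ x * (h.φ q.1)⁻¹ ∈ K h.z} := by
    symm
    refine Equiv.ofBijective (fun p => ⟨p.2.1, p.1.1, p.1.2, p.2.2⟩) ⟨?_, ?_⟩
    · rintro ⟨⟨q, hq⟩, ⟨x, hx⟩⟩ ⟨⟨q', hq'⟩, ⟨x', hx'⟩⟩ e'
      have h1 : x = x' := congrArg Subtype.val e'
      subst h1
      have h2 : q = q' := by
        have h3 := unique h hx.2 hx'.2 (t := q) (t' := q') (by group)
        exact h3.2
      subst h2
      rfl
    · rintro ⟨x, q, hq, hx⟩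
      exact ⟨⟨⟨q, hq⟩, ⟨x, hx⟩⟩, rfl⟩
  set κ := Nat.card ↥(K h.z ⊓ centralizer {h.v} : Subgroup G) with hκ
  have hκ0 : 0 < κ := Nat.card_pos
  have h2 : ∀ q : {q : T // q.s = true ∧ q * q = 1},
      Nat.card {x : G // x * x = 1 ∧ x * (h.φ q.1)⁻¹ ∈ K h.z} = Nat.card (K h.z) / κ := by
    rintro ⟨q, hq, hqq⟩
    have h3 := card_coset hK (t := h.φ q) (by rw [← map_mul, hqq, map_one])
      (fun k hk => z_conj_K h (phi_comm_z h q) hk)
    rw [card_K_inf_tau hf hq hqq, ← hκ] at h3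
    exact (Nat.div_eq_of_eq_mul_left hκ0 h3.symm).symm
  rw [Nat.card_congr e1, card_sigma_const _ h2, card_tauClass, mul_assoc]
  congr 1
  have hdvd : κ ∣ Nat.card (K h.z) := card_dvd_of_le inf_le_left
  exact Nat.div_mul_cancel hdvd

end Count

end Cfsg.Agent.J2Sylow.OrderZ
end

-- part: J2Sylow/OrderPart
section
/-!
# The part of the order formula used in step (4) of S1776 (piece A)
-/

set_option autoImplicit false

namespace Cfsg.Agent.J2Sylow.OrderPart

open Subgroup Cfsg.Agent.J2Sylow.CosetCount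
open scoped Pointwise
open Cfsg.Agent.J2Sylow.OrderZ (comm_of_mem_zpowers sq_of_conj card_conj_inf mem_sup_iff)

/-! ### counting by equivalence classes -/

theorem dvd_mul_card_of_rel {α : Type*} [Finite α] (r : Setoid α) (n c : ℕ)
    (h : ∀ a : α, n ∣ c * Nat.card {b : α // r b a}) : n ∣ c * Nat.card α := by
  classical
  have := Fintype.ofFinite (Quotient r)
  have h1 : Nat.card α = ∑ q : Quotient r, Nat.card {a : α // (Quotient.mk r a) = q} := by
    rw [← Nat.card_sigma]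
    exact Nat.card_congr (Equiv.sigmaFiberEquiv (Quotient.mk r)).symm
  rw [h1, Finset.mul_sum]
  refine Finset.dvd_sum fun q _ => ?_
  obtain ⟨a, rfl⟩ := Quotient.exists_rep q
  have h2 := h a
  rw [Nat.card_congr (Equiv.subtypeEquivRight fun b => (Quotient.eq (r := r)))]
  exact h2

variable {G : Type*} [Group G]

theorem sq_of_orderOf {x : G} (hx : orderOf x = 2) : x * x = 1 := by
  rw [← pow_two, ← hx, pow_orderOf_eq_one]

theorem ne_one_of_orderOf {x : G} (hx : orderOf x = 2) : x ≠ 1 := by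
  rintro rfl; simp at hx

/-- a product of two commuting elements of a set of "good" elements -/
theorem comm_mul {x y z : G} (hx : x * z = z * x) (hy : y * z = z * y) :
    x * y * z = z * (x * y) := by rw [mul_assoc, hy, ← mul_assoc, hx, mul_assoc]

theorem comm_inv {x z : G} (hx : x * z = z * x) : x⁻¹ * z = z * x⁻¹ := by
  calc x⁻¹ * z = x⁻¹ * (z * x) * x⁻¹ := by group
    _ = x⁻¹ * (x * z) * x⁻¹ := by rw [hx]
    _ = z * x⁻¹ := by group

/-- `x` and `y x`-like elements have the same powers modulo a normalised subgroup -/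
theorem pow_mem_of_coset {N : Subgroup G} {x y : G} (hN : ∀ k ∈ N, x * k * x⁻¹ ∈ N)
    (hxy : y * x⁻¹ ∈ N) (n : ℕ) : y ^ n * (x ^ n)⁻¹ ∈ N := by
  have h1 := Cfsg.Agent.J2Sylow.Functor.pow_mul_inv_mem hxy hN n
  have h2 : y * x⁻¹ * x = y := by group
  rwa [h2] at h1

/-- in a group with odd normal subgroup `J`, having odd order is a property of the image -/
theorem odd_of_coset [Finite G] {J : Subgroup G} (hJ : Odd (Nat.card J)) {x y : G}
    (hN : ∀ k ∈ J, x * k * x⁻¹ ∈ J) (hxy : y * x⁻¹ ∈ J) (ho : Odd (orderOf x)) :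
    Odd (orderOf y) := by
  have h1 := pow_mem_of_coset hN hxy (orderOf x)
  rw [pow_orderOf_eq_one, inv_one, mul_one] at h1
  have h2 : (y ^ orderOf x) ^ Nat.card J = 1 := by
    have h5 : (⟨y ^ orderOf x, h1⟩ : J) ^ Nat.card J = 1 := pow_card_eq_one'
    exact congrArg Subtype.val h5
  rw [← pow_mul] at h2
  exact Odd.of_dvd_nat (ho.mul hJ) (orderOf_dvd_of_pow_eq_one h2)

section

variable [Finite G] {z a y : G} {K J : Subgroup G}

omit [Finite G] in
/-- all commuting pairs `(z-type, a-type)` with second entry `a` are conjugate -/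
theorem exists_conj_za (h2 : ∀ b, IsConj a b → b * z = z * b → ∃ g, g * z = z * g ∧ g * b * g⁻¹ = a)
    {u : G} (hu : IsConj z u) (hua : u * a = a * u) : ∃ g, g * a = a * g ∧ g * u * g⁻¹ = z := by
  obtain ⟨c, hc⟩ := isConj_iff.mp hu
  have h3 : (c⁻¹ * a * c) * z = z * (c⁻¹ * a * c) := by
    have h4 : z = c⁻¹ * u * c := by rw [← hc]; group
    rw [h4]
    calc c⁻¹ * a * c * (c⁻¹ * u * c) = c⁻¹ * (a * u) * c := by group
      _ = c⁻¹ * (u * a) * c := by rw [hua]
      _ = _ := by group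
  obtain ⟨g, hg1, hg2⟩ := h2 (c⁻¹ * a * c) (isConj_iff.mpr ⟨c⁻¹, by group⟩) h3
  refine ⟨g * c⁻¹, ?_, ?_⟩
  · calc g * c⁻¹ * a = (g * (c⁻¹ * a * c) * g⁻¹) * (g * c⁻¹) := by group
      _ = a * (g * c⁻¹) := by rw [hg2]
  · calc g * c⁻¹ * u * (g * c⁻¹)⁻¹ = g * (c⁻¹ * u * c) * g⁻¹ := by group
      _ = g * z * g⁻¹ := by rw [← hc]; group
      _ = z := by rw [hg1]; group

/-- the number of `J`-conjugates of a `z`-type element of `C(a)` -/
theorem card_orbit_J (hz : z * z = 1) (hza : z * a = a * z) (hJodd : Odd (Nat.card J))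
    (hJn : ∀ g : G, g * a = a * g → ∀ x ∈ J, g * x * g⁻¹ ∈ J)
    (h2 : ∀ b, IsConj a b → b * z = z * b → ∃ g, g * z = z * g ∧ g * b * g⁻¹ = a)
    {u : G} (hu : IsConj z u) (hua : u * a = a * u) :
    Nat.card {x : G // ∃ s ∈ J, s * u * s⁻¹ = x} = inv J z := by
  have h3 := card_orbit_mul J u
  have h4 := inv_mul_card (D := J) hJodd hz (hJn z hza)
  obtain ⟨g, hg1, hg2⟩ := exists_conj_za h2 hu hua
  have h5 := card_conj_inf (K' := J) (c := g) (x := u) (hJn g hg1) (fun k hk => by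
    have := hJn g⁻¹ (comm_inv hg1) k hk
    rwa [inv_inv] at this)
  rw [hg2] at h5
  rw [h5, ← h4] at h3
  exact Nat.eq_of_mul_eq_mul_right Nat.card_pos h3

/-- `j²` divides the number of pairs -/
theorem sq_dvd (hz : z * z = 1) (hza : z * a = a * z) (hJodd : Odd (Nat.card J))
    (hJC : ∀ x ∈ J, x * a = a * x)
    (hJn : ∀ g : G, g * a = a * g → ∀ x ∈ J, g * x * g⁻¹ ∈ J)
    (h2 : ∀ b, IsConj a b → b * z = z * b → ∃ g, g * z = z * g ∧ g * b * g⁻¹ = a) :
    inv J z * inv J z ∣ Nat.card {p : G × G // (IsConj z p.1 ∧ p.1 * a = a * p.1) ∧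
      (IsConj z p.2 ∧ p.2 * a = a * p.2) ∧ Odd (orderOf (p.1 * p.2))} := by
  set α := {p : G × G // (IsConj z p.1 ∧ p.1 * a = a * p.1) ∧
      (IsConj z p.2 ∧ p.2 * a = a * p.2) ∧ Odd (orderOf (p.1 * p.2))} with hα
  let r : Setoid α :=
    { r := fun p q => (∃ s ∈ J, s * q.1.1 * s⁻¹ = p.1.1) ∧ (∃ s ∈ J, s * q.1.2 * s⁻¹ = p.1.2)
      iseqv := by
        refine ⟨?_, ?_, ?_⟩
        · intro p
          exact ⟨⟨1, J.one_mem, by group⟩, ⟨1, J.one_mem, by group⟩⟩
        · rintro p q ⟨⟨s, hs, e⟩, ⟨t, ht, e'⟩⟩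
          exact ⟨⟨s⁻¹, J.inv_mem hs, by rw [← e]; group⟩, ⟨t⁻¹, J.inv_mem ht, by rw [← e']; group⟩⟩
        · rintro p q w ⟨⟨s, hs, e⟩, ⟨t, ht, e'⟩⟩ ⟨⟨s', hs', f⟩, ⟨t', ht', f'⟩⟩
          exact ⟨⟨s * s', J.mul_mem hs hs', by rw [← e, ← f]; group⟩,
            ⟨t * t', J.mul_mem ht ht', by rw [← e', ← f']; group⟩⟩ }
  have h3 := dvd_mul_card_of_rel r (inv J z * inv J z) 1 ?_
  · rwa [one_mul] at h3
  rintro ⟨⟨u, w⟩, ⟨hu1, hu2⟩, ⟨hw1, hw2⟩, ho⟩
  rw [one_mul]
  have h4 : Nat.card {b : α // r b ⟨(u, w), ⟨hu1, hu2⟩, ⟨hw1, hw2⟩, ho⟩} =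
      Nat.card ({x : G // ∃ s ∈ J, s * u * s⁻¹ = x} × {x : G // ∃ s ∈ J, s * w * s⁻¹ = x}) := by
    refine Nat.card_congr
      { toFun := fun b => (⟨b.1.1.1, b.2.1⟩, ⟨b.1.1.2, b.2.2⟩)
        invFun := fun x => ⟨⟨(x.1.1, x.2.1), ?_, ?_, ?_⟩, x.1.2, x.2.2⟩
        left_inv := fun b => rfl
        right_inv := fun x => rfl }
    · obtain ⟨s, hs, e⟩ := x.1.2
      refine ⟨hu1.trans (isConj_iff.mpr ⟨s, e⟩), ?_⟩
      change x.1.1 * a = a * x.1.1
      rw [← e]
      exact comm_mul (comm_mul (hJC s hs) hu2) (comm_inv (hJC s hs))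
    · obtain ⟨s, hs, e⟩ := x.2.2
      refine ⟨hw1.trans (isConj_iff.mpr ⟨s, e⟩), ?_⟩
      change x.2.1 * a = a * x.2.1
      rw [← e]
      exact comm_mul (comm_mul (hJC s hs) hw2) (comm_inv (hJC s hs))
    · obtain ⟨s, hs, e⟩ := x.1.2
      obtain ⟨t, ht, e'⟩ := x.2.2
      change Odd (orderOf (x.1.1 * x.2.1))
      refine odd_of_coset hJodd (x := u * w) (hJn _ (comm_mul hu2 hw2)) ?_ ho
      rw [← e, ← e']
      have e3 : s * u * s⁻¹ * (t * w * t⁻¹) * (u * w)⁻¹ =
          s * (u * (s⁻¹ * t) * u⁻¹) * ((u * w) * t⁻¹ * (u * w)⁻¹) := by group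
      rw [e3]
      exact J.mul_mem (J.mul_mem hs (hJn u hu2 _ (J.mul_mem (J.inv_mem hs) ht)))
        (hJn _ (comm_mul hu2 hw2) _ (J.inv_mem ht))
  rw [h4, Nat.card_prod, card_orbit_J hz hza hJodd hJn h2 hu1 hu2,
    card_orbit_J hz hza hJodd hJn h2 hw1 hw2]

omit [Finite G] in
/-- `u a` is of type `a` for `u` of type `z` commuting with `a` -/
theorem mul_a_conj (hca : IsConj a (z * a))
    (h2 : ∀ b, IsConj a b → b * z = z * b → ∃ g, g * z = z * g ∧ g * b * g⁻¹ = a)
    {u : G} (hu : IsConj z u) (hua : u * a = a * u) : IsConj a (u * a) := by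
  obtain ⟨g, hg1, hg2⟩ := exists_conj_za h2 hu hua
  refine hca.trans (isConj_iff.mpr ⟨g⁻¹, ?_⟩)
  rw [← hg2]
  calc g⁻¹ * (g * u * g⁻¹ * a) * g⁻¹⁻¹ = u * (g⁻¹ * (a * g)) := by group
    _ = u * a := by rw [← hg1]; group

omit [Finite G] in
/-- the second term of the order formula as a number of pairs of involutions of `C(a)` -/
theorem card_second (hz : z * z = 1) (ha : a * a = 1) (hnc : ¬ IsConj z a)
    (hca : IsConj a (z * a))
    (h2 : ∀ b, IsConj a b → b * z = z * b → ∃ g, g * z = z * g ∧ g * b * g⁻¹ = a) :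
    Nat.card {p : G × G // IsConj z p.1 ∧ IsConj a p.2 ∧ a ∈ zpowers (p.1 * p.2)} =
    Nat.card {p : G × G // (IsConj z p.1 ∧ p.1 * a = a * p.1) ∧
      (IsConj z p.2 ∧ p.2 * a = a * p.2) ∧ Odd (orderOf (p.1 * p.2))} := by
  have hai : a⁻¹ = a := (eq_inv_of_mul_eq_one_left ha).symm
  refine Nat.card_congr ((Equiv.prodCongr (Equiv.refl G) (Equiv.mulRight a)).subtypeEquiv ?_)
  rintro ⟨u, v⟩
  simp only [Equiv.prodCongr_apply, Prod.map_apply, Equiv.refl_apply, Equiv.coe_mulRight]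
  constructor
  · rintro ⟨hu, hv, hm⟩
    have huu := sq_of_conj hz hu
    have hvv := sq_of_conj ha hv
    obtain ⟨hua, hva⟩ := comm_of_mem_zpowers huu hvv ha hm
    obtain ⟨k, hk⟩ := mem_zpowers_iff.mp hm
    have hui : u⁻¹ = u := (eq_inv_of_mul_eq_one_left huu).symm
    have hvi : v⁻¹ = v := (eq_inv_of_mul_eq_one_left hvv).symm
    set x := u * v with hx
    have hux : u * x * u⁻¹ = x⁻¹ := by
      rw [hx, mul_inv_rev, hui, hvi, ← mul_assoc, huu, one_mul]
    have hvx : v * x * v⁻¹ = x⁻¹ := by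
      rw [hx, mul_inv_rev, hui, hvi]
      calc v * (u * v) * v = v * u * (v * v) := by group
        _ = v * u := by rw [hvv, mul_one]
    have huxn : ∀ n : ℤ, u * x ^ n * u⁻¹ = x ^ (-n) := by
      intro n
      rw [← conj_zpow, hux, inv_zpow, zpow_neg]
    have hvxn : ∀ n : ℤ, v * x ^ n * v⁻¹ = x ^ (-n) := by
      intro n
      rw [← conj_zpow, hvx, inv_zpow, zpow_neg]
    have hodd : Odd k := by
      rcases Int.even_or_odd' k with ⟨m, rfl | rfl⟩
      · exfalso
        -- `u ~ u a`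
        have h5 : x ^ (-m) * u * (x ^ (-m))⁻¹ = u * a := by
          have h6 := huxn m
          calc x ^ (-m) * u * (x ^ (-m))⁻¹ = (u * x ^ m * u⁻¹) * u * (x ^ (-m))⁻¹ := by rw [h6]
            _ = u * (x ^ m * (x ^ (-m))⁻¹) := by group
            _ = u * a := by rw [← hk, ← zpow_neg, ← zpow_add]; congr 2; ring
        have h6 : IsConj z (u * a) := hu.trans (isConj_iff.mpr ⟨_, h5⟩)
        exact hnc (h6.trans (mul_a_conj hca h2 hu hua).symm)
      · exact ⟨m, rfl⟩
    refine ⟨⟨hu, hua⟩, ⟨?_, comm_mul hva rfl⟩, ?_⟩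
    · obtain ⟨m, rfl⟩ := hodd
      refine hu.trans (isConj_iff.mpr ⟨x ^ (-(m + 1)), ?_⟩)
      have h6 := hvxn (m + 1)
      have h7 : u = v * x⁻¹ := by rw [hx, mul_inv_rev, hui, hvi, ← mul_assoc, hvv, one_mul]
      calc x ^ (-(m + 1)) * u * (x ^ (-(m + 1)))⁻¹
          = (v * x ^ (m + 1) * v⁻¹) * (v * x⁻¹) * (x ^ (-(m + 1)))⁻¹ := by rw [h6, ← h7]
        _ = v * (x ^ (m + 1) * x⁻¹ * (x ^ (-(m + 1)))⁻¹) := by group
        _ = v * a := by
            rw [← hk, ← zpow_neg, ← zpow_neg_one, ← zpow_add, ← zpow_add]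
            congr 2
            ring
    · have h8 : u * (v * a) = x ^ (k + 1) := by
        rw [zpow_add_one, hk, ← mul_assoc, ← hx]
        exact comm_mul hua hva
      have h9 : (x ^ (k + 1)) ^ k = 1 := by
        rw [← zpow_mul, mul_comm, zpow_mul, hk]
        obtain ⟨m, rfl⟩ := hodd
        rw [show (2 * m + 1 + 1 : ℤ) = 2 * (m + 1) by ring, zpow_mul, zpow_two, ha, one_zpow]
      rw [h8]
      have h10 := orderOf_dvd_iff_zpow_eq_one.mpr h9
      have h11 : orderOf (x ^ (k + 1)) ∣ k.natAbs := by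
        rw [← Int.natCast_dvd]; exact h10
      exact Odd.of_dvd_nat (Int.natAbs_odd.mpr hodd) h11
  · rintro ⟨⟨hu, hua⟩, ⟨hw, hwa⟩, ho⟩
    have h5 := mul_a_conj hca h2 hw hwa
    have h6 : v * a * a = v := by rw [mul_assoc, ha, mul_one]
    rw [h6] at h5
    refine ⟨hu, h5, ?_⟩
    have h7 : u * v = (u * (v * a)) * a := by
      rw [mul_assoc, h6]
    have h8 : Commute (u * (v * a)) a := comm_mul hua hwa
    have h9 : (u * v) ^ orderOf (u * (v * a)) = a := by
      obtain ⟨m, hm⟩ := ho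
      rw [h7, h8.mul_pow, pow_orderOf_eq_one, one_mul, hm, pow_add, pow_mul, pow_two, ha, one_pow,
        one_mul, pow_one]
    rw [mem_zpowers_iff]
    refine ⟨(orderOf (u * (v * a)) : ℕ), ?_⟩
    rw [zpow_natCast]
    exact h9

omit [Finite G] in
/-- the group of pairs of elements of `C(z)` which are congruent modulo `K` -/
def pairs (z : G) (K : Subgroup G)
    (hKn : ∀ g : G, g * z = z * g → ∀ x ∈ K, g * x * g⁻¹ ∈ K) : Subgroup (G × G) where
  carrier := {p | (p.1 * z = z * p.1 ∧ p.2 * z = z * p.2) ∧ p.1⁻¹ * p.2 ∈ K}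
  one_mem' := by
    refine ⟨⟨by simp, by simp⟩, ?_⟩
    simp
  mul_mem' := by
    rintro ⟨g, g'⟩ ⟨x, x'⟩ ⟨⟨h1, h2⟩, h3⟩ ⟨⟨h4, h5⟩, h6⟩
    refine ⟨⟨comm_mul h1 h4, comm_mul h2 h5⟩, ?_⟩
    change (g * x)⁻¹ * (g' * x') ∈ K
    have e : (g * x)⁻¹ * (g' * x') = x⁻¹ * (g⁻¹ * g') * x⁻¹⁻¹ * (x⁻¹ * x') := by group
    rw [e]
    exact K.mul_mem (hKn _ (comm_inv h4) _ h3) h6
  inv_mem' := by
    rintro ⟨g, g'⟩ ⟨⟨h1, h2⟩, h3⟩
    refine ⟨⟨comm_inv h1, comm_inv h2⟩, ?_⟩
    change g⁻¹⁻¹ * g'⁻¹ ∈ K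
    have e : g⁻¹⁻¹ * g'⁻¹ = g * (g⁻¹ * g')⁻¹ * g⁻¹ := by group
    rw [e]
    exact hKn g h1 _ (K.inv_mem h3)

omit [Finite G] in
theorem card_pairs' (hKC : ∀ x ∈ K, x * z = z * x)
    (hKn : ∀ g : G, g * z = z * g → ∀ x ∈ K, g * x * g⁻¹ ∈ K) :
    Nat.card (pairs z K hKn) = Nat.card (centralizer ({z} : Set G)) * Nat.card K := by
  rw [← Nat.card_prod]
  refine Nat.card_congr
    { toFun := fun p => (⟨p.1.1, mem_centralizer_singleton_iff.mpr p.2.1.1⟩,
        ⟨p.1.1⁻¹ * p.1.2, p.2.2⟩)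
      invFun := fun q => ⟨(q.1, q.1 * q.2), ⟨mem_centralizer_singleton_iff.mp q.1.2,
        comm_mul (mem_centralizer_singleton_iff.mp q.1.2) (hKC _ q.2.2)⟩, ?_⟩
      left_inv := ?_
      right_inv := ?_ }
  · change (q.1 : G)⁻¹ * ((q.1 : G) * q.2) ∈ K
    rw [inv_mul_cancel_left]
    exact q.2.2
  · rintro ⟨⟨g, g'⟩, hp⟩
    apply Subtype.ext
    apply Prod.ext
    · rfl
    · change g * (g⁻¹ * g') = g'
      group
  · rintro ⟨g, k⟩
    apply Prod.ext
    · rfl
    · apply Subtype.ext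
      change (g : G)⁻¹ * ((g : G) * k) = k
      group

/-- membership of `z` in a cyclic subgroup of `C(z)` depends only on the image modulo `K` -/
theorem mem_zpowers_of_coset (hz : z * z = 1) (hKodd : Odd (Nat.card K))
    (hKC : ∀ x ∈ K, x * z = z * x)
    (hKn : ∀ g : G, g * z = z * g → ∀ x ∈ K, g * x * g⁻¹ ∈ K) {x x' : G} (hx : x * z = z * x)
    (hxx : x' * x⁻¹ ∈ K) (hm : z ∈ zpowers x) : z ∈ zpowers x' := by
  obtain ⟨n, hn⟩ := mem_powers_iff_mem_zpowers.mpr hm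
  simp only at hn
  have h1 := pow_mem_of_coset (hKn x hx) hxx n
  rw [hn] at h1
  set k := x' ^ n * z⁻¹ with hk
  have h2 : x' ^ n = k * z := by rw [hk]; group
  have h8 : Commute k z := hKC k h1
  have h9 : (x' ^ n) ^ Nat.card K = z := by
    have h10 : k ^ Nat.card K = 1 := by
      have h5 : (⟨k, h1⟩ : K) ^ Nat.card K = 1 := pow_card_eq_one'
      exact congrArg Subtype.val h5
    obtain ⟨m, hm⟩ := hKodd
    rw [h2, h8.mul_pow, h10, one_mul, hm, pow_add, pow_mul, pow_two, hz, one_pow, one_mul, pow_one]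
  rw [← h9, ← pow_mul]
  exact pow_mem (mem_zpowers _) _

/-- the stabiliser of a pair -/
theorem card_stab (hKC : ∀ x ∈ K, x * z = z * x)
    (hKn : ∀ g : G, g * z = z * g → ∀ x ∈ K, g * x * g⁻¹ ∈ K) {u v : G}
    (h3 : ∀ g : G, g * z = z * g → g * v = v * g → ∃ n : ℕ, g ^ (2 ^ n) ∈ K) :
    ∃ m, m ≤ Nat.card (G × G) ∧ Nat.card ↥(pairs z K hKn ⊓ centralizer {(u, v)} : Subgroup (G × G))
      = 2 ^ m * (Nat.card ↥(K ⊓ centralizer {u} : Subgroup G) *
        Nat.card ↥(K ⊓ centralizer {v} : Subgroup G)) := by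
  set S := (pairs z K hKn ⊓ centralizer {(u, v)} : Subgroup (G × G)) with hS
  set L := ((K ⊓ centralizer {u}).prod (K ⊓ centralizer {v}) : Subgroup (G × G)) with hL
  have hmem : ∀ p : G × G, p ∈ S ↔ ((p.1 * z = z * p.1 ∧ p.2 * z = z * p.2) ∧ p.1⁻¹ * p.2 ∈ K) ∧
      (p.1 * u = u * p.1 ∧ p.2 * v = v * p.2) := by
    rintro ⟨g, g'⟩
    rw [hS, mem_inf, mem_centralizer_singleton_iff]
    refine and_congr Iff.rfl ?_
    rw [Prod.mk_mul_mk, Prod.mk_mul_mk, Prod.mk.injEq]
  have hmemL : ∀ p : G × G, p ∈ L ↔ (p.1 ∈ K ∧ p.1 * u = u * p.1) ∧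
      (p.2 ∈ K ∧ p.2 * v = v * p.2) := by
    rintro ⟨g, g'⟩
    rw [hL, mem_prod, mem_inf, mem_inf, mem_centralizer_singleton_iff,
      mem_centralizer_singleton_iff]
  have hLS : L ≤ S := by
    intro p hp
    rw [hmemL] at hp
    rw [hmem]
    exact ⟨⟨⟨hKC _ hp.1.1, hKC _ hp.2.1⟩, K.mul_mem (K.inv_mem hp.1.1) hp.2.1⟩, hp.1.2, hp.2.2⟩
  have hnorm : (L.subgroupOf S).Normal := by
    refine ⟨?_⟩
    rintro ⟨⟨l, l'⟩, hl0⟩ hl ⟨⟨g, g'⟩, hg⟩
    rw [mem_subgroupOf] at hl ⊢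
    rw [hmem] at hg
    rw [hmemL] at hl ⊢
    obtain ⟨⟨⟨g1, g2⟩, g3⟩, g4, g5⟩ := hg
    obtain ⟨⟨l1, l2⟩, l3, l4⟩ := hl
    exact ⟨⟨hKn g g1 l l1, comm_mul (comm_mul g4 l2) (comm_inv g4)⟩,
      ⟨hKn g' g2 l' l3, comm_mul (comm_mul g5 l4) (comm_inv g5)⟩⟩
  have hP : IsPGroup 2 (S ⧸ L.subgroupOf S) := by
    intro x
    obtain ⟨⟨⟨g, g'⟩, hg⟩, rfl⟩ := QuotientGroup.mk_surjective x
    have hg' := hg
    rw [hmem] at hg'
    obtain ⟨⟨⟨g1, g2⟩, g3⟩, g4, g5⟩ := hg'
    obtain ⟨n, hn⟩ := h3 g' g2 g5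
    refine ⟨n, ?_⟩
    rw [← QuotientGroup.mk_pow, QuotientGroup.eq_one_iff, mem_subgroupOf, hmemL]
    change (g ^ 2 ^ n ∈ K ∧ g ^ 2 ^ n * u = u * g ^ 2 ^ n) ∧
      (g' ^ 2 ^ n ∈ K ∧ g' ^ 2 ^ n * v = v * g' ^ 2 ^ n)
    have h4 : g ^ 2 ^ n ∈ K := by
      have h5 : g * g'⁻¹ ∈ K := by
        have e : g * g'⁻¹ = g' * (g⁻¹ * g')⁻¹ * g'⁻¹ := by group
        rw [e]
        exact hKn g' g2 _ (K.inv_mem g3)
      have h6 := pow_mem_of_coset (hKn g' g2) h5 (2 ^ n)
      have e : g ^ 2 ^ n = g ^ 2 ^ n * (g' ^ 2 ^ n)⁻¹ * g' ^ 2 ^ n := by group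
      rw [e]
      exact K.mul_mem h6 hn
    have h7 : Commute g u := g4
    have h8 : Commute g' v := g5
    exact ⟨⟨h4, h7.pow_left _⟩, hn, h8.pow_left _⟩
  obtain ⟨m, hm⟩ := (IsPGroup.iff_card (p := 2)).mp hP
  have hcard : Nat.card S = 2 ^ m * Nat.card L := by
    have h5 := Subgroup.card_eq_card_quotient_mul_card_subgroup (L.subgroupOf S)
    rw [h5, hm, Nat.card_congr (subgroupOfEquivOfLe hLS).toEquiv]
  refine ⟨m, ?_, ?_⟩
  · have h6 : 2 ^ m ≤ Nat.card (G × G) := by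
      have h7 : 2 ^ m ≤ Nat.card S := by
        rw [hcard]
        exact Nat.le_mul_of_pos_right _ Nat.card_pos
      exact h7.trans (Nat.card_le_card_of_injective _ (Subtype.val_injective))
    exact (Nat.lt_two_pow_self).le.trans h6
  · rw [hcard, hL, Nat.card_congr ((K ⊓ centralizer {u}).prodEquiv (K ⊓ centralizer {v})).toEquiv,
      Nat.card_prod]

/-- divisibility of the first term -/
theorem first_dvd {y : G} (hz : z * z = 1) (ha : a * a = 1) (hz1 : z ≠ 1) (ha1 : a ≠ 1)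
    (hy : y * y = 1) (hzy : z * y = y * z)
    (hKodd : Odd (Nat.card K)) (hKC : ∀ x ∈ K, x * z = z * x)
    (hKn : ∀ g : G, g * z = z * g → ∀ x ∈ K, g * x * g⁻¹ ∈ K)
    (h1 : ∀ u, IsConj z u → u ≠ z → u * z = z * u → ∃ g, g * z = z * g ∧ g * u * g⁻¹ = y)
    (h2 : ∀ b, IsConj a b → b * z = z * b → ∃ g, g * z = z * g ∧ g * b * g⁻¹ = a)
    (h3 : ∀ g : G, g * z = z * g → g * a * g⁻¹ * a⁻¹ ∈ K → ∃ n : ℕ, g ^ (2 ^ n) ∈ K) :
    Nat.card (centralizer ({z} : Set G)) * inv K y ∣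
      (2 ^ Nat.card (G × G) * Nat.card ↥(K ⊓ centralizer {a} : Subgroup G)) *
      Nat.card {p : G × G // IsConj z p.1 ∧ IsConj a p.2 ∧ z ∈ zpowers (p.1 * p.2)} := by
  set β := {p : G × G // IsConj z p.1 ∧ IsConj a p.2 ∧ z ∈ zpowers (p.1 * p.2)} with hβ
  let A := pairs z K hKn
  let r : Setoid β :=
    { r := fun p q => ∃ s ∈ A, s * q.1 * s⁻¹ = p.1
      iseqv := by
        refine ⟨?_, ?_, ?_⟩
        · intro p
          exact ⟨1, A.one_mem, by group⟩
        · rintro p q ⟨s, hs, e⟩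
          exact ⟨s⁻¹, A.inv_mem hs, by rw [← e]; group⟩
        · rintro p q w ⟨s, hs, e⟩ ⟨s', hs', f⟩
          exact ⟨s * s', A.mul_mem hs hs', by rw [← e, ← f]; group⟩ }
  refine dvd_mul_card_of_rel r _ _ ?_
  rintro ⟨⟨u, v⟩, hu, hv, hm⟩
  change IsConj z u at hu
  change IsConj a v at hv
  change z ∈ zpowers (u * v) at hm
  have huu := sq_of_conj hz hu
  have hvv := sq_of_conj ha hv
  obtain ⟨huz, hvz⟩ := comm_of_mem_zpowers huu hvv hz hm
  -- the class is an orbit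
  have h4 : Nat.card {b : β // r b ⟨(u, v), hu, hv, hm⟩} =
      Nat.card {x : G × G // ∃ s ∈ A, s * (u, v) * s⁻¹ = x} := by
    refine Nat.card_congr
      { toFun := fun b => ⟨b.1.1, b.2⟩
        invFun := fun x => ⟨⟨x.1, ?_⟩, x.2⟩
        left_inv := fun b => rfl
        right_inv := fun x => rfl }
    obtain ⟨⟨x, x'⟩, ⟨s, s'⟩, hs, e⟩ := x
    change (s * u * s⁻¹, s' * v * s'⁻¹) = (x, x') at e
    rw [Prod.mk.injEq] at e
    obtain ⟨rfl, rfl⟩ := e
    obtain ⟨⟨s1, s2⟩, s3⟩ := hs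
    change s * z = z * s at s1
    change s' * z = z * s' at s2
    change s⁻¹ * s' ∈ K at s3
    refine ⟨hu.trans (isConj_iff.mpr ⟨s, rfl⟩), hv.trans (isConj_iff.mpr ⟨s', rfl⟩), ?_⟩
    change z ∈ zpowers (s * u * s⁻¹ * (s' * v * s'⁻¹))
    -- conjugate back by `s`
    have h5 : z ∈ zpowers (u * (s⁻¹ * s') * v * (s⁻¹ * s')⁻¹) := by
      refine mem_zpowers_of_coset hz hKodd hKC hKn (x := u * v) (comm_mul huz hvz) ?_ hm
      have e : u * (s⁻¹ * s') * v * (s⁻¹ * s')⁻¹ * (u * v)⁻¹ =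
          (u * (s⁻¹ * s') * u⁻¹) * ((u * v) * (s⁻¹ * s')⁻¹ * (u * v)⁻¹) := by group
      rw [e]
      exact K.mul_mem (hKn u huz _ s3) (hKn _ (comm_mul huz hvz) _ (K.inv_mem s3))
    obtain ⟨n, hn⟩ := mem_zpowers_iff.mp h5
    rw [mem_zpowers_iff]
    refine ⟨n, ?_⟩
    have e : s * u * s⁻¹ * (s' * v * s'⁻¹) = s * (u * (s⁻¹ * s') * v * (s⁻¹ * s')⁻¹) * s⁻¹ := by
      group
    rw [e, conj_zpow, hn, s1]
    group
  rw [h4]
  have h5 := card_orbit_mul A ((u, v) : G × G)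
  -- `u ≠ z`
  have huz' : u ≠ z := by
    rintro rfl
    have h6 : (u * v) * (u * v) = 1 := by
      calc (u * v) * (u * v) = u * (v * u) * v := by group
        _ = (u * u) * (v * v) := by rw [hvz]; group
        _ = 1 := by rw [huu, hvv, one_mul]
    obtain ⟨n, hn⟩ := mem_zpowers_iff.mp hm
    rcases Int.even_or_odd' n with ⟨m, rfl | rfl⟩
    · rw [zpow_mul, zpow_two, h6, one_zpow] at hn
      exact hz1 hn.symm
    · rw [zpow_add, zpow_mul, zpow_two, h6, one_zpow, one_mul, zpow_one] at hn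
      have h7 : v = 1 := mul_left_cancel (a := u) (by rw [hn, mul_one])
      rw [h7] at hv
      exact ha1 (isConj_one_right.mp hv.symm)
  obtain ⟨g, hg1, hg2⟩ := h1 u hu huz' huz
  obtain ⟨x, hx1, hx2⟩ := h2 v hv hvz
  have hstab : ∀ g : G, g * z = z * g → g * v = v * g → ∃ n : ℕ, g ^ (2 ^ n) ∈ K := by
    intro g hg hgv
    obtain ⟨n, hn⟩ := h3 (x * g * x⁻¹) (comm_mul (comm_mul hx1 hg) (comm_inv hx1)) (by
      have e : x * g * x⁻¹ * a * (x * g * x⁻¹)⁻¹ * a⁻¹ = 1 := by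
        rw [← hx2]
        calc x * g * x⁻¹ * (x * v * x⁻¹) * (x * g * x⁻¹)⁻¹ * (x * v * x⁻¹)⁻¹
            = x * (g * v) * g⁻¹ * v⁻¹ * x⁻¹ := by group
          _ = 1 := by rw [hgv]; group
      rw [e]
      exact K.one_mem)
    refine ⟨n, ?_⟩
    rw [conj_pow] at hn
    have h6 := hKn x⁻¹ (comm_inv hx1) _ hn
    have e : x⁻¹ * (x * g ^ 2 ^ n * x⁻¹) * x⁻¹⁻¹ = g ^ 2 ^ n := by group
    rwa [e] at h6
  obtain ⟨m, hmle, hm2⟩ := card_stab (u := u) (v := v) hKC hKn hstab
  change _ * Nat.card ↥(pairs z K hKn ⊓ centralizer {(u, v)} : Subgroup (G × G)) = _ at h5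
  have hcu := card_conj_inf (K' := K) (c := g) (x := u) (hKn g hg1) (fun k hk => by
    have := hKn g⁻¹ (comm_inv hg1) k hk
    rwa [inv_inv] at this)
  have hcv := card_conj_inf (K' := K) (c := x) (x := v) (hKn x hx1) (fun k hk => by
    have := hKn x⁻¹ (comm_inv hx1) k hk
    rwa [inv_inv] at this)
  rw [hg2] at hcu
  rw [hx2] at hcv
  rw [hm2, hcu, hcv, card_pairs' hKC hKn] at h5
  have h6 := inv_mul_card (D := K) hKodd hy (hKn y hzy.symm)
  set κy := Nat.card ↥(K ⊓ centralizer {y} : Subgroup G) with hκy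
  set κa := Nat.card ↥(K ⊓ centralizer {a} : Subgroup G) with hκa
  have hκ0 : 0 < κy := Nat.card_pos
  set o := Nat.card {x : G × G // ∃ s ∈ A, s * (u, v) * s⁻¹ = x} with ho
  have h7 : κy * (o * 2 ^ m * κa) =
      κy * (Nat.card (centralizer ({z} : Set G)) * inv K y) := by
    calc κy * (o * 2 ^ m * κa) = o * (2 ^ m * (κy * κa)) := by ring
      _ = Nat.card (centralizer ({z} : Set G)) * Nat.card K := h5
      _ = Nat.card (centralizer ({z} : Set G)) * (inv K y * κy) := by rw [h6]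
      _ = κy * (Nat.card (centralizer ({z} : Set G)) * inv K y) := by ring
  have h8 := Nat.eq_of_mul_eq_mul_left hκ0 h7
  rw [← h8]
  obtain ⟨c, hc⟩ := Nat.exists_eq_add_of_le hmle
  rw [hc, pow_add]
  exact ⟨2 ^ c, by ring⟩

/-- the subgroup `C_K(a) J` of `C(a)` -/
theorem dvd_card_centralizer_a (hz : z * z = 1) (hza : z * a = a * z)
    (hJodd : Odd (Nat.card J)) (hKC : ∀ x ∈ K, x * z = z * x)
    (hJC : ∀ x ∈ J, x * a = a * x)
    (hJn : ∀ g : G, g * a = a * g → ∀ x ∈ J, g * x * g⁻¹ ∈ J)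
    (h0 : ∀ x ∈ J, x * z = z * x → x ∈ K) :
    Nat.card ↥(K ⊓ centralizer {a} : Subgroup G) * inv J z ∣
      Nat.card (centralizer ({a} : Set G)) := by
  set H := (K ⊓ centralizer {a} : Subgroup G) with hH
  have h1 := Cfsg.Agent.Lib.ProductSet.card_mul_card_inf J H
  have h2 := inv_mul_card (D := J) hJodd hz (hJn z hza)
  have h3 : J ⊓ H = J ⊓ centralizer {z} := by
    ext x
    simp only [hH, mem_inf, mem_centralizer_singleton_iff]
    constructor
    · rintro ⟨h4, h5, -⟩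
      exact ⟨h4, hKC x h5⟩
    · rintro ⟨h4, h5⟩
      exact ⟨h4, h0 x h4 h5, hJC x h4⟩
  have h4 : Nat.card ((J : Set G) * (H : Set G) : Set G) = Nat.card ↥(H ⊔ J : Subgroup G) := by
    refine Nat.card_congr (Equiv.setCongr ?_)
    ext x
    rw [SetLike.mem_coe, mem_sup_iff (fun s hs n hn =>
      hJn s (mem_centralizer_singleton_iff.mp (mem_inf.mp hs).2) n hn), Set.mem_mul]
    constructor
    · rintro ⟨k, hk, s, hs, rfl⟩
      exact ⟨k, hk, s, hs, rfl⟩
    · rintro ⟨k, hk, s, hs, rfl⟩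
      exact ⟨k, hk, s, hs, rfl⟩
  rw [h3, h4, ← h2] at h1
  have h5 : Nat.card ↥(H ⊔ J : Subgroup G) = Nat.card H * inv J z := by
    have h6 : 0 < Nat.card ↥(J ⊓ centralizer {z} : Subgroup G) := Nat.card_pos
    refine Nat.eq_of_mul_eq_mul_right h6 ?_
    rw [h1]
    ring
  rw [← h5]
  refine card_dvd_of_le (sup_le (hH ▸ inf_le_right) ?_)
  intro x hx
  exact mem_centralizer_singleton_iff.mpr (hJC x hx)

end

set_option linter.unusedVariables false in
/-- **piece A of step (4)** -/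
theorem order_part {G : Type*} [Group G] [Finite G] {z a y : G} {K J : Subgroup G}
    (hz : orderOf z = 2) (ha : orderOf a = 2) (hy : orderOf y = 2) (hnc : ¬ IsConj z a)
    (hall : ∀ t : G, orderOf t = 2 → IsConj z t ∨ IsConj a t) (hza : z * a = a * z)
    (hca : IsConj a (z * a)) (hzy : z * y = y * z) (hy1 : IsConj z y) (hyz : y ≠ z)
    (hKodd : Odd (Nat.card K)) (hJodd : Odd (Nat.card J)) (hKC : ∀ x ∈ K, x * z = z * x)
    (hKn : ∀ g : G, g * z = z * g → ∀ x ∈ K, g * x * g⁻¹ ∈ K) (hJC : ∀ x ∈ J, x * a = a * x)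
    (hJn : ∀ g : G, g * a = a * g → ∀ x ∈ J, g * x * g⁻¹ ∈ J)
    (h0 : ∀ x ∈ J, x * z = z * x → x ∈ K)
    (h1 : ∀ u, IsConj z u → u ≠ z → u * z = z * u → ∃ g, g * z = z * g ∧ g * u * g⁻¹ = y)
    (h2 : ∀ b, IsConj a b → b * z = z * b → ∃ g, g * z = z * g ∧ g * b * g⁻¹ = a)
    (h3 : ∀ g : G, g * z = z * g → g * a * g⁻¹ * a⁻¹ ∈ K → ∃ n : ℕ, g ^ (2 ^ n) ∈ K)
    (d : ℕ) (hd : Odd d) (hd1 : d ∣ inv J z * inv J z) (hd2 : d ∣ inv J z * inv K y) :
    d ∣ (centralizer ({z} : Set G)).index := by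
  have hzz := sq_of_orderOf hz
  have haa := sq_of_orderOf ha
  have hyy := sq_of_orderOf hy
  have hTOF := Cfsg.Agent.S0213.result z a hz ha hnc hall
  have hA := first_dvd hzz haa (ne_one_of_orderOf hz) (ne_one_of_orderOf ha) hyy hzy hKodd hKC hKn
    h1 h2 h3
  have hB := sq_dvd hzz hza hJodd hJC hJn h2
  rw [← card_second hzz haa hnc hca h2] at hB
  have hC := dvd_card_centralizer_a hzz hza hJodd hKC hJC hJn h0
  set Nz := Nat.card {p : G × G // IsConj z p.1 ∧ IsConj a p.2 ∧ z ∈ zpowers (p.1 * p.2)} with hNz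
  set Na := Nat.card {p : G × G // IsConj z p.1 ∧ IsConj a p.2 ∧ a ∈ zpowers (p.1 * p.2)} with hNa
  set κa := Nat.card ↥(K ⊓ centralizer {a} : Subgroup G) with hκa
  set Cz := Nat.card (centralizer ({z} : Set G)) with hCz
  set P := 2 ^ Nat.card (G × G) with hP
  have hCz0 : 0 < Cz := Nat.card_pos
  have hidx := Subgroup.card_mul_index (centralizer ({z} : Set G))
  rw [← hCz] at hidx
  obtain ⟨c, hc⟩ := hC
  obtain ⟨e, he⟩ := hA
  obtain ⟨f, hf⟩ := hB
  have h5 : Cz * (P * (centralizer ({z} : Set G)).index) =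
      Cz * ((inv J z * inv K y) * (c * e) + P * Na) := by
    calc Cz * (P * (centralizer ({z} : Set G)).index)
        = P * (Cz * (centralizer ({z} : Set G)).index) := by ring
      _ = P * Nat.card G := by rw [hidx]
      _ = P * (κa * inv J z * c * Nz + Cz * Na) := by rw [hTOF, hc]
      _ = (P * κa * Nz) * (inv J z * c) + Cz * (P * Na) := by ring
      _ = (Cz * inv K y * e) * (inv J z * c) + Cz * (P * Na) := by rw [he]
      _ = _ := by ring
  have h6 := Nat.eq_of_mul_eq_mul_left hCz0 h5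
  have h7 : d ∣ P * (centralizer ({z} : Set G)).index := by
    rw [h6, hf]
    exact dvd_add (hd2.mul_right _) (((hd1.mul_right f)).mul_left P)
  have h8 : d.Coprime P := by
    rw [hP]
    exact (hd.coprime_two_right).pow_right _
  exact h8.dvd_of_dvd_mul_left h7

end Cfsg.Agent.J2Sylow.OrderPart
end

-- part: J2Sylow/BalAll
section
set_option autoImplicit false
set_option linter.style.haveILetI false
set_option linter.unusedSectionVars false

/-!
# The balance theorem (step (4) of S1776): assembly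
-/

namespace Cfsg.Agent.J2Sylow.BalAll

open Subgroup Model Model.F4 Cfsg.Agent.J2Sylow Cfsg.Agent.J2Sylow.CoreTools
open Cfsg.Agent.J2Sylow.Climb

universe u

theorem tf : TFStatement.{u} := by
  intro H X _ _ _ π h1 h2 Qt zt v ρ M hX r hr hr2 P h3 h4 h5 h6 y h7 h8 h9 h10 h11 S h12 h13
  exact TF.exists_char π h1 h2 M hX hr hr2 P h3 h4 h5 h6 h7 h8 h9 h10 h11 S h12 h13

section Final

variable {G : Type u} [Group G] [Finite G] {h : Setup G}

omit [Finite G] in
theorem conj_phi (s t : T) : h.φ s * h.φ t * (h.φ s)⁻¹ = h.φ (s * t * s⁻¹) := by simp only [_root_.map_mul, _root_.map_inv]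

omit [Finite G] in
theorem a_sq : h.a * h.a = 1 := by
  show h.φ _ * h.φ _ = 1
  rw [← map_mul, ← map_one h.φ]
  congr 1

omit [Finite G] in
theorem a_ne : h.a ≠ 1 := by
  intro h1
  have h2 : h.φ ⟨e, o, o, false⟩ = h.φ 1 := by rw [map_one]; exact h1
  exact absurd (h.inj h2) (by decide)

omit [Finite G] in
theorem z_ne : h.z ≠ 1 := by
  intro h1
  have h2 : h.φ Model.T.z = h.φ 1 := by rw [map_one]; exact h1
  exact absurd (h.inj h2) (by decide)

theorem orderOf_two {x : G} (h2 : x * x = 1) (h1 : x ≠ 1) : orderOf x = 2 :=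
  orderOf_eq_prime (by rw [pow_two]; exact h2) h1

/-- a contradiction in a group with trivial odd core -/
theorem bal_of_core_eq_bot (T : Tab h) (C : CZ h) (F : Fused h) {r : ℕ} (hr : r.Prime) (hr2 : r ≠ 2)
    (hO : ∀ N : Subgroup G, N.Normal → Odd (Nat.card N) → N = ⊥)
    (hstd : ∀ (H : Subgroup G) (h2 : Setup H), (∀ t, ((h2.φ t : H) : G) = h.φ t) → Fused h2 →
      Std h2)
    (hind : ∀ (H : Subgroup G) (h2 : Setup H), H ≠ ⊤ → (∀ t, ((h2.φ t : H) : G) = h.φ t) →
      Fused h2 → Std h2 → Bal r h2) : Bal r h := by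
  classical
  haveI : Fact r.Prime := ⟨hr⟩
  by_contra hB
  have hact : ∃ x ∈ KK h.z, (∃ k : ℕ, x ^ (r ^ k) = 1) ∧ h.v * x * h.v⁻¹ = x⁻¹ ∧ x ≠ 1 := by
    have hB' := hB
    unfold Bal at hB'
    push Not at hB'
    obtain ⟨x, hx, -, hxv, hxr, hxa⟩ := hB'
    refine ⟨x, hx, hxr, hxv, ?_⟩
    rintro rfl
    exact hxa (one_mem _)
  obtain ⟨P, hP, hPS, hPK, hPi⟩ := climb tf C hr hr2 hO hact (by
    intro H hH hSH cover rpart
    exact LemmaD.good_of_cover' h F T hr hr2 hB hSH cover rpart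
      (fun hf => hstd H _ (fun t => LemmaD.setupOf_phi h hSH t) hf)
      (fun h2 hc hf hs => hind H h2 hH hc hf hs))
  have hlt := Weights2.val_lt_of_not_bal T hr hB
  have hPle := Weights2.inv_P T hr hr2 hB hP (fun s hs => hPS s (h.E1_le_S hs)) hPK
  -- the order formula
  set μ := padicValNat r (m1 h) with hμ
  set ν := padicValNat r (m2 h) with hν
  have hvz : IsConj h.z h.v := by
    obtain ⟨g, -, hg⟩ := F.f1
    exact (isConj_iff.2 ⟨g, hg⟩).symm
  have hza : h.z * h.a = h.a * h.z := by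
    show h.φ _ * h.φ _ = h.φ _ * h.φ _
    rw [← map_mul, ← map_mul]
    congr 1
  have hzv : h.z * h.v = h.v * h.z := by
    show h.φ _ * h.φ _ = h.φ _ * h.φ _
    rw [← map_mul, ← map_mul]
    congr 1
  -- `z a` is conjugate to `a`
  have hca : IsConj h.a (h.z * h.a) := by
    refine isConj_iff.2 ⟨h.φ ⟨o, e, o, false⟩, ?_⟩
    show h.φ _ * h.φ _ * (h.φ _)⁻¹ = h.φ _ * h.φ _
    rw [conj_phi, ← map_mul]
    congr 1
  have hr' : r ^ μ ∣ m1 h := pow_padicValNat_dvd
  have hr'' : r ^ ν ∣ m2 h := pow_padicValNat_dvd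
  have hJ := inv_J T
  have hK := inv_K T
  have hbase : r ^ (2 * μ + 2 * ν) ∣ inv (KK h.a) h.z := by
    rw [hJ, pow_add, pow_mul', pow_mul']
    exact Nat.mul_dvd_mul (pow_dvd_pow_of_dvd hr' 2) (pow_dvd_pow_of_dvd hr'' 2)
  have hbase2 : r ^ (4 * ν) ∣ inv (KK h.z) h.v := by
    rw [hK, pow_mul']
    exact pow_dvd_pow_of_dvd hr'' 4
  have hdvd := OrderPart.order_part (z := h.z) (a := h.a) (y := h.v) (K := KK h.z) (J := KK h.a)
    (orderOf_two z_sq z_ne) (orderOf_two a_sq a_ne) (orderOf_two v_sq v_ne_one) T.nconj T.cls hza hca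
    hzv hvz (by
      intro h1
      have h2 : h.φ Model.T.v = h.φ Model.T.z := h1
      exact absurd (h.inj h2) (by decide)) (Functor.K_odd _) (Functor.K_odd _)
    (fun x hx => comm_iff_mem.1 (Functor.K_le _ hx))
    (fun g hg x hx => Functor.K_conj (comm_iff_mem.2 hg) hx)
    (fun x hx => comm_iff_mem.1 (Functor.K_le _ hx))
    (fun g hg x hx => Functor.K_conj (comm_iff_mem.2 hg) hx)
    (by
      intro x hx hxz
      have hxa : x * h.a = h.a * x := comm_iff_mem.1 (Functor.K_le _ hx)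
      obtain ⟨n, hn⟩ := T.two x hxz (by
        have : x * h.a * x⁻¹ * (h.a)⁻¹ = 1 := by rw [hxa]; group
        rw [this]; exact one_mem _)
      exact mem_of_pow_two_pow_mem (Functor.odd_orderOf_of_mem (Functor.K_odd _) hx) hn)
    T.zz T.za T.two (r ^ (4 * μ + 4 * ν)) (hr.odd_of_ne_two hr2).pow
    (by
      have h1 : 4 * μ + 4 * ν = (2 * μ + 2 * ν) + (2 * μ + 2 * ν) := by ring
      rw [h1, pow_add]
      exact Nat.mul_dvd_mul hbase hbase)
    (by
      have h1 : r ^ (4 * μ + 4 * ν) ∣ r ^ ((2 * μ + 2 * ν) + 4 * ν) := pow_dvd_pow r (by omega)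
      refine h1.trans ?_
      rw [pow_add]
      exact Nat.mul_dvd_mul hbase hbase2)
  have hidx0 : (centralizer ({h.z} : Set G)).index ≠ 0 := index_ne_zero_of_finite
  have h1 : 4 * μ + 4 * ν ≤ padicValNat r (centralizer ({h.z} : Set G)).index :=
    (padicValNat_dvd_iff_le hidx0).1 hdvd
  have h2 : padicValNat r (centralizer ({h.z} : Set G)).index ≤ 8 * μ :=
    (Nat.pow_dvd_pow_iff_le_right hr.one_lt).1 (hPi.trans hPle)
  omega

end Final

/-- **The balance theorem.** -/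
theorem bal_all
    (hTab : ∀ (G : Type u) [Group G] [Finite G] (h : Setup G), Fused h → Std h →
      ¬ IsConj h.z h.a → Tab h ∧ CZ h)
    (hstd : ∀ (G : Type u) [Group G] [Finite G] (h : Setup G), Fused h → Std h →
      ¬ IsConj h.z h.a → ∀ (H : Subgroup G) (h2 : Setup H), (∀ t, ((h2.φ t : H) : G) = h.φ t) →
      Fused h2 → Std h2) {r : ℕ} (hr : r.Prime) (hr2 : r ≠ 2) :
    ∀ (n : ℕ) (G : Type u) [Group G] [Finite G], Nat.card G = n → ∀ h : Setup G, Fused h →
      Std h → ¬ IsConj h.z h.a → Bal r h := by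
  intro n
  induction n using Nat.strong_induction_on with
  | _ n ih =>
    intro G _ _ hn h F hS hJ
    obtain ⟨T, C⟩ := hTab G h F hS hJ
    by_cases hO : ∀ N : Subgroup G, N.Normal → Odd (Nat.card N) → N = ⊥
    · refine bal_of_core_eq_bot T C F hr hr2 hO (hstd G h F hS hJ) ?_
      intro H h2 hH hc hF2 hS2
      have hlt : Nat.card H < n := by
        rw [← hn]
        exact lt_of_le_of_ne (Nat.le_of_dvd Nat.card_pos (card_subgroup_dvd_card H))
          fun h1 => hH (eq_top_of_card_eq H h1)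
      refine ih _ hlt H rfl h2 hF2 hS2 ?_
      intro h1
      apply hJ
      obtain ⟨g, hg⟩ := isConj_iff.1 h1
      refine isConj_iff.2 ⟨g, ?_⟩
      have h3 := congrArg (fun t : H => (t : G)) hg
      have e1 : ((h2.z : H) : G) = h.z := hc _
      have e2 : ((h2.a : H) : G) = h.a := hc _
      rw [← e1, ← e2]
      exact h3
    · push Not at hO
      obtain ⟨N, hN, hNodd, hNb⟩ := hO
      obtain ⟨h', hφ, hF, hStd', hJ', hBal⟩ := Quot.bal_of_quotient h N hNodd
      apply hBal r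
      have hlt : Nat.card (G ⧸ N) < n := by
        rw [← hn, Subgroup.card_eq_card_quotient_mul_card_subgroup N]
        have h1 : 1 < Nat.card N := by
          rcases Nat.lt_or_ge 1 (Nat.card N) with h2 | h2
          · exact h2
          · exact absurd (eq_bot_of_card_le N h2) hNb
        have h2 : 0 < Nat.card (G ⧸ N) := Nat.card_pos
        nlinarith only [h1, h2]
      exact ih _ hlt (G ⧸ N) rfl h' (hF F) (hStd' hS) (fun h1 => hJ (hJ' h1))

end Cfsg.Agent.J2Sylow.BalAll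
end

-- part: J2Sylow/CentA
section
set_option autoImplicit false

/-! The structure of `C(a)`, `a ∈ E1 - U`, in the J2-type case. -/

namespace Cfsg.Agent.J2Sylow.CentA

open Subgroup Model E1Fusion E1J2 VaSub Cfsg Cfsg.Agent.Lib
open scoped commutatorElement

variable {G : Type*} [Group G] {h : Setup G} {a c : G}

/-- `C(a)` as a subgroup -/
abbrev Ca (a : G) : Subgroup G := centralizer ({a} : Set G)

theorem hyp [Finite G] (hf : Fused h) (hJ : J2 h) (ha : a ∈ h.E1) (haU : a ∉ h.U)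
    (hr : Rot h a c) :
    CentAbs.Hyp (h.E1.subgroupOf (Ca a)) ((Va h a).subgroupOf (Ca a)) (h.U.subgroupOf (Ca a)) := by
  have hEC := E1_le_centralizer h ha
  have hUC : h.U ≤ Ca a := (BasicA.U_le_E1 h).trans hEC
  refine ⟨?_, odd_relIndex h hf hJ ha haU, ?_, ?_, ?_, ?_, ?_, ?_, ?_⟩
  · intro x hx
    exact Subtype.ext (BasicA.E1_sq h hx)
  · rw [← BasicA.card_U h]
    exact Nat.card_congr (subgroupOfEquivOfLe hUC).toEquiv
  · exact subgroupOf_mono _ Va_le
  · exact subgroupOf_mono _ (BasicA.U_le_E1 h)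
  · rw [eq_bot_iff]
    intro x hx
    have h1 : (x : G) ∈ Va h a ⊓ h.U := hx
    rw [hr.inf_U hf hJ ha haU, mem_bot] at h1
    exact mem_bot.mpr (Subtype.ext h1)
  · intro x hx
    obtain ⟨u, hu, y, hy, hxy⟩ := hr.exists_mul hf hJ ha haU hx
    exact ⟨⟨u, hUC hu⟩, hu, ⟨y, hEC (Va_le hy)⟩, hy, Subtype.ext hxy⟩
  · intro v hv g hg
    exact Subtype.ext (Rot.iso hf hJ ha haU hv (mem_centralizer_singleton_iff.mp g.2) hg)
  · refine ⟨⟨c, mem_centralizer_singleton_iff.mpr hr.na.comm⟩, ?_, ?_⟩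
    · intro u hu
      exact nrm_U hf hJ hr.na.nrm _ hu
    · intro u hu huc
      have h1 : c * (u : G) * c⁻¹ = u := congrArg Subtype.val huc
      have h2 : (u : G) ∈ Va h a ⊓ h.U := ⟨(hr.mem_Va_iff hf hJ ha haU).mpr
        ⟨BasicA.U_le_E1 h hu, by rwa [mul_inv_eq_iff_eq_mul] at h1⟩, hu⟩
      rw [hr.inf_U hf hJ ha haU, mem_bot] at h2
      exact Subtype.ext h2

theorem mem_core {x : G} (hx : x ∈ Ca a) :
    x ∈ centralizerPPrimeCore 2 a ↔ (⟨x, hx⟩ : Ca a) ∈ pPrimeCore 2 (Ca a) := by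
  constructor
  · rintro ⟨y, hy, hyx⟩
    have : y = ⟨x, hx⟩ := Subtype.ext hyx
    rwa [← this]
  · intro h1
    exact ⟨_, h1, rfl⟩

/-- `Va` is central in `C(a)` modulo `O(C(a))`. -/
theorem central [Finite G] (hf : Fused h) (hJ : J2 h) (ha : a ∈ h.E1) (haU : a ∉ h.U)
    (hr : Rot h a c) {v g : G} (hv : v ∈ Va h a) (hg : g * a = a * g) :
    v * g * v⁻¹ * g⁻¹ ∈ centralizerPPrimeCore 2 a := by
  have hvC : v ∈ Ca a := E1_le_centralizer h ha (Va_le hv)
  have hgC : g ∈ Ca a := mem_centralizer_singleton_iff.mpr hg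
  have h1 := CentAbs.commutator_mem (hyp hf hJ ha haU hr) (v := ⟨v, hvC⟩) hv ⟨g, hgC⟩
  exact ⟨_, h1, rfl⟩

theorem central' [Finite G] (hf : Fused h) (hJ : J2 h) (ha : a ∈ h.E1) (haU : a ∉ h.U)
    (hr : Rot h a c) {v g : G} (hv : v ∈ Va h a) (hg : g * a = a * g) :
    g * v * g⁻¹ * v⁻¹ ∈ centralizerPPrimeCore 2 a := by
  have h1 := inv_mem (central hf hJ ha haU hr hv hg)
  have h2 : (v * g * v⁻¹ * g⁻¹)⁻¹ = g * v * g⁻¹ * v⁻¹ := by group
  rwa [h2] at h1

/-- the involutions of `C(a)` are conjugate in `C(a)` to elements of `E1`. -/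
theorem conj_mem_E1 [Finite G] (hf : Fused h) (hJ : J2 h) (ha : a ∈ h.E1) (haU : a ∉ h.U)
    {t : G} (ht : orderOf t = 2) (hta : t * a = a * t) :
    ∃ g, g * a = a * g ∧ g * t * g⁻¹ ∈ h.E1 := by
  have hp : IsPGroup 2 (zpowers t) := by
    rw [IsPGroup.iff_card, Nat.card_zpowers, ht]
    exact ⟨1, rfl⟩
  obtain ⟨d, hd, hdt⟩ := exists_conj_le (zpowers t) (Ca a) h.E1 hp
    (by rw [zpowers_le]; exact mem_centralizer_singleton_iff.mpr hta)
    (odd_relIndex h hf hJ ha haU)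
  exact ⟨d, mem_centralizer_singleton_iff.mp hd, hdt t (mem_zpowers t)⟩

end Cfsg.Agent.J2Sylow.CentA
end

-- part: J2Sylow/CentPSL
section
set_option autoImplicit false

/-! Identification of `L` by the Gorenstein-Walter theorem (S0483). -/

namespace Cfsg.Agent.J2Sylow.CentPSL

open Subgroup Cfsg Cfsg.Agent.Lib CentAbs
open scoped commutatorElement

universe u

/-- the statement S0483 -/
def GW : Prop := ∀ (X : Type u) [Group X] [Finite X] [Group.IsPerfect X] (S : Sylow 2 X) (n : ℕ),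
  2 ≤ n → Nonempty ((S : Subgroup X) ≃* DihedralGroup n) →
    (∃ (F : Type) (_ : Field F) (_ : Fintype F), Odd (Fintype.card F) ∧ 3 < Fintype.card F ∧
        Nonempty (X ⧸ Cfsg.oddCore X ≃* Matrix.ProjectiveSpecialLinearGroup (Fin 2) F)) ∨
      Nonempty (X ⧸ Cfsg.oddCore X ≃* alternatingGroup (Fin 7))

theorem perfect_of {W : Type u} [Group W] {L : Subgroup W} (hL : ⁅L, L⁆ = L) :
    Group.IsPerfect L := by
  refine ⟨?_⟩
  apply Subgroup.map_injective L.subtype_injective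
  rw [commutator_def, map_commutator]
  simp only [← MonoidHom.range_eq_map, range_subtype]
  exact hL

theorem exists_psl (gw : GW.{u}) {W : Type u} [Group W] [Finite W] {V U X L : Subgroup W}
    (hC : Concl V U X L) (hLL : ⁅L, L⁆ = L)
    (hmin : ∀ M : Subgroup W, M.Normal → M ≤ L → M = ⊥ ∨ M = L) :
    ∃ (F : Type) (_ : Field F) (_ : Fintype F), Odd (Fintype.card F) ∧ 3 < Fintype.card F ∧
        Nonempty (L ≃* Matrix.ProjectiveSpecialLinearGroup (Fin 2) F) := by
  have : Fact (Nat.Prime 2) := ⟨Nat.prime_two⟩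
  have hperf : Group.IsPerfect L := perfect_of hLL
  have hcard : Nat.card (U.subgroupOf L) = 4 := by
    rw [← hC.cardU]
    exact Nat.card_congr (subgroupOfEquivOfLe hC.Ule).toEquiv
  have hodd : Odd (U.relIndex L) := by
    have h1 := relIndex_mul_relIndex U L X hC.Ule hC.le
    have h2 := hC.oddU
    rw [← h1] at h2
    exact (Nat.odd_mul.mp h2).1
  have hUp : IsPGroup 2 (U.subgroupOf L) := IsPGroup.of_card (n := 2) (by rw [hcard]; norm_num)
  have hUi : ¬ 2 ∣ (U.subgroupOf L).index := fun hd =>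
    (Nat.not_even_iff_odd.mpr hodd) (even_iff_two_dvd.mpr hd)
  let S : Sylow 2 L := hUp.toSylow hUi
  have hK4 : IsKleinFour (U.subgroupOf L) := by
    refine ⟨hcard, ?_⟩
    have hnt : Nontrivial (U.subgroupOf L) := Finite.one_lt_card_iff_nontrivial.mp (by
      rw [hcard]; norm_num)
    apply Monoid.exponent_eq_prime_iff Nat.prime_two |>.mpr
    intro g hg
    apply orderOf_eq_prime _ hg
    rw [pow_two]
    exact Subtype.ext (Subtype.ext (hC.sqU _ g.2))
  have hS : Nonempty ((U.subgroupOf L : Subgroup L) ≃* DihedralGroup 2) :=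
    IsKleinFour.nonempty_mulEquiv
  have hcore : oddCore L = ⊥ := by
    have h1 : ((pPrimeCore 2 L).map L.subtype).Normal := by
      rw [Cores.map_subtype_pPrimeCore 2 hC.Lnormal]
      have := hC.Lnormal
      have := Cores.pPrimeCore_normal (G := W) 2
      infer_instance
    rcases hmin _ h1 (map_subtype_le _) with h2 | h2
    · exact (Subgroup.map_eq_bot_iff_of_injective _ L.subtype_injective).mp h2
    · exfalso
      have h3 : Nat.card ((pPrimeCore 2 L).map L.subtype) = Nat.card (pPrimeCore 2 L) :=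
        (Nat.card_congr ((pPrimeCore 2 L).equivMapOfInjective L.subtype
          L.subtype_injective).toEquiv).symm
      rw [h2] at h3
      have h4 := Cores.pPrimeCore_coprime (G := L) 2
      rw [← h3] at h4
      have h5 : 4 ∣ Nat.card L := hC.cardU ▸ Subgroup.card_dvd_of_le hC.Ule
      have h6 : ¬ 2 ∣ Nat.card L := (Nat.Prime.coprime_iff_not_dvd Nat.prime_two).mp h4.symm
      exact h6 ((by norm_num : (2 : ℕ) ∣ 4).trans h5)
  have e0 : L ⧸ oddCore L ≃* L :=
    (QuotientGroup.quotientMulEquivOfEq hcore).trans QuotientGroup.quotientBot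
  rcases gw L S 2 le_rfl hS with ⟨F, hF, hFt, h1, h2, ⟨e⟩⟩ | he
  · exact ⟨F, hF, hFt, h1, h2, ⟨e0.symm.trans e⟩⟩
  · exfalso
    obtain ⟨e⟩ := he
    have h1 : Nat.card L = 2520 := by
      rw [Nat.card_congr (e0.symm.trans e).toEquiv, nat_card_alternatingGroup,
        Nat.card_eq_fintype_card, Fintype.card_fin]
      rfl
    have h2 := Subgroup.card_mul_index (U.subgroupOf L)
    rw [hcard, h1] at h2
    have h3 : (U.subgroupOf L).index = 630 := by omega
    apply hUi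
    rw [h3]
    norm_num

end Cfsg.Agent.J2Sylow.CentPSL
end

-- part: J2Sylow/TabA
section
set_option autoImplicit false

/-! The fields `c3`, `d3`, `cen`, `star` of `Tab`, and `std_of_le`. -/

namespace Cfsg.Agent.J2Sylow.TabA

open Subgroup Model Model.F4 E1Fusion E1J2 VaSub Twist Cfsg Cfsg.Agent.Lib

universe u'

variable {G : Type u'} [Group G] {h : Setup G}

theorem mem_Va_iff [Finite G] (hf : Fused h) (hJ : J2 h) (hs : Std h) {y : G} :
    y ∈ Va h h.a ↔ ∃ x : F4, y = h.el x o := by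
  constructor
  · intro hy
    obtain ⟨x, c, rfl⟩ := exists_el (Va_le hy)
    obtain ⟨d, h1, h2⟩ := hs
    have hr := rot_of_std h1 h2
    have h3 := (Va h h.a).mul_mem hy (el_mem_Va hf hJ ⟨d, h1, h2⟩ x)
    rw [el_mul, F4_add_o] at h3
    have h4 : x + x = (o : F4) := F4.add_self x
    rw [h4] at h3
    have h5 : h.el o c ∈ Va h h.a ⊓ h.U := ⟨h3, el_mem_U.mpr rfl⟩
    rw [hr.inf_U hf hJ a_mem a_notMem, mem_bot, ← el_one (h := h)] at h5
    exact ⟨x, by rw [(el_inj h5).2]⟩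
  · rintro ⟨x, rfl⟩
    exact el_mem_Va hf hJ hs x

theorem cen [Finite G] (hf : Fused h) (hJ : J2 h) (hs : Std h) (g : G) (hg : g * h.a = h.a * g)
    (x : F4) : g * h.el x o * g⁻¹ * (h.el x o)⁻¹ ∈ KK h.a := by
  obtain ⟨c, h1, h2⟩ := hs
  exact CentA.central' hf hJ a_mem a_notMem (rot_of_std h1 h2) (el_mem_Va hf hJ ⟨c, h1, h2⟩ x) hg

/-- an element of odd order normalising `U` and centralising `z` centralises `U`. -/
theorem cent_U_of_odd {d : G} {n : ℕ} (hn : Odd n) (hdn : d ^ n = 1)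
    (hdz : d * h.z = h.z * d) (hdU : Nrm h.U d) : ∀ u ∈ h.U, d * u * d⁻¹ = u := by
  have hz : d * h.z * d⁻¹ = h.z := by rw [hdz, mul_inv_cancel_right]
  have hv : d * h.v * d⁻¹ = h.v := by
    rcases BasicA.U_cases h (hdU _ (BasicA.v_mem_U h)) with e1 | e1 | e1 | e1
    · exfalso
      apply BasicA.v_ne h
      have : h.v = d⁻¹ * (d * h.v * d⁻¹) * d := by group
      rw [this, e1]; group
    · exfalso
      exact BasicA.v_ne_z h (conj_eq_imp (e1.trans hz.symm))
    · exact e1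
    · exfalso
      have key : ∀ j : ℕ, d ^ j * h.v * (d ^ j)⁻¹ = h.v * h.z ^ j := by
        intro j
        induction j with
        | zero => simp
        | succ j ih =>
          rw [pow_conj_succ, ih]
          have : d * (h.v * h.z ^ j) * d⁻¹ = (d * h.v * d⁻¹) * (d * h.z * d⁻¹) ^ j := by
            rw [conj_pow]; group
          rw [this, e1, hz, pow_succ', mul_assoc]
      have h1 := key n
      obtain ⟨j, rfl⟩ := hn
      rw [hdn, one_mul, inv_one, mul_one, pow_succ, pow_mul, pow_two, BasicA.z_sq h, one_pow,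
        one_mul] at h1
      exact BasicA.z_ne h (left_eq_mul.mp h1)
  intro u hu
  rcases BasicA.U_cases h hu with rfl | rfl | rfl | rfl
  · group
  · exact hz
  · exact hv
  · have : d * (h.v * h.z) * d⁻¹ = (d * h.v * d⁻¹) * (d * h.z * d⁻¹) := by group
    rw [this, hv, hz]

theorem R_triv {r y : G} (hr : r ∈ h.R) (hy : y ∈ h.E1) : r * y * r⁻¹ * y⁻¹ ∈ h.U := by
  obtain ⟨s, hs, rfl⟩ := hr
  obtain ⟨t, ht, rfl⟩ := hy
  rw [← map_mul, ← map_inv, ← map_mul, ← map_inv, ← map_mul]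
  exact (BasicA.mem_map_iff h).mpr (ModelA.R_triv s t hs ht)

theorem ne_facts : (e : F4) ≠ w ∧ (e : F4) ≠ o ∧ (w : F4) ≠ o := by decide

theorem F4_dec : ∀ x : F4, x ≠ o → x ≠ w → x = e ∨ x = u := by decide

theorem d3 [Finite G] (hf : Fused h) (hJ : J2 h) (hc : CZ0 h) (hs : Std h) :
    ∃ d : G, (∀ y : F4, d * h.el o y * d⁻¹ = h.el o y) ∧
      ∀ x : F4, d * h.el x o * d⁻¹ = h.el (w * x) o := by
  obtain ⟨d0, ⟨n, hn, hdn⟩, hdz, -, hdE, hdU, hd⟩ := exists_d h hc.normal hc.quot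
  have hd0U := cent_U_of_odd hn hdn hdz hdU
  have hwU : h.el w o ∉ h.U := by
    rw [el_mem_U]
    exact ne_facts.2.2
  obtain ⟨i, hi⟩ := hd h.a a_mem a_notMem (h.el w o) (el_mem_E1 _ _) hwU
  set d := d0 ^ i with hddef
  have hdn' : d ^ n = 1 := by rw [hddef, ← pow_mul, mul_comm, pow_mul, hdn, one_pow]
  have hdE' : Nrm h.E1 d := hdE.pow i
  have hdU' : ∀ u ∈ h.U, d * u * d⁻¹ = u := by
    intro u hu
    have key : ∀ j : ℕ, d0 ^ j * u * (d0 ^ j)⁻¹ = u := by
      intro j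
      induction j with
      | zero => simp
      | succ j ih => rw [pow_conj_succ, ih, hd0U u hu]
    exact key i
  have ha1 := hdE' _ (a_mem (h := h))
  have ha1U : d * h.a * d⁻¹ ∉ h.U := by
    intro h1
    apply hwU
    have h2 : h.el w o = (d * h.a * d⁻¹ * (h.el w o)⁻¹)⁻¹ * (d * h.a * d⁻¹) := by group
    rw [h2]
    exact h.U.mul_mem (h.U.inv_mem hi) h1
  obtain ⟨r, hr, hra⟩ := BasicA.R_trans h ha1 (el_mem_E1 w o) ha1U hi
  set k := r * d with hk
  have hkE : Nrm h.E1 k := Nrm.mul (fun x hx => BasicA.E1_conj h hx hr) hdE'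
  have hka : k * h.a * k⁻¹ = h.el w o := by
    rw [← hra, hk]; group
  have hkU : ∀ u ∈ h.U, k * u * k⁻¹ = u := by
    intro u hu
    have h1 : k * u * k⁻¹ = r * (d * u * d⁻¹) * r⁻¹ := by rw [hk]; group
    rw [h1, hdU' u hu, ← BasicA.U_comm_R h hu hr, mul_inv_cancel_right]
  obtain ⟨c, h1, h2⟩ := hs
  have hs : Std h := ⟨c, h1, h2⟩
  have hrot := rot_of_std h1 h2
  have hwVa : h.el w o ∈ Va h h.a := el_mem_Va hf hJ hs w
  have hw1 : h.el w o ≠ 1 := fun e1 => hwU (e1 ▸ h.U.one_mem)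
  have hVa : Va h (h.el w o) = Va h h.a := hrot.Va_eq hf hJ a_mem a_notMem hwVa hw1
  have hkV : ∀ x : F4, ∃ y : F4, k * h.el x o * k⁻¹ = h.el y o := by
    intro x
    have h3 := Va_conj hkE (el_mem_Va hf hJ hs x)
    rw [hka, hVa, mem_Va_iff hf hJ hs] at h3
    exact h3
  obtain ⟨x', hx'⟩ := hkV w
  have hx'o : x' ≠ o := by
    rintro rfl
    rw [el_one] at hx'
    apply hw1
    have : h.el w o = k⁻¹ * (k * h.el w o * k⁻¹) * k := by group
    rw [this, hx']; group
  have hx'w : x' ≠ w := by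
    rintro rfl
    have h3 := conj_eq_imp (hx'.trans hka.symm)
    exact ne_facts.1 (el_inj h3).1.symm
  have hx'u : x' = u := by
    rcases F4_dec x' hx'o hx'w with e1 | e1
    · exfalso
      rw [e1] at hx'
      -- k swaps the cosets, hence d does
      have hmod : ∀ y ∈ h.E1, (d * y * d⁻¹) * (k * y * k⁻¹)⁻¹ ∈ h.U := by
        intro y hy
        have h3 := R_triv (h := h) hr (hdE' y hy)
        have h4 := h.U.inv_mem h3
        have h5 : (r * (d * y * d⁻¹) * r⁻¹ * (d * y * d⁻¹)⁻¹)⁻¹ =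
            (d * y * d⁻¹) * (k * y * k⁻¹)⁻¹ := by rw [hk]; group
        rwa [h5] at h4
      have hpres : ∀ x y : G, x * y⁻¹ ∈ h.U → (d * x * d⁻¹) * (d * y * d⁻¹)⁻¹ ∈ h.U := by
        intro x y hxy
        have h3 : (d * x * d⁻¹) * (d * y * d⁻¹)⁻¹ = d * (x * y⁻¹) * d⁻¹ := by group
        rw [h3, hdU' _ hxy]
        exact hxy
      have htrans : ∀ x y z : G, x * y⁻¹ ∈ h.U → y * z⁻¹ ∈ h.U → x * z⁻¹ ∈ h.U := by
        intro x y z hxy hyz
        have h3 : x * z⁻¹ = (x * y⁻¹) * (y * z⁻¹) := by group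
        rw [h3]
        exact h.U.mul_mem hxy hyz
      have hde : (d * h.el e o * d⁻¹) * (h.el w o)⁻¹ ∈ h.U := by
        have h3 := hmod (h.el e o) (el_mem_E1 _ _)
        have h4 : k * h.el e o * k⁻¹ = h.el w o := hka
        rwa [h4] at h3
      have hdw : (d * h.el w o * d⁻¹) * (h.el e o)⁻¹ ∈ h.U := by
        have h3 := hmod (h.el w o) (el_mem_E1 _ _)
        rwa [hx'] at h3
      have key : ∀ j : ℕ, d ^ (2 * j) * h.el e o * (d ^ (2 * j))⁻¹ * (h.el e o)⁻¹ ∈ h.U := by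
        intro j
        induction j with
        | zero =>
          rw [mul_zero, pow_zero, one_mul, inv_one, mul_one, mul_inv_cancel]
          exact h.U.one_mem
        | succ j ih =>
          rw [mul_add, mul_one, show 2 * j + 2 = (2 * j + 1) + 1 from rfl, pow_conj_succ,
            pow_conj_succ]
          have h3 := htrans _ _ _ (hpres _ _ ih) hde
          exact htrans _ _ _ (hpres _ _ h3) hdw
      obtain ⟨j, rfl⟩ := hn
      have h3 := htrans _ _ _ (hpres _ _ (key j)) hde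
      rw [← pow_conj_succ, hdn', one_mul, inv_one, mul_one] at h3
      have h4 : (h.el w o)⁻¹ = h.el w o :=
        inv_eq_of_mul_eq_one_left (BasicA.E1_sq h (el_mem_E1 _ _))
      rw [h4, el_mul, el_mem_U] at h3
      revert h3
      decide
    · exact e1
  rw [hx'u] at hx'
  refine ⟨k, fun y => hkU _ (el_mem_U.mpr rfl), ?_⟩
  intro x
  cases x
  · change k * h.el o o * k⁻¹ = h.el o o
    rw [el_one]; group
  · exact hka
  · exact hx'
  · have h3 : h.el u o = h.el e o * h.el w o := by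
      rw [el_mul, F4_e_w]; rfl
    have h4 : k * (h.el e o * h.el w o) * k⁻¹ = (k * h.el e o * k⁻¹) * (k * h.el w o * k⁻¹) := by
      group
    have h5 : k * h.el e o * k⁻¹ = h.el w o := hka
    rw [h3, h4, h5, hx', el_mul]
    rfl

/-- standardness passes to subgroups. -/
theorem std_of_le [Finite G] {H : Subgroup G} (h2 : Setup H)
    (hcomp : ∀ t, ((h2.φ t : H) : G) = h.φ t) (hf : Fused h) (hJ : J2 h) (hs : Std h)
    (hf2 : Fused h2) (hc2 : CZ0 h2) : Std h2 := by
  have hel : ∀ x y : F4, ((h2.el x y : H) : G) = h.el x y := fun x y => hcomp _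
  have hE1 : ∀ g : H, g ∈ h2.E1 ↔ (g : G) ∈ h.E1 := by
    intro g
    constructor
    · rintro ⟨t, ht, rfl⟩
      exact ⟨t, ht, (hcomp t).symm⟩
    · rintro ⟨t, ht, hte⟩
      exact ⟨t, ht, Subtype.ext ((hcomp t).trans hte)⟩
  have hU : ∀ g : H, g ∈ h2.U ↔ (g : G) ∈ h.U := by
    intro g
    constructor
    · rintro ⟨t, ht, rfl⟩
      exact ⟨t, ht, (hcomp t).symm⟩
    · rintro ⟨t, ht, hte⟩
      exact ⟨t, ht, Subtype.ext ((hcomp t).trans hte)⟩
  have hz : ((h2.z : H) : G) = h.z := hcomp _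
  have hv : ((h2.v : H) : G) = h.v := hcomp _
  have hJ2 : J2 h2 := by
    intro x hx hxU hxz
    obtain ⟨g, hg⟩ := isConj_iff.mp hxz
    refine hJ x ((hE1 x).mp hx) (fun h1 => hxU ((hU x).mpr h1)) (isConj_iff.mpr ⟨g, ?_⟩)
    have := congrArg Subtype.val hg
    rw [← hz]
    exact this
  obtain ⟨c, hr⟩ := exists_rot hf2 hJ2 hc2 (a := h2.a) a_mem a_notMem
  have hcN : Na h h.a c := by
    refine ⟨?_, ?_⟩
    · have := congrArg Subtype.val hr.na.comm
      have ha : ((h2.a : H) : G) = h.a := hcomp _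
      rw [← ha]
      exact this
    · intro x hx
      obtain ⟨x1, y1, rfl⟩ := exists_el hx
      have h1 := hr.na.nrm (h2.el x1 y1) (el_mem_E1 _ _)
      have h3 := (hE1 _).mp h1
      have h4 : ((c * h2.el x1 y1 * c⁻¹ : H) : G) = c * h.el x1 y1 * (c : G)⁻¹ := by
        rw [← hel]; rfl
      rwa [h4] at h3
  obtain ⟨c', h1, h3⟩ := hs
  have hrot := rot_of_std h1 h3
  refine ⟨c, fun x => ?_, rot_U hr⟩
  have h4 := ((mem_Va.mp (el_mem_Va hf hJ ⟨c', h1, h3⟩ x)).2 c hcN)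
  apply Subtype.ext
  change (c : G) * (h2.el x o : H) * (c : G)⁻¹ = (h2.el x o : H)
  rw [hel, h4, mul_inv_cancel_right]

end Cfsg.Agent.J2Sylow.TabA
end

-- part: J2Sylow/Star
section
set_option autoImplicit false

/-! The field `star` of `Tab`. -/

namespace Cfsg.Agent.J2Sylow.Star

open Subgroup Model Model.F4 E1Fusion E1J2 VaSub Twist Cfsg Cfsg.Agent.Lib CentA

universe u'

variable {G : Type u'} [Group G] {h : Setup G}

theorem star_aux (gw : CentPSL.GW.{u'}) [Finite G] (hf : Fused h) (hJ : J2 h) {a c : G}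
    (ha : a ∈ h.E1) (haU : a ∉ h.U) (hrot : Rot h a c) {r : ℕ} (hr : r.Prime) (hr2 : r ≠ 2)
    (D : Subgroup G) (hD : IsPGroup r D) (hDa : ∀ x ∈ D, x * a = a * x)
    (hDU : ∀ y ∈ h.U, ∀ x ∈ D, y * x * y⁻¹ ∈ D) :
    ∃ y ∈ h.U, y ≠ 1 ∧ ∀ x ∈ D, y * x * y⁻¹ * x⁻¹ ∈ KK a := by
  have hUC : h.U ≤ Ca a := (BasicA.U_le_E1 h).trans (E1_le_centralizer h ha)
  have hDC : D ≤ Ca a := fun x hx => mem_centralizer_singleton_iff.mpr (hDa x hx)
  obtain ⟨X, L, hC⟩ := CentAbs.main (hyp hf hJ ha haU hrot)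
  have hOn := Cores.pPrimeCore_normal (G := Ca a) 2
  set O := pPrimeCore 2 (Ca a) with hO
  set π := QuotientGroup.mk' O with hπ
  set U' := (h.U.subgroupOf (Ca a)).map π with hU'
  set D' := (D.subgroupOf (Ca a)).map π with hD'
  have hD'p : IsPGroup r D' := (hD.comap_of_injective _ (Ca a).subtype_injective).map _
  have hn : ∀ y ∈ U', ∀ x ∈ D', y * x * y⁻¹ ∈ D' := by
    rintro _ ⟨y, hy, rfl⟩ _ ⟨x, hx, rfl⟩
    refine ⟨y * x * y⁻¹, hDU _ hy _ hx, ?_⟩
    rw [map_mul, map_mul, map_inv]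
  suffices hmain : ∃ y ∈ U', y ≠ 1 ∧ ∀ x ∈ D', y * x * y⁻¹ = x by
    obtain ⟨_, ⟨y, hy, rfl⟩, hy1, hyx⟩ := hmain
    refine ⟨y, hy, ?_, ?_⟩
    · intro h1
      apply hy1
      have h2 : y = 1 := Subtype.ext h1
      rw [h2, map_one]
    · intro x hx
      have h1 := hyx (π ⟨x, hDC hx⟩) ⟨_, hx, rfl⟩
      have h2 : π (y * ⟨x, hDC hx⟩ * y⁻¹ * (⟨x, hDC hx⟩ : Ca a)⁻¹) = 1 := by
        rw [map_mul, map_mul, map_mul, map_inv, map_inv, h1, mul_inv_cancel]
      rw [hπ, QuotientGroup.mk'_apply, QuotientGroup.eq_one_iff] at h2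
      exact ⟨_, h2, rfl⟩
  have hU'4 : Nat.card U' = 4 := hC.cardU
  rcases hC.type with ⟨-, -, hUn, -⟩ | ⟨hLL, hmin⟩
  · have hnt : Nontrivial U' := Finite.one_lt_card_iff_nontrivial.mp (by rw [hU'4]; norm_num)
    obtain ⟨⟨y, hy⟩, hy1⟩ := exists_ne (1 : U')
    refine ⟨y, hy, fun h1 => hy1 (Subtype.ext h1), ?_⟩
    intro x hx
    have hinf : D' ⊓ U' = ⊥ := by
      apply Disjoint.eq_bot
      apply disjoint_of_coprime_natCard
      have : Fact r.Prime := ⟨hr⟩
      obtain ⟨k, hk⟩ := IsPGroup.iff_card.mp hD'p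
      rw [hk, hU'4]
      apply Nat.Coprime.pow_left
      have h2 : Nat.Coprime r 2 := (Nat.coprime_primes hr Nat.prime_two).mpr hr2
      exact Nat.Coprime.pow_right 2 h2
    have h1 : y * x * y⁻¹ * x⁻¹ ∈ D' ⊓ U' := by
      refine mem_inf.mpr ⟨D'.mul_mem (hn y hy x hx) (D'.inv_mem hx), ?_⟩
      have h2 := hUn.conj_mem _ (U'.inv_mem hy) x
      have h3 : y * x * y⁻¹ * x⁻¹ = y * (x * y⁻¹ * x⁻¹) := by group
      rw [h3]
      exact U'.mul_mem hy h2
    rw [hinf, mem_bot, mul_inv_eq_one] at h1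
    exact h1
  · obtain ⟨F, hF, hFt, hFodd, -, ⟨e⟩⟩ := CentPSL.exists_psl gw hC hLL hmin
    have hodd : Odd (U'.relIndex L) := by
      have h1 := relIndex_mul_relIndex U' L X hC.Ule hC.le
      have h2 := hC.oddU
      rw [← h1] at h2
      exact (Nat.odd_mul.mp h2).1
    exact StarPSL.star_psl hFodd L hC.Lnormal e U' hC.Ule hU'4 hC.sqU hodd r hr hr2 D' hD'p hn

theorem star (gw : CentPSL.GW.{u'}) [Finite G] (hf : Fused h) (hJ : J2 h) (hs : Std h) :
    ∀ (r : ℕ), r.Prime → r ≠ 2 → ∀ D : Subgroup G, IsPGroup r D →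
    (∀ x ∈ D, x * h.a = h.a * x) → (∀ y : F4, ∀ x ∈ D, h.el o y * x * (h.el o y)⁻¹ ∈ D) →
    ∃ y : F4, y ≠ o ∧ ∀ x ∈ D, h.el o y * x * (h.el o y)⁻¹ * x⁻¹ ∈ KK h.a := by
  intro r hr hr2 D hD hDa hDU
  obtain ⟨c, h1, h2⟩ := hs
  obtain ⟨y, hy, hy1, hyD⟩ := star_aux gw hf hJ a_mem a_notMem (rot_of_std h1 h2) hr hr2 D hD hDa
    (by
      intro y hy x hx
      obtain ⟨x1, y1, rfl⟩ := exists_el (BasicA.U_le_E1 h hy)
      rw [el_mem_U.mp hy]
      exact hDU y1 x hx)
  obtain ⟨x1, y1, rfl⟩ := exists_el (BasicA.U_le_E1 h hy)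
  have hx1 := el_mem_U.mp hy
  subst hx1
  refine ⟨y1, ?_, hyD⟩
  rintro rfl
  exact hy1 el_one

end Cfsg.Agent.J2Sylow.Star
end

-- part: J2Sylow/Balance
section
set_option autoImplicit false

/-! Balance on `E1` from the `Bal` property. -/

namespace Cfsg.Agent.J2Sylow.Balance

open Subgroup Model Model.F4 E1Fusion E1J2 VaSub Twist Cfsg Cfsg.Agent.Lib CentA

universe u'

/-- the `m = 1` lemma for `PSL2(q)` -/
def MOneStmt : Prop := ∀ (W : Type u') [Group W] [Finite W] (V U X L : Subgroup W),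
  CentAbs.Concl V U X L → (⁅L, L⁆ = L → (∀ M : Subgroup W, M.Normal → M ≤ L → M = ⊥ ∨ M = L) →
    ∃ (F : Type) (_ : Field F) (_ : Fintype F), Odd (Fintype.card F) ∧ 3 < Fintype.card F ∧
      Nonempty (L ≃* Matrix.ProjectiveSpecialLinearGroup (Fin 2) F)) →
  ∀ z1 v1 : W, z1 ∈ U → v1 ∈ U → z1 ≠ 1 → v1 ≠ 1 → z1 ≠ v1 →
  (∀ x ∈ L, x * z1 = z1 * x → v1 * x * v1⁻¹ = x⁻¹ → Odd (orderOf x) → x = 1) →
  centralizer ({z1} : Set W) ⊓ X ≤ U

variable {G : Type u'} [Group G] {h : Setup G}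

/-- lifting of centralisers -/
theorem quot_cent [Finite G] {a : G} (P : Subgroup G) (hP : IsPGroup 2 P) (hPC : P ≤ Ca a)
    (g : Ca a) (hg : ∀ p (hp : p ∈ P), (⟨p, hPC hp⟩ : Ca a)⁻¹ * g⁻¹ * ⟨p, hPC hp⟩ * g ∈
      pPrimeCore 2 (Ca a)) :
    ∃ g' : Ca a, g'⁻¹ * g ∈ pPrimeCore 2 (Ca a) ∧ ∀ p ∈ P, p * (g' : G) = g' * p := by
  have : Fact (Nat.Prime 2) := ⟨Nat.prime_two⟩
  have hOn := Cores.pPrimeCore_normal (G := Ca a) 2
  have hOc := Cores.pPrimeCore_coprime (G := Ca a) 2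
  obtain ⟨g', h1, h2⟩ := SignalizersComponents.CoreOfCentralizer.exists_centralizing_of_quotient
    (p := 2) (P.subgroupOf (Ca a)) (hP.comap_of_injective _ (Ca a).subtype_injective)
    (pPrimeCore 2 (Ca a)) ((Nat.Prime.coprime_iff_not_dvd Nat.prime_two).mp hOc.symm)
    (QuotientGroup.mk' _ g) (by
      intro p hp
      have h1 := hg p hp
      rw [← map_mul, ← map_mul, QuotientGroup.mk'_apply, QuotientGroup.mk'_apply,
        eq_comm, QuotientGroup.eq]
      have h2 : (g * p)⁻¹ * (p * g) = p⁻¹ * g⁻¹ * p * g := by group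
      rw [h2]
      exact h1)
  refine ⟨g', ?_, ?_⟩
  · rw [← QuotientGroup.eq, ← QuotientGroup.mk'_apply, ← QuotientGroup.mk'_apply, h2]
  · intro p hp
    exact congrArg Subtype.val (h1 ⟨p, hPC hp⟩ hp)

/-- the image in `C(a)/O(C(a))` of `K(a') ∩ C(a)`. -/
theorem balance_a (gw : CentPSL.GW.{u'}) (mone : MOneStmt.{u'}) [Finite G] (hf : Fused h)
    (hJ : J2 h) (hs : Std h)
    (htwo : ∀ g : G, g * h.z = h.z * g → g * h.a * g⁻¹ * (h.a)⁻¹ ∈ KK h.z →
      ∃ n : ℕ, g ^ (2 ^ n) ∈ KK h.z)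
    (hbal : ∀ x ∈ KK h.z, (∀ t : F4, x * h.el t o = h.el t o * x) → h.v * x * h.v⁻¹ = x⁻¹ →
      x ∈ KK h.a) {a' : G} (ha' : a' ∈ h.E1) (ha'1 : a' ≠ 1) :
    KK a' ⊓ centralizer {h.a} ≤ KK h.a := by
  have : Fact (Nat.Prime 2) := ⟨Nat.prime_two⟩
  obtain ⟨c, hc1, hc2⟩ := hs
  have hs : Std h := ⟨c, hc1, hc2⟩
  have hrot := rot_of_std hc1 hc2
  have ha := a_mem (h := h)
  have haU := a_notMem (h := h)
  have hEC : h.E1 ≤ Ca h.a := E1_le_centralizer h ha
  have hUC : h.U ≤ Ca h.a := (BasicA.U_le_E1 h).trans hEC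
  have hEp : IsPGroup 2 h.E1 := BasicA.isPGroup_of_le h (BasicA.E1_le_S h)
  obtain ⟨X, L, hC⟩ := CentAbs.main (hyp hf hJ ha haU hrot)
  have hOn := Cores.pPrimeCore_normal (G := Ca h.a) 2
  have hOc := Cores.pPrimeCore_coprime (G := Ca h.a) 2
  set O := pPrimeCore 2 (Ca h.a) with hO
  set π := QuotientGroup.mk' O with hπ
  have hπs : Function.Surjective π := QuotientGroup.mk'_surjective O
  have hπ1 : ∀ g : Ca h.a, π g = 1 ↔ g ∈ O := fun g => by
    rw [hπ, QuotientGroup.mk'_apply, QuotientGroup.eq_one_iff]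
  have hπK : ∀ g (hg : g ∈ Ca h.a), π ⟨g, hg⟩ = 1 ↔ g ∈ KK h.a := fun g hg => by
    rw [hπ1]
    exact (mem_core hg).symm
  set U' := (h.U.subgroupOf (Ca h.a)).map π with hU'
  set V' := ((Va h h.a).subgroupOf (Ca h.a)).map π with hV'
  -- lifting of centralisers
  have hlift : ∀ (P : Subgroup G) (hP : P ≤ h.E1) (w : Ca h.a ⧸ O),
      (∀ p (hp : p ∈ P), π ⟨p, hEC (hP hp)⟩ * w = w * π ⟨p, hEC (hP hp)⟩) →
      ∃ g : Ca h.a, π g = w ∧ ∀ p ∈ P, p * (g : G) = g * p := by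
    intro P hP w hw
    obtain ⟨g, rfl⟩ := hπs w
    obtain ⟨g', h1, h2⟩ := quot_cent P (hEp.to_le hP) (hP.trans hEC) g (by
      intro p hp
      rw [← hO, ← hπ1, map_mul, map_mul, map_mul, map_inv, map_inv]
      have h1 := hw p hp
      rw [mul_assoc, mul_assoc, h1]
      group)
    refine ⟨g', ?_, h2⟩
    rw [← hO, ← hπ1, map_mul, map_inv, inv_mul_eq_one] at h1
    exact h1
  -- the subgroup D
  set D := KK a' ⊓ centralizer {h.a} with hD
  have hDC : D ≤ Ca h.a := inf_le_right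
  have hKa' := SignalizersComponents.CoreOfCentralizer.centralizerPPrimeCore_le 2 a'
  have hDodd : Odd (Nat.card D) :=
    Odd.of_dvd_nat (Functor.K_odd a') (card_dvd_of_le inf_le_left)
  set D' := (D.subgroupOf (Ca h.a)).map π with hD'
  have hD'odd : Odd (Nat.card D') := by
    have h1 : Nat.card D' ∣ Nat.card (D.subgroupOf (Ca h.a)) := card_map_dvd _ _
    have h2 : Nat.card (D.subgroupOf (Ca h.a)) = Nat.card D :=
      Nat.card_congr (subgroupOfEquivOfLe hDC).toEquiv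
    rw [h2] at h1
    exact Odd.of_dvd_nat hDodd h1
  suffices hbot : D' = ⊥ by
    intro x hx
    have h1 : π ⟨x, hDC hx⟩ ∈ D' := ⟨_, hx, rfl⟩
    rw [hbot, mem_bot] at h1
    exact (hπK x (hDC hx)).mp h1
  -- normalised by the centraliser of π a'
  have hD'n : ∀ w : Ca h.a ⧸ O, π ⟨a', hEC ha'⟩ * w = w * π ⟨a', hEC ha'⟩ →
      ∀ x ∈ D', w * x * w⁻¹ ∈ D' := by
    intro w hw
    obtain ⟨g, rfl, hg⟩ := hlift (zpowers a') (by rw [zpowers_le]; exact ha') w (by
      intro p hp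
      obtain ⟨k, rfl⟩ := mem_zpowers_iff.mp hp
      have h1 : π ⟨a' ^ k, hEC (h.E1.zpow_mem ha' k)⟩ = (π ⟨a', hEC ha'⟩) ^ k := by
        rw [← map_zpow]; rfl
      have h2 : π ⟨a' ^ k, hEC (h.E1.zpow_mem ha' k)⟩ * w =
          w * π ⟨a' ^ k, hEC (h.E1.zpow_mem ha' k)⟩ := by
        rw [h1]
        exact (Commute.zpow_left (show Commute (π ⟨a', hEC ha'⟩) w from hw) k).eq
      exact h2)
    rintro _ ⟨x, hx, rfl⟩
    refine ⟨g * x * g⁻¹, ?_, by rw [map_mul, map_mul, map_inv]⟩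
    have hga' : (g : G) ∈ centralizer ({a'} : Set G) :=
      mem_centralizer_singleton_iff.mpr (hg a' (mem_zpowers a')).symm
    have hx1 : (x : G) ∈ KK a' := (mem_inf.mp (show (x : G) ∈ D from hx)).1
    change ((g * x * g⁻¹ : Ca h.a) : G) ∈ D
    exact mem_inf.mpr ⟨Functor.K_conj hga' hx1, (g * x * g⁻¹).2⟩
  obtain ⟨u1, hu1, y, hy, hyu⟩ := hrot.exists_mul hf hJ ha haU ha'
  by_cases hu11 : u1 = 1
  · -- a' in Va: D' is normal
    rw [hu11, one_mul] at hyu
    subst hyu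
    have hD'norm : D'.Normal := ⟨fun x hx w => hD'n w (hC.central _ ⟨_, hy, rfl⟩ w) x hx⟩
    have h1 := Cores.le_pPrimeCore hD'norm (Nat.coprime_two_right.mpr hD'odd)
    rw [Cores.pPrimeCore_quotient_pPrimeCore, le_bot_iff] at h1
    exact h1
  · -- D' ≤ C_X(π u1) ≤ U'
    have hyC : y ∈ Ca h.a := hEC (Va_le hy)
    have hu1C : u1 ∈ Ca h.a := hUC hu1
    have hDX : D' ≤ X := by
      intro x hx
      obtain ⟨v, hv, x0, hx0, hvx⟩ := CentAux.exists_mul_of_mem_sup (H := V') (K := X)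
        (fun a _ k hk => hC.Xnormal.conj_mem k hk a) (by rw [hC.sup]; exact mem_top x)
      -- odd power argument
      have hxodd : Odd (orderOf x) := by
        have h1 : orderOf x ∣ Nat.card D' := by
          rw [← Nat.card_zpowers]
          exact card_dvd_of_le (by rw [zpowers_le]; exact hx)
        exact Odd.of_dvd_nat hD'odd h1
      have hv2 : v * v = 1 := by
        obtain ⟨v0, hv0, rfl⟩ := hv
        rw [← map_mul]
        have h1 : v0 * v0 = 1 := Subtype.ext (BasicA.E1_sq h (Va_le hv0))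
        rw [h1, map_one]
      have hcomm : Commute v x0 := hC.central v hv x0
      have h1 : x ^ orderOf x = v ^ orderOf x * x0 ^ orderOf x := by
        rw [← hcomm.mul_pow, ← hvx]
      have h2 : v ^ orderOf x = v := by
        obtain ⟨j, hj⟩ := hxodd
        rw [hj, pow_succ, pow_mul, pow_two, hv2, one_pow, one_mul]
      rw [pow_orderOf_eq_one, h2] at h1
      have h3 : v ∈ X := by
        have : v = (x0 ^ orderOf x)⁻¹ := (eq_inv_of_mul_eq_one_left h1.symm :)
        rw [this]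
        exact X.inv_mem (X.pow_mem hx0 _)
      rw [hvx]
      exact X.mul_mem h3 hx0
    have hDcent : ∀ x ∈ D', x * π ⟨u1, hu1C⟩ = π ⟨u1, hu1C⟩ * x := by
      rintro _ ⟨x, hx, rfl⟩
      have hx1 : (x : G) ∈ KK a' := (mem_inf.mp (show (x : G) ∈ D from hx)).1
      have h1 : (x : G) * a' = a' * x := mem_centralizer_singleton_iff.mp (hKa' hx1)
      have h2 : x * ⟨a', hEC ha'⟩ = ⟨a', hEC ha'⟩ * x := Subtype.ext h1
      have h3 : (⟨a', hEC ha'⟩ : Ca h.a) = ⟨u1, hu1C⟩ * ⟨y, hyC⟩ := Subtype.ext hyu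
      rw [h3] at h2
      have h4 := congrArg π h2
      simp only [map_mul] at h4
      have h5 := hC.central (π ⟨y, hyC⟩) ⟨_, hy, rfl⟩ (π x)
      rw [mul_assoc _ _ (π x), h5, ← mul_assoc, ← mul_assoc] at h4
      exact mul_right_cancel h4
    -- the m = 1 lemma for z
    have hzC : h.z ∈ Ca h.a := hUC (BasicA.z_mem_U h)
    have hvC : h.v ∈ Ca h.a := hUC (BasicA.v_mem_U h)
    have hinjU : ∀ x (hx : x ∈ h.U), π ⟨x, hUC hx⟩ = 1 → x = 1 := by
      intro x hx h1
      rw [hπK] at h1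
      have h2 : x ∈ KK h.a ⊓ h.U := ⟨h1, hx⟩
      have h3 : KK h.a ⊓ h.U = ⊥ := by
        apply Disjoint.eq_bot
        apply disjoint_of_coprime_natCard
        rw [BasicA.card_U]
        exact Nat.Coprime.pow_right 2
          (SignalizersComponents.CoreOfCentralizer.card_centralizerPPrimeCore_coprime 2 h.a)
      rw [h3, mem_bot] at h2
      exact h2
    have hzU : centralizer ({π ⟨h.z, hzC⟩} : Set (Ca h.a ⧸ O)) ⊓ X ≤ U' := by
      refine mone _ V' U' X L hC (fun h1 h2 => CentPSL.exists_psl gw hC h1 h2) _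
        (π ⟨h.v, hvC⟩) ⟨⟨h.z, hzC⟩, BasicA.z_mem_U h, rfl⟩ ⟨⟨h.v, hvC⟩, BasicA.v_mem_U h, rfl⟩
        (fun h1 => BasicA.z_ne h (hinjU _ (BasicA.z_mem_U h) h1))
        (fun h1 => BasicA.v_ne h (hinjU _ (BasicA.v_mem_U h) h1)) ?_ ?_
      · intro h1
        have h2 : π ⟨h.v * h.z, hUC (h.U.mul_mem (BasicA.v_mem_U h) (BasicA.z_mem_U h))⟩ = 1 := by
          have h3 : (⟨h.v * h.z, hUC (h.U.mul_mem (BasicA.v_mem_U h) (BasicA.z_mem_U h))⟩ :
            Ca h.a) = ⟨h.v, hvC⟩ * ⟨h.z, hzC⟩ := rfl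
          rw [h3, map_mul, h1, ← map_mul]
          have h4 : (⟨h.v, hvC⟩ : Ca h.a) * ⟨h.v, hvC⟩ = 1 := Subtype.ext (BasicA.v_sq h)
          rw [h4, map_one]
        exact vz_ne_one (h := h)
          (hinjU _ (h.U.mul_mem (BasicA.v_mem_U h) (BasicA.z_mem_U h)) h2)
      · intro xb hxb hxz hxv hxodd
        have hxX := hC.le hxb
        -- P = Va ⊔ <z>
        obtain ⟨x0, hx0, hx0P⟩ := hlift (Va h h.a ⊔ zpowers h.z)
          (sup_le Va_le (by rw [zpowers_le]; exact BasicA.U_le_E1 h (BasicA.z_mem_U h))) xb (by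
            intro p hp
            obtain ⟨v, hv, q, hq, rfl⟩ := CentAux.exists_mul_of_mem_sup (by
              intro a2 ha2 k hk
              have hkE : k ∈ h.E1 := by
                have : zpowers h.z ≤ h.E1 := by
                  rw [zpowers_le]; exact BasicA.U_le_E1 h (BasicA.z_mem_U h)
                exact this hk
              rw [BasicA.E1_comm h (Va_le ha2) hkE, mul_inv_cancel_right]
              exact hk) hp
            obtain ⟨k, rfl⟩ := mem_zpowers_iff.mp hq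
            have hvE := Va_le hv
            have h1 : ∀ (hh : v * h.z ^ k ∈ Ca h.a), π ⟨v * h.z ^ k, hh⟩ =
                π ⟨v, hEC hvE⟩ * (π ⟨h.z, hzC⟩) ^ k := by
              intro hh
              rw [← map_zpow, ← map_mul]
              rfl
            rw [h1]
            have h2 := hC.central (π ⟨v, hEC hvE⟩) ⟨_, hv, rfl⟩ xb
            have h3 : Commute ((π ⟨h.z, hzC⟩) ^ k) xb :=
              Commute.zpow_left (show Commute (π ⟨h.z, hzC⟩) xb from hxz.symm) k
            rw [mul_assoc, h3.eq, ← mul_assoc, h2, mul_assoc])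
        have hx0z : (x0 : G) * h.z = h.z * x0 :=
          (hx0P _ ((le_sup_right : zpowers h.z ≤ _) (mem_zpowers h.z))).symm
        have hx0V : ∀ t : F4, (x0 : G) * h.el t o = h.el t o * x0 := fun t =>
          (hx0P _ ((le_sup_left : Va h h.a ≤ _) (el_mem_Va hf hJ hs t))).symm
        -- the odd group N
        let N : Subgroup G := ((zpowers xb).comap π).map (Ca h.a).subtype ⊓
          centralizer ((Va h h.a ⊔ zpowers h.z : Subgroup G) : Set G)
        have hNodd : Odd (Nat.card N) := by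
          have h1 : Nat.card N ∣ Nat.card (((zpowers xb).comap π).map (Ca h.a).subtype) :=
            card_dvd_of_le inf_le_left
          have h2 : Nat.card (((zpowers xb).comap π).map (Ca h.a).subtype) =
              Nat.card ((zpowers xb).comap π) :=
            (Nat.card_congr (((zpowers xb).comap π).equivMapOfInjective _
              (Ca h.a).subtype_injective).toEquiv).symm
          have h3 : Nat.card ((zpowers xb).comap π) = Nat.card (zpowers xb) * Nat.card O := by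
            rw [hπ]
            exact SolvableNormalP.card_comap_mk O (zpowers xb)
          rw [h2, h3, Nat.card_zpowers] at h1
          exact Odd.of_dvd_nat (hxodd.mul (Nat.coprime_two_right.mp hOc)) h1
        have hx0N : (x0 : G) ∈ N := by
          refine mem_inf.mpr ⟨⟨x0, ?_, rfl⟩, ?_⟩
          · change π x0 ∈ zpowers xb
            rw [hx0]
            exact mem_zpowers xb
          · rw [mem_centralizer_iff]
            intro p hp
            exact hx0P p hp
        have hvN : ∀ x ∈ N, h.v * x * h.v⁻¹ ∈ N := by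
          rintro x hx
          obtain ⟨⟨x1, hx1, rfl⟩, hx2⟩ := mem_inf.mp hx
          refine mem_inf.mpr ⟨⟨⟨h.v, hvC⟩ * x1 * ⟨h.v, hvC⟩⁻¹, ?_, rfl⟩, ?_⟩
          · change π (⟨h.v, hvC⟩ * x1 * ⟨h.v, hvC⟩⁻¹) ∈ zpowers xb
            rw [map_mul, map_mul, map_inv]
            obtain ⟨k, hk⟩ := mem_zpowers_iff.mp (show π x1 ∈ zpowers xb from hx1)
            rw [← hk, ← conj_zpow, hxv]
            exact zpow_mem (inv_mem (mem_zpowers xb)) k
          · rw [mem_centralizer_iff] at hx2 ⊢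
            intro p hp
            have hpE : p ∈ h.E1 := (sup_le Va_le (by
              rw [zpowers_le]; exact BasicA.U_le_E1 h (BasicA.z_mem_U h)) :
                Va h h.a ⊔ zpowers h.z ≤ h.E1) hp
            have h1 := hx2 p hp
            have h2 := BasicA.E1_comm h hpE (BasicA.U_le_E1 h (BasicA.v_mem_U h))
            have h3 : p * h.v⁻¹ = h.v⁻¹ * p := by
              rw [eq_inv_mul_iff_mul_eq, ← mul_assoc, ← h2, mul_inv_cancel_right]
            calc p * (h.v * (x1 : G) * h.v⁻¹) = (p * h.v) * x1 * h.v⁻¹ := by group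
              _ = h.v * (p * x1) * h.v⁻¹ := by rw [h2]; group
              _ = h.v * x1 * (p * h.v⁻¹) := by
                rw [show p * (x1 : G) = x1 * p from h1]; group
              _ = h.v * (x1 : G) * h.v⁻¹ * p := by rw [h3]; group
        obtain ⟨s, hs1, t, ht1, hsv, htv, hst⟩ :=
          KleinGen.exists_centralizer_mul_inverted N hNodd h.v (BasicA.v_sq h) hvN hx0N
        obtain ⟨⟨s1, hs2, rfl⟩, -⟩ := mem_inf.mp hs1
        obtain ⟨⟨t1, ht2, rfl⟩, ht3⟩ := mem_inf.mp ht1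
        have hps : π s1 = 1 := by
          obtain ⟨k, hk⟩ := mem_zpowers_iff.mp (show π s1 ∈ zpowers xb from hs2)
          have h1 : π ⟨h.v, hvC⟩ * π s1 * (π ⟨h.v, hvC⟩)⁻¹ = (π s1)⁻¹ := by
            rw [← hk, ← conj_zpow, hxv, inv_zpow]
          have h2 : (⟨h.v, hvC⟩ : Ca h.a) * s1 = s1 * ⟨h.v, hvC⟩ := Subtype.ext hsv
          have h3 : π ⟨h.v, hvC⟩ * π s1 * (π ⟨h.v, hvC⟩)⁻¹ = π s1 := by
            rw [← map_mul, h2, map_mul, mul_inv_cancel_right]
          have h4 : (π s1) ^ 2 = 1 := by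
            rw [pow_two]
            nth_rewrite 1 [← h3]
            rw [h1, inv_mul_cancel]
          have h5 : orderOf (π s1) ∣ orderOf xb := by
            rw [← hk]
            apply orderOf_dvd_of_pow_eq_one
            rw [← zpow_natCast, ← zpow_mul, mul_comm, zpow_mul, zpow_natCast, pow_orderOf_eq_one,
              one_zpow]
          have h6 : orderOf (π s1) ∣ 1 := by
            rw [← Nat.Coprime.gcd_eq_one (Nat.coprime_two_left.mpr hxodd)]
            exact Nat.dvd_gcd (orderOf_dvd_of_pow_eq_one h4) h5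
          rwa [Nat.dvd_one, orderOf_eq_one_iff] at h6
        have hxt : xb = π t1 := by
          have h1 : x0 = s1 * t1 := Subtype.ext hst
          rw [← hx0, h1, map_mul, hps, one_mul]
        -- t1 in K(z)
        rw [mem_centralizer_iff] at ht3
        have htz : (t1 : G) * h.z = h.z * t1 :=
          (ht3 _ ((le_sup_right : zpowers h.z ≤ _) (mem_zpowers h.z))).symm
        have htV : ∀ t : F4, (t1 : G) * h.el t o = h.el t o * t1 := fun t =>
          (ht3 _ ((le_sup_left : Va h h.a ≤ _) (el_mem_Va hf hJ hs t))).symm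
        have htodd : Odd (orderOf (t1 : G)) := by
          have h1 : orderOf (t1 : G) ∣ Nat.card N := by
            rw [← Nat.card_zpowers]
            exact card_dvd_of_le (by rw [zpowers_le]; exact ht1)
          exact Odd.of_dvd_nat hNodd h1
        have htK : (t1 : G) ∈ KK h.z := by
          obtain ⟨n, hn⟩ := htwo t1 htz (by
            have h1 : (t1 : G) * h.a * (t1 : G)⁻¹ * h.a⁻¹ = 1 := by
              have h2 := htV e
              rw [el_a] at h2
              rw [h2]; group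
            rw [h1]
            exact one_mem _)
          obtain ⟨q, hq⟩ := exists_pow_eq_self_of_coprime (x := (t1 : G)) (n := 2 ^ n)
            (Nat.Coprime.pow_left n (Nat.coprime_two_left.mpr htodd))
          rw [← hq]
          exact pow_mem hn q
        have htKa := hbal t1 htK htV htv
        rw [hxt]
        exact (hπK _ t1.2).mpr htKa
    have hall : ∀ u2 (hu2 : u2 ∈ h.U), u2 ≠ 1 →
        centralizer ({π ⟨u2, hUC hu2⟩} : Set (Ca h.a ⧸ O)) ⊓ X ≤ U' := by
      have hcC : c ∈ Ca h.a := mem_centralizer_singleton_iff.mpr hrot.na.comm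
      have hcUn := nrm_U hf hJ hrot.na.nrm
      have step : ∀ u2 (hu2 : u2 ∈ h.U),
          centralizer ({π ⟨u2, hUC hu2⟩} : Set (Ca h.a ⧸ O)) ⊓ X ≤ U' →
          centralizer ({π ⟨c * u2 * c⁻¹, hUC (hcUn u2 hu2)⟩} : Set (Ca h.a ⧸ O)) ⊓ X ≤ U' := by
        intro u2 hu2 hle x hx
        have hx1 := mem_centralizer_singleton_iff.mp (mem_inf.mp hx).1
        have hx2 := (mem_inf.mp hx).2
        have h1 : (⟨c * u2 * c⁻¹, hUC (hcUn u2 hu2)⟩ : Ca h.a) =
            ⟨c, hcC⟩ * ⟨u2, hUC hu2⟩ * ⟨c, hcC⟩⁻¹ := rfl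
        rw [h1, map_mul, map_mul, map_inv] at hx1
        have h2 : (π ⟨c, hcC⟩)⁻¹ * x * π ⟨c, hcC⟩ ∈
            centralizer ({π ⟨u2, hUC hu2⟩} : Set (Ca h.a ⧸ O)) ⊓ X := by
          refine mem_inf.mpr ⟨?_, ?_⟩
          · rw [mem_centralizer_singleton_iff]
            calc (π ⟨c, hcC⟩)⁻¹ * x * π ⟨c, hcC⟩ * π ⟨u2, hUC hu2⟩
                = (π ⟨c, hcC⟩)⁻¹ * (x * (π ⟨c, hcC⟩ * π ⟨u2, hUC hu2⟩ * (π ⟨c, hcC⟩)⁻¹)) *
                    π ⟨c, hcC⟩ := by group
              _ = _ := by rw [hx1]; group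
          · have h3 := hC.Xnormal.conj_mem x hx2 (π ⟨c, hcC⟩)⁻¹
            rwa [inv_inv] at h3
        obtain ⟨y2, hy2, hyx⟩ := hle h2
        refine ⟨⟨c, hcC⟩ * y2 * ⟨c, hcC⟩⁻¹, hcUn _ hy2, ?_⟩
        rw [map_mul, map_mul, map_inv, hyx]
        group
      have key : ∀ u2 (hu2 : u2 ∈ h.U) u3 (hu3 : u3 ∈ h.U), u2 = u3 →
          centralizer ({π ⟨u2, hUC hu2⟩} : Set (Ca h.a ⧸ O)) ⊓ X ≤ U' →
          centralizer ({π ⟨u3, hUC hu3⟩} : Set (Ca h.a ⧸ O)) ⊓ X ≤ U' := by
        rintro u2 hu2 _ hu3 rfl hle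
        exact hle
      have hz1 := hzU
      have hv1 := key _ (hcUn _ (BasicA.z_mem_U h)) h.v (BasicA.v_mem_U h) hrot.z
        (step _ (BasicA.z_mem_U h) hz1)
      have hvz1 := key _ (hcUn _ (BasicA.v_mem_U h)) (h.v * h.z)
        (h.U.mul_mem (BasicA.v_mem_U h) (BasicA.z_mem_U h)) hrot.v
        (step _ (BasicA.v_mem_U h) hv1)
      intro u2 hu2 hu21
      rcases BasicA.U_cases h hu2 with e1 | e1 | e1 | e1
      · exact absurd e1 hu21
      · exact key _ (BasicA.z_mem_U h) _ hu2 e1.symm hz1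
      · exact key _ (BasicA.v_mem_U h) _ hu2 e1.symm hv1
      · exact key _ (h.U.mul_mem (BasicA.v_mem_U h) (BasicA.z_mem_U h)) _ hu2 e1.symm hvz1
    have hDU : D' ≤ U' := by
      intro x hx
      exact hall u1 hu1 hu11 (mem_inf.mpr ⟨mem_centralizer_singleton_iff.mpr (hDcent x hx),
        hDX hx⟩)
    have h1 : Nat.card D' ∣ 4 := by
      have h2 : Nat.card U' = 4 := hC.cardU
      rw [← h2]
      exact card_dvd_of_le hDU
    have h2 : Nat.card D' = 1 := by
      have h3 : Nat.Coprime (Nat.card D') 4 :=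
        Nat.Coprime.pow_right 2 (Nat.coprime_two_right.mpr hD'odd)
      exact Nat.Coprime.eq_one_of_dvd h3 h1
    exact card_eq_one.mp h2

/-- balance on `E1` for all elements of `E1 - U`. -/
theorem balance (gw : CentPSL.GW.{u'}) (mone : MOneStmt.{u'}) [Finite G] (hf : Fused h)
    (hJ : J2 h) (hs : Std h) (hc : CZ0 h)
    (htwo : ∀ g : G, g * h.z = h.z * g → g * h.a * g⁻¹ * (h.a)⁻¹ ∈ KK h.z →
      ∃ n : ℕ, g ^ (2 ^ n) ∈ KK h.z)
    (hbal : ∀ x ∈ KK h.z, (∀ t : F4, x * h.el t o = h.el t o * x) → h.v * x * h.v⁻¹ = x⁻¹ →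
      x ∈ KK h.a) {a' b : G} (ha' : a' ∈ h.E1) (ha'1 : a' ≠ 1) (hb : b ∈ h.E1) (hbU : b ∉ h.U) :
    KK a' ⊓ centralizer {b} ≤ KK b := by
  obtain ⟨k, -, hkE, -, hkb⟩ := trans_E1 h hc.normal hc.quot hb hbU a_mem a_notMem
  intro x hx
  obtain ⟨hx1, hx2⟩ := mem_inf.mp hx
  have h1 := Functor.K_map k a' hx1
  have h2 : k * x * k⁻¹ ∈ centralizer ({h.a} : Set G) := by
    rw [mem_centralizer_singleton_iff, ← hkb]
    have h3 := mem_centralizer_singleton_iff.mp hx2
    calc k * x * k⁻¹ * (k * b * k⁻¹) = k * (x * b) * k⁻¹ := by group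
      _ = k * (b * x) * k⁻¹ := by rw [h3]
      _ = _ := by group
  have h3 : k * a' * k⁻¹ ≠ 1 := by
    intro h4
    apply ha'1
    have : a' = k⁻¹ * (k * a' * k⁻¹) * k := by group
    rw [this, h4]; group
  have h4 := balance_a gw mone hf hJ hs htwo hbal (hkE a' ha') h3 (mem_inf.mpr ⟨h1, h2⟩)
  have h5 := Functor.K_map k⁻¹ h.a h4
  have h6 : k⁻¹ * (k * x * k⁻¹) * k⁻¹⁻¹ = x := by group
  have h7 : k⁻¹ * h.a * k⁻¹⁻¹ = b := by rw [← hkb]; group
  rwa [h6, h7] at h5

end Cfsg.Agent.J2Sylow.Balance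
end

-- part: J2Sylow/MOne
section
set_option autoImplicit false

/-!
# The centralizer of `z₁` when no odd element is inverted

`W = C/O(C)` as in `CentAbs.Concl`.  If no element of odd order of `C_L(z₁)` is inverted by `v₁`
then `C_X(z₁) = U`.
-/

namespace Cfsg.Agent.J2Sylow.MOne

open Subgroup Cfsg Cfsg.Agent.Lib
open scoped commutatorElement

universe u

/-- A group of order four and exponent two. -/
theorem four_cases {G : Type*} [Group G] {U : Subgroup G} (hU : Nat.card U = 4)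
    (hsq : ∀ x ∈ U, x * x = 1) {z v : G} (hz : z ∈ U) (hv : v ∈ U) (hz1 : z ≠ 1) (hv1 : v ≠ 1)
    (hzv : z ≠ v) {x : G} (hx : x ∈ U) : x = 1 ∨ x = z ∨ x = v ∨ x = z * v := by
  by_contra hcon
  push Not at hcon
  obtain ⟨h1, h2, h3, h4⟩ := hcon
  have hfin : Finite U := Nat.finite_of_card_ne_zero (by rw [hU]; norm_num)
  have hzv1 : z * v ≠ 1 := fun e => hzv (by
    have h5 : z * v = z * z := by rw [e, hsq z hz]
    exact (mul_left_cancel h5).symm)
  have hzvz : z * v ≠ z := fun e => hv1 (mul_eq_left.mp e)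
  have hzvv : z * v ≠ v := fun e => hz1 (mul_eq_right.mp e)
  have h5 : ({1, z, v, z * v, x} : Set G) ⊆ (U : Set G) := by
    rintro y (rfl | rfl | rfl | rfl | rfl)
    · exact U.one_mem
    · exact hz
    · exact hv
    · exact U.mul_mem hz hv
    · exact hx
  have h6 : ({1, z, v, z * v, x} : Set G).ncard = 5 := by
    rw [Set.ncard_insert_of_notMem, Set.ncard_insert_of_notMem, Set.ncard_eq_three.mpr
      ⟨v, z * v, x, hzvv.symm, fun e => h3 e.symm, fun e => h4 e.symm, rfl⟩]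
    · rintro (e | e | e)
      · exact hzv e
      · exact hzvz e.symm
      · exact h2 e.symm
    · rintro (e | e | e | e)
      · exact hz1 e.symm
      · exact hv1 e.symm
      · exact hzv1 e.symm
      · exact h1 e.symm
  have h7 := Set.ncard_le_ncard h5 (Set.toFinite _)
  rw [h6] at h7
  have h8 : (U : Set G).ncard = 4 := hU
  omega

/-- If no element of odd order of `C(z)` is inverted by `v`, then `|C(z)| = 4`. -/
theorem card_centralizer_four {G : Type*} [Group G] [Finite G] {U : Subgroup G}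
    (hU : Nat.card U = 4) (hsq : ∀ x ∈ U, x * x = 1) (hodd : Odd U.index)
    (hself : centralizer (U : Set G) ≤ U) {z v : G} (hz : z ∈ U) (hv : v ∈ U) (hz1 : z ≠ 1)
    (hv1 : v ≠ 1) (hzv : z ≠ v)
    (hno : ∀ x, x * z = z * x → v * x * v⁻¹ = x⁻¹ → Odd (orderOf x) → x = 1) :
    centralizer ({z} : Set G) ≤ U := by
  have : Fact (Nat.Prime 2) := ⟨Nat.prime_two⟩
  have hcomm : ∀ x ∈ U, ∀ y ∈ U, x * y = y * x := by
    intro x hx y hy
    have hi : ∀ z ∈ U, z⁻¹ = z := fun z hz => inv_eq_of_mul_eq_one_left (hsq z hz)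
    have h1 := hi _ (U.mul_mem hx hy)
    rw [mul_inv_rev, hi x hx, hi y hy] at h1
    exact h1.symm
  set D := centralizer ({z} : Set G) with hD
  have hUD : U ≤ D := by
    intro x hx
    rw [hD, mem_centralizer_singleton_iff]
    exact hcomm x hx z hz
  have hPc : Nat.card (U.subgroupOf D) = 4 := by
    rw [← hU]; exact Nat.card_congr (subgroupOfEquivOfLe hUD).toEquiv
  have hPp : IsPGroup 2 (U.subgroupOf D) := IsPGroup.of_card (n := 2) (by rw [hPc]; norm_num)
  have hPi : ¬ 2 ∣ (U.subgroupOf D).index := by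
    intro h
    have h1 := relIndex_mul_index hUD
    rw [← h1] at hodd
    exact (Nat.not_even_iff_odd.mpr (Nat.odd_mul.mp hodd).1) (even_iff_two_dvd.mpr h)
  let P : Sylow 2 D := hPp.toSylow hPi
  have hPval : (P : Subgroup D) = U.subgroupOf D := rfl
  have hcen : ∀ k : G, k * z = z * k → k * v = v * k → k ∈ U := by
    intro k hkz hkv
    apply hself
    rw [mem_centralizer_iff]
    intro y hy
    rcases four_cases hU hsq hz hv hz1 hv1 hzv hy with rfl | rfl | rfl | rfl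
    · rw [mul_one, one_mul]
    · exact hkz.symm
    · exact hkv.symm
    · rw [mul_assoc, ← hkv, ← mul_assoc, ← hkz, mul_assoc]
  have hN : normalizer ((P : Subgroup D) : Set D) ≤ centralizer ((P : Subgroup D) : Set D) := by
    intro n hn
    have hnv : (n : G) * v * (n : G)⁻¹ ∈ U := by
      have h1 : (⟨v, hUD hv⟩ : D) ∈ (P : Subgroup D) := by
        rw [hPval, mem_subgroupOf]; exact hv
      have h2 := (mem_normalizer_iff.mp hn _).mp h1
      rw [hPval, mem_subgroupOf] at h2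
      exact h2
    have hnz : (n : G) * z = z * n := mem_centralizer_singleton_iff.mp n.2
    have hnz' : (n : G) * z * (n : G)⁻¹ = z := by rw [hnz]; group
    have hnU : (n : G) ∈ U := by
      by_cases h3 : (n : G) * v * (n : G)⁻¹ = v
      · refine hcen _ hnz ?_
        calc (n : G) * v = (n : G) * v * (n : G)⁻¹ * n := by group
          _ = v * n := by rw [h3]
      · have h4 : (n : G) * v * (n : G)⁻¹ = z * v := by
          rcases four_cases hU hsq hz hv hz1 hv1 hzv hnv with h | h | h | h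
          · exfalso
            apply hv1
            have : v = (n : G)⁻¹ * ((n : G) * v * (n : G)⁻¹) * n := by group
            rw [this, h]; group
          · exfalso
            apply hzv
            have h5 : v = (n : G)⁻¹ * ((n : G) * v * (n : G)⁻¹) * n := by group
            rw [h5, h, mul_assoc, ← hnz]; group
          · exact absurd h h3
          · exact h
        -- n ^ 2 ∈ U
        have h6 : (n : G) * n ∈ U := by
          apply hcen
          · rw [mul_assoc, hnz, ← mul_assoc, hnz, mul_assoc]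
          · have h7 : (n : G) * n * v * ((n : G) * n)⁻¹ = v := by
              calc (n : G) * n * v * ((n : G) * n)⁻¹ = n * (n * v * (n : G)⁻¹) * (n : G)⁻¹ := by
                    group
                _ = n * (z * v) * (n : G)⁻¹ := by rw [h4]
                _ = (n * z * (n : G)⁻¹) * (n * v * (n : G)⁻¹) := by group
                _ = z * (z * v) := by rw [hnz', h4]
                _ = v := by rw [← mul_assoc, hsq z hz, one_mul]
            exact mul_inv_eq_iff_eq_mul.mp h7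
        have h8 : (n : G) ^ 4 = 1 := by
          have := hsq _ h6
          rw [← this, show (4 : ℕ) = 2 + 2 by norm_num, pow_add, pow_two]
        have h9 : IsPGroup 2 (zpowers n) := by
          refine IsPGroup.of_card (n := (Nat.card (zpowers n)).factorization 2) ?_
          rw [Nat.card_zpowers]
          have h10 : orderOf n ∣ 2 ^ 2 := orderOf_dvd_of_pow_eq_one (Subtype.ext (by
            rw [coe_pow]; exact h8))
          obtain ⟨k, -, hk⟩ := (Nat.dvd_prime_pow Nat.prime_two).mp h10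
          rw [hk, Nat.Prime.factorization_pow Nat.prime_two]
          simp
        have h11 := h9.inf_normalizer_sylow P
        have h12 : n ∈ zpowers n ⊓ (P : Subgroup D) := h11.le ⟨mem_zpowers n, hn⟩
        exact mem_subgroupOf.mp h12.2
    rw [mem_centralizer_iff]
    intro y hy
    exact Subtype.ext (hcomm _ (mem_subgroupOf.mp hy) _ hnU)
  set K := (MonoidHom.transferSylow P hN).ker with hK
  have hcomp := MonoidHom.ker_transferSylow_isComplement' P hN
  have hKodd : ¬ 2 ∣ Nat.card K := MonoidHom.not_dvd_card_ker_transferSylow P hN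
  have hKn : K.Normal := MonoidHom.normal_ker _
  have hvD : v ∈ D := hUD hv
  let φ : K →* K := (MulAut.conjNormal (⟨v, hvD⟩ : D) : MulAut K).toMonoidHom
  have hφ : ∀ k : K, ((φ k : D) : G) = v * (k : D) * v⁻¹ := fun k => rfl
  have hfpf : MonoidHom.FixedPointFree φ := by
    intro k hk
    have h1 : v * ((k : D) : G) * v⁻¹ = (k : D) := by rw [← hφ, hk]
    have h2 : ((k : D) : G) ∈ U := by
      apply hcen
      · exact mem_centralizer_singleton_iff.mp (k : D).2
      · symm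
        calc v * ((k : D) : G) = v * (k : D) * v⁻¹ * v := by group
          _ = (k : D) * v := by rw [h1]
    have h3 : (k : D) ∈ K ⊓ (P : Subgroup D) := ⟨k.2, mem_subgroupOf.mpr h2⟩
    rw [hcomp.disjoint.eq_bot, mem_bot] at h3
    exact Subtype.ext h3
  have hinv : Function.Involutive φ := by
    intro k
    apply Subtype.ext
    apply Subtype.ext
    rw [hφ, hφ]
    have h4 : v * v = 1 := hsq v hv
    have h5 : v⁻¹ = v := inv_eq_of_mul_eq_one_left h4
    rw [h5]
    calc v * (v * ((k : D) : G) * v) * v = (v * v) * ((k : D) : G) * (v * v) := by group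
      _ = (k : D) := by rw [h4, one_mul, mul_one]
  have h13 := hfpf.coe_eq_inv_of_involutive hinv
  have hKbot : K = ⊥ := by
    rw [eq_bot_iff]
    intro k hk
    rw [mem_bot]
    apply Subtype.ext
    apply hno
    · exact mem_centralizer_singleton_iff.mp k.2
    · have h14 : φ ⟨k, hk⟩ = (⟨k, hk⟩ : K)⁻¹ := congrFun h13 _
      have h15 := hφ ⟨k, hk⟩
      rw [h14] at h15
      exact h15.symm
    · have h16 : orderOf (k : G) ∣ Nat.card K := by
        have h17 : orderOf (⟨k, hk⟩ : K) ∣ Nat.card K := _root_.orderOf_dvd_natCard _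
        rw [← Subgroup.orderOf_coe, ← Subgroup.orderOf_coe] at h17
        exact h17
      rcases Nat.even_or_odd (orderOf (k : G)) with h | h
      · exact absurd ((even_iff_two_dvd.mp h).trans h16) hKodd
      · exact h
  have htop : (P : Subgroup D) = ⊤ := by
    have hcomp' : K.IsComplement' (P : Subgroup D) := hcomp
    rw [hKbot] at hcomp'
    exact isComplement'_bot_left.mp hcomp'
  rw [hPval, subgroupOf_eq_top] at htop
  exact htop

theorem card_mul_relIndex_aux {G : Type*} [Group G] {U X : Subgroup G} (h : U ≤ X) :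
    Nat.card U * U.relIndex X = Nat.card X := by
  rw [← Nat.card_congr (subgroupOfEquivOfLe h).toEquiv]
  exact card_mul_index _

/-- `PSL₂(q)` with a self-centralizing four-group as centralizer of an involution has order `60`
and five Sylow 2-subgroups. -/
theorem psl_sixty {F : Type*} [Field F] [Fintype F] (hodd : Odd (Fintype.card F))
    (hcard : 3 < Fintype.card F)
    (P : Sylow 2 (Matrix.ProjectiveSpecialLinearGroup (Fin 2) F))
    (hP : IsMulCommutative (P : Subgroup (Matrix.ProjectiveSpecialLinearGroup (Fin 2) F)))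
    {a : Matrix.ProjectiveSpecialLinearGroup (Fin 2) F} (ha : orderOf a = 2)
    (hc : Nat.card (centralizer ({a} : Set (Matrix.ProjectiveSpecialLinearGroup (Fin 2) F))) = 4) :
    Nat.card (Matrix.ProjectiveSpecialLinearGroup (Fin 2) F) = 60 ∧
      Nat.card (Sylow 2 (Matrix.ProjectiveSpecialLinearGroup (Fin 2) F)) = 5 := by
  have h2' : Fact (Nat.Prime 2) := ⟨Nat.prime_two⟩
  have h2 : (2 : F) ≠ 0 := Cfsg.Agent.ClassicalGeometry.SLTwoFour.two_ne_zero_of_odd hodd
  have h8 := TwoFusion.PSLTwoGood.mod_eight hodd P hP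
  have h3 := TwoFusion.PSLTwoGood.card_centralizer hodd ha
  rw [hc] at h3
  have hq : Fintype.card F = 5 := by
    rcases h8 with h | h
    · rw [Cfsg.Agent.ClassicalGeometry.SLTwoFour.card_circle_three (by omega)] at h3
      omega
    · rw [Cfsg.Agent.ClassicalGeometry.SLTwoFour.card_circle_one (by omega)] at h3
      omega
  have h4 := Cfsg.Agent.ClassicalGeometry.PSL2Basic.card_PSL2_odd F hodd
  rw [hq] at h4
  have h5 : Nat.card (Matrix.ProjectiveSpecialLinearGroup (Fin 2) F) = 60 := by omega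
  refine ⟨h5, ?_⟩
  have hk : ∀ Q : Sylow 2 (Matrix.ProjectiveSpecialLinearGroup (Fin 2) F),
    IsKleinFour (Q : Subgroup (Matrix.ProjectiveSpecialLinearGroup (Fin 2) F)) :=
    fun Q => Cfsg.Agent.S0276.result rfl h8 Q
  have h1 : Nat.card {V : Subgroup (Matrix.ProjectiveSpecialLinearGroup (Fin 2) F) //
      IsKleinFour V} = Nat.card (Sylow 2 (Matrix.ProjectiveSpecialLinearGroup (Fin 2) F)) := by
    symm
    refine Nat.card_congr (Equiv.ofBijective (fun Q =>
      ⟨(Q : Subgroup (Matrix.ProjectiveSpecialLinearGroup (Fin 2) F)), hk Q⟩) ⟨?_, ?_⟩)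
    · intro Q R h
      exact Sylow.ext (congrArg Subtype.val h)
    · rintro ⟨V, hV⟩
      have hVc : Nat.card V = 4 := IsKleinFour.card_four
      have hVp : IsPGroup 2 V := IsPGroup.of_card (n := 2) hVc
      obtain ⟨Q, hQ⟩ := hVp.exists_le_sylow
      refine ⟨Q, Subtype.ext ?_⟩
      have := hk Q
      exact (Subgroup.eq_of_le_of_card_ge hQ (by
        rw [hVc]
        exact (IsKleinFour.card_four (G := (Q : Subgroup
          (Matrix.ProjectiveSpecialLinearGroup (Fin 2) F)))).le)).symm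
  have h6 := Cfsg.Agent.ClassicalGeometry.PSL2Klein.card_klein (F := F) h2
  rw [h1, h5] at h6
  omega

/-- If no element of odd order of `C_L(z₁)` is inverted by `v₁` then `C_X(z₁) ≤ U`. -/
theorem cent_le_U {W : Type u} [Group W] [Finite W] {V U X L : Subgroup W}
    (hC : CentAbs.Concl V U X L)
    (hpsl : ⁅L, L⁆ = L → (∀ M : Subgroup W, M.Normal → M ≤ L → M = ⊥ ∨ M = L) →
      ∃ (F : Type) (_ : Field F) (_ : Fintype F), Odd (Fintype.card F) ∧ 3 < Fintype.card F ∧
        Nonempty (L ≃* Matrix.ProjectiveSpecialLinearGroup (Fin 2) F))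
    {z1 v1 : W} (hz : z1 ∈ U) (hv : v1 ∈ U) (hz1 : z1 ≠ 1) (hv1 : v1 ≠ 1) (hzv : z1 ≠ v1)
    (hno : ∀ x ∈ L, x * z1 = z1 * x → v1 * x * v1⁻¹ = x⁻¹ → Odd (orderOf x) → x = 1) :
    centralizer ({z1} : Set W) ⊓ X ≤ U := by
  have : Fact (Nat.Prime 2) := ⟨Nat.prime_two⟩
  rcases hC.type with ⟨hLX, hL12, hUn, hUc⟩ | ⟨hperf, hmin⟩
  · -- |X| = 12
    subst hLX
    have hUcomm : U ≤ centralizer ({z1} : Set W) ⊓ L := by
      intro x hx
      refine ⟨?_, hC.Ule hx⟩
      refine mem_centralizer_singleton_iff.mpr ?_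
      exact CentAbs.comm_of_sq hC.sqU hx hz
    set E := centralizer ({z1} : Set W) ⊓ L with hE
    have h1 : Nat.card E ∣ 12 := hL12 ▸ Subgroup.card_dvd_of_le inf_le_right
    have h2 : 4 ∣ Nat.card E := hC.cardU ▸ Subgroup.card_dvd_of_le hUcomm
    have h3 : Nat.card E ≠ 12 := by
      intro h
      have h4 : E = L := Subgroup.eq_of_le_of_card_ge inf_le_right (by rw [h, hL12])
      obtain ⟨c, hcX, hc1, hc2⟩ := hC.conj
      rw [← h4] at hcX
      have h5 := mem_centralizer_singleton_iff.mp hcX.1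
      exact hz1 (hc2 z1 hz (by rw [h5]; group))
    have h4 : Nat.card E = 4 := by
      obtain ⟨k, hk⟩ := h2
      have hk3 : k ∣ 3 := by
        obtain ⟨m, hm⟩ := h1
        rw [hk] at hm
        exact ⟨m, by linarith only [hm]⟩
      rcases (Nat.dvd_prime Nat.prime_three).mp hk3 with rfl | rfl
      · omega
      · omega
    exact (Subgroup.eq_of_le_of_card_ge hUcomm (by rw [h4, hC.cardU])).ge
  · obtain ⟨F, _, _, hFodd, hFcard, ⟨e⟩⟩ := hpsl hperf hmin
    have hLfin : Finite L := inferInstance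
    set UL : Subgroup L := U.subgroupOf L with hUL
    have hULcard : Nat.card UL = 4 := by
      rw [← hC.cardU]
      exact Nat.card_congr (subgroupOfEquivOfLe hC.Ule).toEquiv
    have hULsq : ∀ x ∈ UL, x * x = 1 := fun x hx =>
      Subtype.ext (hC.sqU _ (mem_subgroupOf.mp hx))
    have hULodd : Odd UL.index := by
      have h1 := relIndex_mul_relIndex U L X hC.Ule hC.le
      have h2 := hC.oddU
      rw [← h1] at h2
      exact (Nat.odd_mul.mp h2).1
    have hUp : IsPGroup 2 UL := IsPGroup.of_card (n := 2) (by rw [hULcard]; norm_num)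
    have hUi : ¬ 2 ∣ UL.index := fun hd =>
      (Nat.not_even_iff_odd.mpr hULodd) (even_iff_two_dvd.mpr hd)
    let S : Sylow 2 L := hUp.toSylow hUi
    have hSval : (S : Subgroup L) = UL := rfl
    let S' : Sylow 2 (Matrix.ProjectiveSpecialLinearGroup (Fin 2) F) :=
      S.mapSurjective (f := e.toMonoidHom) e.surjective
    have hS'val : (S' : Subgroup _) = (S : Subgroup L).map e.toMonoidHom := rfl
    have hS'c : IsMulCommutative (S' : Subgroup (Matrix.ProjectiveSpecialLinearGroup (Fin 2) F)) := by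
      refine ⟨⟨?_⟩⟩
      rintro ⟨_, ⟨x, hx, rfl⟩⟩ ⟨_, ⟨y, hy, rfl⟩⟩
      apply Subtype.ext
      change e x * e y = e y * e x
      rw [← map_mul, ← map_mul]
      congr 1
      exact Subtype.ext (CentAbs.comm_of_sq hC.sqU (mem_subgroupOf.mp hx) (mem_subgroupOf.mp hy))
    have hgood := (TwoFusion.PSLTwoGood.good_psl hFodd S' hS'c).of_mulEquiv e
    have hself : centralizer (UL : Set L) ≤ UL := hgood.selfc S
    set zL : L := ⟨z1, hC.Ule hz⟩ with hzL
    set vL : L := ⟨v1, hC.Ule hv⟩ with hvL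
    have hcentL : centralizer ({zL} : Set L) ≤ UL := by
      refine card_centralizer_four hULcard hULsq hULodd hself (z := zL) (v := vL)
        (mem_subgroupOf.mpr hz) (mem_subgroupOf.mpr hv) (fun h => hz1 (congrArg Subtype.val h))
        (fun h => hv1 (congrArg Subtype.val h)) (fun h => hzv (congrArg Subtype.val h)) ?_
      intro x h1 h2 h3
      apply Subtype.ext
      exact hno x x.2 (congrArg Subtype.val h1) (congrArg Subtype.val h2)
        (by rwa [Subgroup.orderOf_coe])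
    have hzUL : zL ∈ UL := mem_subgroupOf.mpr hz
    have hcard4 : Nat.card (centralizer ({zL} : Set L)) = 4 := by
      rw [← hULcard]
      congr 1
      have : UL ≤ centralizer ({zL} : Set L) := by
        intro x hx
        rw [mem_centralizer_singleton_iff]
        exact Subtype.ext (CentAbs.comm_of_sq hC.sqU (mem_subgroupOf.mp hx)
          (mem_subgroupOf.mp hzUL))
      rw [le_antisymm hcentL this]
    have hzord : orderOf zL = 2 := orderOf_eq_prime (by rw [pow_two]; exact hULsq _ hzUL)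
      (fun h => hz1 (congrArg Subtype.val h))
    have hcard4' : Nat.card (centralizer ({e zL} :
        Set (Matrix.ProjectiveSpecialLinearGroup (Fin 2) F))) = 4 := by
      rw [← TwoFusion.PSLTwoGood.centralizer_map_equiv e zL, ← hcard4]
      exact Subgroup.card_map_of_injective e.injective
    obtain ⟨h60, h5⟩ := psl_sixty hFodd hFcard S' hS'c (a := e zL)
      (by rw [MulEquiv.orderOf_eq, hzord]) hcard4'
    have hL60 : Nat.card L = 60 := by rw [← h60]; exact Nat.card_congr e.toEquiv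
    -- the action of `W` on the five Sylow 2-subgroups
    have := hC.Lnormal
    let φ : W →* Equiv.Perm (Sylow 2 (Matrix.ProjectiveSpecialLinearGroup (Fin 2) F)) :=
      (MulAction.toPermHom (MulAut (Matrix.ProjectiveSpecialLinearGroup (Fin 2) F))
        (Sylow 2 (Matrix.ProjectiveSpecialLinearGroup (Fin 2) F))).comp
        ((MulAut.congr e).toMonoidHom.comp MulAut.conjNormal)
    have hφL : ∀ l : L, ∀ Q : Sylow 2 (Matrix.ProjectiveSpecialLinearGroup (Fin 2) F),
        φ l Q = (e l) • Q := by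
      intro l Q
      change (MulAut.congr e (MulAut.conjNormal (l : W))) • Q = _
      rw [Sylow.smul_def]
      congr 1
      ext x
      change e ((MulAut.conjNormal (l : W)) (e.symm x)) = _
      rw [MulAut.conjNormal_val, MulAut.conj_apply, map_mul, map_mul, map_inv, e.apply_symm_apply,
        MulAut.conj_apply]
    have hkL : φ.ker ⊓ L = ⊥ := by
      rcases hmin (φ.ker ⊓ L) (by infer_instance) inf_le_right with h | h
      · exact h
      · exfalso
        have h7 : ∀ Q R : Sylow 2 (Matrix.ProjectiveSpecialLinearGroup (Fin 2) F), Q = R := by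
          intro Q R
          obtain ⟨g, hg⟩ := MulAction.exists_smul_eq
            (Matrix.ProjectiveSpecialLinearGroup (Fin 2) F) Q R
          rw [← hg, ← e.apply_symm_apply g, ← hφL]
          have h8 : ((e.symm g : L) : W) ∈ φ.ker ⊓ L := by rw [h]; exact (e.symm g).2
          rw [MonoidHom.mem_ker.mp h8.1]
          rfl
        have h9 : Subsingleton (Sylow 2 (Matrix.ProjectiveSpecialLinearGroup (Fin 2) F)) := ⟨h7⟩
        have h10 : Nat.card (Sylow 2 (Matrix.ProjectiveSpecialLinearGroup (Fin 2) F)) ≤ 1 :=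
          Finite.card_le_one_iff_subsingleton.mpr h9
        omega
    have hXn := hC.Xnormal
    have hkX : φ.ker ⊓ X = ⊥ := by
      rw [eq_bot_iff, ← hC.cent]
      rintro k ⟨hk1, hk2⟩
      refine ⟨?_, hk2⟩
      refine mem_centralizer_iff.mpr ?_
      intro l hl
      have h11 : k * l * k⁻¹ * l⁻¹ ∈ φ.ker ⊓ L := by
        constructor
        · have : k * l * k⁻¹ * l⁻¹ = k * (l * k⁻¹ * l⁻¹) := by group
          rw [this]
          exact φ.ker.mul_mem hk1 ((MonoidHom.normal_ker φ).conj_mem _ (φ.ker.inv_mem hk1) l)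
        · exact L.mul_mem (hC.Lnormal.conj_mem l hl k) (L.inv_mem hl)
      rw [hkL, mem_bot] at h11
      have h12 : k * l * k⁻¹ = l := mul_inv_eq_one.mp h11
      symm
      calc k * l = k * l * k⁻¹ * k := by group
        _ = l * k := by rw [h12]
    have hinj : Function.Injective (φ.comp X.subtype) := by
      rw [injective_iff_map_eq_one]
      intro x hx
      have : (x : W) ∈ φ.ker ⊓ X := ⟨hx, x.2⟩
      rw [hkX, mem_bot] at this
      exact Subtype.ext this
    have hX120 : Nat.card X ∣ 120 := by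
      have h13 := Subgroup.card_dvd_of_injective _ hinj
      rw [Nat.card_perm, h5] at h13
      exact h13
    have hX60 : 60 ∣ Nat.card X := hL60 ▸ Subgroup.card_dvd_of_le hC.le
    have hXne : Nat.card X ≠ 120 := by
      intro h
      have h14 := card_mul_relIndex_aux (hC.Ule.trans hC.le)
      rw [hC.cardU, h] at h14
      have h15 := hC.oddU
      obtain ⟨k, hk⟩ := h15
      omega
    have hXeq : Nat.card X = 60 := by
      obtain ⟨k, hk⟩ := hX60
      have hk2 : k ∣ 2 := by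
        obtain ⟨m, hm⟩ := hX120
        rw [hk] at hm
        exact ⟨m, by linarith only [hm]⟩
      rcases (Nat.dvd_prime Nat.prime_two).mp hk2 with rfl | rfl
      · omega
      · omega
    have hLX : L = X := Subgroup.eq_of_le_of_card_ge hC.le (by rw [hXeq, hL60])
    rintro x ⟨hx1, hx2⟩
    rw [← hLX] at hx2
    have h16 : (⟨x, hx2⟩ : L) ∈ centralizer ({zL} : Set L) := by
      rw [mem_centralizer_singleton_iff]
      exact Subtype.ext (mem_centralizer_singleton_iff.mp hx1)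
    exact mem_subgroupOf.mp (hcentL h16)

end Cfsg.Agent.J2Sylow.MOne
end

-- part: J2Sylow/TabAll
section
set_option autoImplicit false

/-! The balance property for all groups of J2-type (step (4) of S1776), final form. -/

namespace Cfsg.Agent.J2Sylow.TabAll

open Subgroup Model Model.F4 E1Fusion E1J2 VaSub Twist Cfsg

universe u

theorem cz0_of {G : Type u} [Group G] {h : Setup G} (c : CentZ h) : CZ0 h := ⟨c.normal, c.quot⟩

/-- all the facts -/
theorem tab_of (gw : CentPSL.GW.{u}) {G : Type u} [Group G] [Finite G] {h : Setup G}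
    (F : Fused h) (hs : Std h) (hn : ¬ IsConj h.z h.a) (c : CentZ h) : Tab h := by
  have hc := cz0_of c
  have hJ : J2 h := (J2_iff hc).mpr hn
  exact { nconj := hn, cls := TabZ.tab_cls h F, zz := TabZ.tab_zz h F hn,
          za := TabZ.tab_za h F c hn, c3 := hs, d3 := TabA.d3 F hJ hc hs,
          two := TabZ.tab_two h c, cen := fun g hg => TabA.cen F hJ hs g hg,
          star := Star.star gw F hJ hs }

/-- **The balance property, `r`-part.** -/
theorem bal_r (hSF : Functor.SolvFun.{u}) (hFT : Functor.OddSolv.{u}) (hZS : ZNonsing.ZStar.{u})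
    (gw : CentPSL.GW.{u}) {G : Type u} [Group G] [Finite G] {h : Setup G} (F : Fused h)
    (hs : Std h) (hn : ¬ IsConj h.z h.a) {r : ℕ} (hr : r.Prime) (hr2 : r ≠ 2) : Bal r h := by
  refine BalAll.bal_all (fun G _ _ h F hs hn => ?_) (fun G _ _ h F hs hn H h2 hcomp F2 => ?_) hr hr2
    (Nat.card G) G rfl h F hs hn
  · exact ⟨tab_of gw F hs hn (centZ_of hSF hFT hZS h F), cz_of hSF hFT hZS h F⟩
  · have hc := cz0_of (centZ_of hSF hFT hZS h F)
    have hc2 := cz0_of (centZ_of hSF hFT hZS h2 F2)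
    exact TabA.std_of_le h2 hcomp F ((J2_iff hc).mpr hn) hs F2 hc2

/-- from prime powers to all odd orders -/
theorem bal_of_bal_r {G : Type u} [Group G] [Finite G] {h : Setup G}
    (hb : ∀ r : ℕ, r.Prime → r ≠ 2 → Bal r h) :
    ∀ x ∈ KK h.z, (∀ t, x * h.el t o = h.el t o * x) → h.v * x * h.v⁻¹ = x⁻¹ → x ∈ KK h.a := by
  have key : ∀ n : ℕ, ∀ x ∈ KK h.z, orderOf x = n → (∀ t, x * h.el t o = h.el t o * x) →
      h.v * x * h.v⁻¹ = x⁻¹ → x ∈ KK h.a := by
    intro n
    induction n using Nat.recOnPosPrimePosCoprime with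
    | prime_pow p k hp hk =>
      intro x hx hxn hc hv
      have hodd : Odd (orderOf x) := Functor.odd_orderOf_of_mem (Functor.K_odd _) hx
      have hp2 : p ≠ 2 := by
        rintro rfl
        rw [hxn] at hodd
        exact (Nat.not_even_iff_odd.mpr hodd) (Nat.even_pow.mpr ⟨even_two, hk.ne'⟩)
      exact hb p hp hp2 x hx hc hv ⟨k, hxn ▸ pow_orderOf_eq_one x⟩
    | zero =>
      intro x hx hxn
      exact absurd hxn (orderOf_pos x).ne'
    | one =>
      intro x hx hxn hc hv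
      rw [orderOf_eq_one_iff.mp hxn]
      exact one_mem _
    | coprime a b ha hb' hab iha ihb =>
      intro x hx hxn hc hv
      have h1 : orderOf (x ^ b) = a := by
        rw [orderOf_pow, hxn, Nat.gcd_eq_right (Dvd.intro_left a rfl)]
        exact Nat.mul_div_cancel a (by omega)
      have h2 : orderOf (x ^ a) = b := by
        rw [orderOf_pow, hxn, Nat.gcd_eq_right (Dvd.intro b rfl)]
        exact Nat.mul_div_cancel_left b (by omega)
      have hcp : ∀ (m : ℕ) t, x ^ m * h.el t o = h.el t o * x ^ m := fun m t =>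
        ((show Commute x (h.el t o) from hc t).pow_left m)
      have hvp : ∀ m : ℕ, h.v * x ^ m * h.v⁻¹ = (x ^ m)⁻¹ := by
        intro m
        rw [← conj_pow, hv, inv_pow]
      have h3 := iha (x ^ b) ((KK h.z).pow_mem hx b) h1 (hcp b) (hvp b)
      have h4 := ihb (x ^ a) ((KK h.z).pow_mem hx a) h2 (hcp a) (hvp a)
      obtain ⟨s, t, hst⟩ : ∃ s t : ℤ, (b : ℤ) * s + a * t = 1 := by
        have := (Int.isCoprime_iff_gcd_eq_one.mpr (by simpa using hab) : IsCoprime (a : ℤ) b)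
        obtain ⟨s, t, hst⟩ := this
        exact ⟨t, s, by linarith only [hst]⟩
      have h5 : x = (x ^ b) ^ s * (x ^ a) ^ t := by
        rw [← zpow_natCast, ← zpow_natCast, ← zpow_mul, ← zpow_mul, ← zpow_add, hst, zpow_one]
      rw [h5]
      exact (KK h.a).mul_mem ((KK h.a).zpow_mem h3 s) ((KK h.a).zpow_mem h4 t)
  exact fun x hx => key (orderOf x) x hx rfl

/-- **The balance property.** -/
theorem bal_final (hSF : Functor.SolvFun.{u}) (hFT : Functor.OddSolv.{u})
    (hZS : ZNonsing.ZStar.{u}) (gw : CentPSL.GW.{u}) {G : Type u} [Group G] [Finite G]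
    {h : Setup G} (F : Fused h) (hs : Std h) (hn : ¬ IsConj h.z h.a) :
    ∀ x ∈ KK h.z, (∀ t, x * h.el t o = h.el t o * x) → h.v * x * h.v⁻¹ = x⁻¹ → x ∈ KK h.a :=
  bal_of_bal_r fun _ hr hr2 => bal_r hSF hFT hZS gw F hs hn hr hr2

/-- the `m = 1` lemma -/
theorem mone : Balance.MOneStmt.{u} := by
  intro W _ _ V U X L hC hpsl z1 v1 hz hv hz1 hv1 hzv hno
  exact MOne.cent_le_U hC hpsl hz hv hz1 hv1 hzv hno

/-- **Balance on `E1`**, in a group of J2-type. -/
theorem balance_final (hSF : Functor.SolvFun.{u}) (hFT : Functor.OddSolv.{u})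
    (hZS : ZNonsing.ZStar.{u}) (gw : CentPSL.GW.{u}) {G : Type u} [Group G] [Finite G]
    {h : Setup G} (F : Fused h) (hn : ¬ IsConj h.z h.a) {a' b : G} (ha' : a' ∈ h.E1)
    (ha'1 : a' ≠ 1) (hb : b ∈ h.E1) (hbU : b ∉ h.U) : KK a' ⊓ centralizer {b} ≤ KK b := by
  have c := centZ_of hSF hFT hZS h F
  have hc := cz0_of c
  have hJ : J2 h := (J2_iff hc).mpr hn
  obtain ⟨t, hs⟩ := exists_std F hJ hc
  have F' := twist_fused F t
  have hJ' := twist_J2 hJ t
  have hc' := twist_CZ0 hc t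
  have hn' : ¬ IsConj (twist h t).z (twist h t).a := (J2_iff hc').mp hJ'
  have c' := centZ_of hSF hFT hZS (twist h t) F'
  refine Balance.balance (h := twist h t) gw mone F' hJ' hs hc' (TabZ.tab_two _ c')
    (bal_final hSF hFT hZS gw F' hs hn') ?_ ha'1 ?_ ?_
  · rwa [twist_E1]
  · rwa [twist_E1]
  · rwa [twist_U]

end Cfsg.Agent.J2Sylow.TabAll
end

private theorem dce_457aa81a4946 : _root_.True := by
  try have : _root_.True := by simp only [_root_.Cfsg.Agent.J2Sylow.m2.eq_1]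
  try have : _root_.True := by simp only [_root_.Cfsg.Agent.J2Sylow.m1.eq_1]
  exact _root_.True.intro
end

-- part: J2Sylow/MainGW
section
set_option linter.all false
open scoped Cfsg.Agent.FastGrp

-- part: J2Sylow/Simple
section
set_option autoImplicit false

/-!
# Simple groups with a Sylow 2-subgroup of J2 type have the fusion of J2 or J3
-/

namespace Cfsg.Agent.J2Sylow.Setup

open Model Subgroup

variable {G : Type*} [Group G] (h : Setup G)

/-- `S` as a Sylow subgroup. -/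
noncomputable def sylow [Finite G] : Sylow 2 G :=
  IsPGroup.toSylow h.isPGroup_S (by
    have := h.odd_index
    rw [← Nat.not_even_iff_odd, even_iff_two_dvd] at this
    exact this)

include h in
theorem card_dvd [Finite G] : 128 ∣ Nat.card G := by
  rw [← h.card_S]; exact Subgroup.card_subgroup_dvd_card _

include h in
theorem index_ne_two [Finite G] [IsSimpleGroup G] (H : Subgroup G) : H.index ≠ 2 := by
  intro hH
  have hn : H.Normal := normal_of_index_eq_two hH
  have h128 := h.card_dvd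
  rcases hn.eq_bot_or_eq_top with h1 | h1
  · rw [h1, Subgroup.index_bot] at hH
    rw [hH] at h128
    norm_num at h128
  · rw [h1, Subgroup.index_top] at hH
    omega

/-- `z` is not isolated in a simple group. -/
theorem not_isolated [Finite G] [IsSimpleGroup G] :
    ∃ g, g * h.z * g⁻¹ ∈ h.S ∧ g * h.z * g⁻¹ ≠ h.z := by
  by_contra hcon
  push Not at hcon
  obtain ⟨N, hN, hodd, hc⟩ := S0215.result h.sylow h.z
    (h.orderOf_phi_two (by decide) (by decide)) h.z_mem_S hcon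
  have hNbot : N = ⊥ := by
    rcases hN.eq_bot_or_eq_top with h1 | h1
    · exact h1
    · exfalso
      rw [h1, Subgroup.card_top] at hodd
      have h128 := h.card_dvd
      rw [Nat.odd_iff] at hodd
      omega
  have hz : h.z ∈ Subgroup.center G := by
    rw [Subgroup.mem_center_iff]
    intro g
    have h1 := hc g
    rw [hNbot, Subgroup.mem_bot] at h1
    have h2 : h.z * g = g * h.z := by
      have h3 : h.z * g = (h.z * g * h.z⁻¹ * g⁻¹) * (g * h.z) := by group
      rw [h3, h1, one_mul]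
    exact h2.symm
  have hcen : Subgroup.center G = ⊤ := by
    rcases (inferInstance : (Subgroup.center G).Normal).eq_bot_or_eq_top with h1 | h1
    · rw [h1, Subgroup.mem_bot] at hz
      have h2 : T.z = 1 := h.inj (hz.trans (map_one h.φ).symm)
      exact absurd h2 (by decide)
    · exact h1
  have h1 : h.v ∈ Subgroup.center G := hcen ▸ Subgroup.mem_top _
  have h2 := Subgroup.mem_center_iff.1 h1 h.tau
  have h3 : T.tau * T.v = T.v * T.tau := h.inj (by rw [map_mul, map_mul]; exact h2)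
  exact absurd h3 (by decide)

/-- A simple group with a Sylow 2-subgroup of J2 type has the fusion of `J2` or `J3`. -/
theorem fused_of_simple [Finite G] [IsSimpleGroup G] : Fused h :=
  h.fused (fun H => h.index_ne_two H) h.not_isolated

end Cfsg.Agent.J2Sylow.Setup
end

-- part: J2Sylow/AltFiveOdd
section
/-!
In the alternating group of degree 5 a subgroup of odd order normalised by a subgroup of order 4 is trivial.
-/

set_option autoImplicit false

namespace Cfsg.Agent.J2Sylow.AltFiveOdd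

open Subgroup

theorem sq_of_pow_four : ∀ g : alternatingGroup (Fin 5), g ^ 4 = 1 → g ^ 2 = 1 := by
  (set_option synthInstance.maxSize 9000 in open scoped Cfsg.Agent.Lib.FastPerm in decide +kernel)

theorem odd_of_comm : ∀ g : alternatingGroup (Fin 5), g ^ 2 = 1 → g ≠ 1 →
    ∀ x : alternatingGroup (Fin 5), x * g = g * x → x ^ 15 = 1 → x = 1 := by
  (set_option synthInstance.maxSize 9000 in open scoped Cfsg.Agent.Lib.FastPerm in decide +kernel)

theorem pow_fifteen : ∀ x : alternatingGroup (Fin 5), x ^ 15 = 1 ∨ x ^ 2 = 1 := by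
  (set_option synthInstance.maxSize 9000 in open scoped Cfsg.Agent.Lib.FastPerm in decide +kernel)

/-- In `A₅` a subgroup of odd order normalised by a subgroup of order 4 is trivial. -/
theorem eq_bot {V X : Subgroup (alternatingGroup (Fin 5))} (hV : Nat.card V = 4)
    (hX : ¬ 2 ∣ Nat.card X) (hVX : V ≤ normalizer (X : Set (alternatingGroup (Fin 5)))) :
    X = ⊥ := by
  have hsq : ∀ v ∈ V, v ^ 2 = 1 := by
    intro v hv
    apply sq_of_pow_four
    have h1 := Subgroup.orderOf_dvd_natCard V hv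
    rw [hV] at h1
    exact orderOf_dvd_iff_pow_eq_one.1 h1
  have hcomm : IsMulCommutative V := by
    refine ⟨⟨fun a b => ?_⟩⟩
    have h1 : ∀ x : V, x * x = 1 := fun x => by
      apply Subtype.ext
      have := hsq x x.2
      rwa [pow_two] at this
    have h2 : a * b = (a * b)⁻¹ := (eq_inv_of_mul_eq_one_left (h1 _) :)
    rw [h2, mul_inv_rev, inv_eq_of_mul_eq_one_left (h1 a), inv_eq_of_mul_eq_one_left (h1 b)]
  have hcyc : ¬ IsCyclic V := by
    intro hc
    obtain ⟨g, hg⟩ := IsCyclic.exists_generator (α := V)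
    have h1 : orderOf g = Nat.card V := orderOf_eq_card_of_forall_mem_zpowers hg
    have h2 : g ^ 2 = 1 := Subtype.ext (hsq g g.2)
    have h3 := orderOf_le_of_pow_eq_one (by norm_num) h2
    omega
  have hcop : (Nat.card V).Coprime (Nat.card X) := by
    rw [hV, show (4 : ℕ) = 2 ^ 2 by norm_num]
    exact Nat.Coprime.pow_left 2 ((Nat.Prime.coprime_iff_not_dvd Nat.prime_two).2 hX)
  have h := Cfsg.Agent.S0058.result V X hcyc hVX hcop
  rw [eq_bot_iff, ← h]
  refine iSup₂_le ?_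
  rintro v ⟨hv, hv1⟩
  intro x hx
  rw [mem_bot]
  apply odd_of_comm v (hsq v hv) hv1 x (mem_centralizer_singleton_iff.1 hx.2)
  rcases pow_fifteen x with h1 | h1
  · exact h1
  · have h2 : orderOf x ∣ 2 := orderOf_dvd_of_pow_eq_one h1
    have h3 : orderOf x ∣ Nat.card X := Subgroup.orderOf_dvd_natCard X hx.1
    rcases (Nat.dvd_prime Nat.prime_two).1 h2 with h4 | h4
    · rw [orderOf_eq_one_iff.1 h4, one_pow]
    · rw [h4] at h3
      exact absurd h3 hX

end Cfsg.Agent.J2Sylow.AltFiveOdd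
end

-- part: J2Sylow/BalancedTools
section
/-!
General tools for the balanced end of the characterisation by the Sylow 2-subgroup of `J₂`: odd order subgroups of
a group with a quotient `A₅`, a Frattini factorisation, a criterion for 2-constraint.
-/

set_option autoImplicit false

namespace Cfsg.Agent.J2Sylow.BalancedTools

open Subgroup Cfsg

variable {G : Type*} [Group G]

/-- In a group `C` with normal subgroups `K` (odd) and `Q K`, `Q` a 2-group, and `C / Q K ≃ A₅`, an odd order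
subgroup normalised by a 2-subgroup which covers a Sylow 2-subgroup of the quotient lies in `K`. -/
theorem le_of_normalized {C : Type*} [Group C] [Finite C] {Q K X L : Subgroup C} [hKn : K.Normal]
    (hQ : IsPGroup 2 Q) (π : C →* alternatingGroup (Fin 5)) (hker : π.ker = Q ⊔ K)
    (hX : ¬ 2 ∣ Nat.card X) (hLX : L ≤ normalizer (X : Set C))
    (h4 : Nat.card L = 4 * Nat.card (L ⊓ (Q ⊔ K) : Subgroup C)) : X ≤ K := by
  have hcardL : Nat.card (L.map π) = 4 := by
    have h1 : Nat.card L = Nat.card ((π.ker).subgroupOf L) * Nat.card (L.map π) := by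
      have h2 := Subgroup.card_mul_index ((π.comp L.subtype).ker)
      have h3 : (π.comp L.subtype).ker.index = Nat.card (π.comp L.subtype).range :=
        Subgroup.index_ker _
      have h4 : (π.comp L.subtype).range = L.map π := by
        rw [MonoidHom.range_comp, Subgroup.range_subtype]
      have h5 : (π.comp L.subtype).ker = (π.ker).subgroupOf L := by
        ext x; rfl
      rw [h3, h4, h5] at h2
      exact h2.symm
    have h2 : Nat.card ((π.ker).subgroupOf L) = Nat.card (L ⊓ (Q ⊔ K) : Subgroup C) := by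
      rw [hker, ← Subgroup.inf_subgroupOf_left]
      exact Nat.card_congr (Subgroup.subgroupOfEquivOfLe inf_le_left).toEquiv
    rw [h2, h4, mul_comm] at h1
    have hpos : 0 < Nat.card (L ⊓ (Q ⊔ K) : Subgroup C) := Nat.card_pos
    exact (Nat.eq_of_mul_eq_mul_left hpos h1).symm
  have hXmap : X.map π = ⊥ := by
    apply AltFiveOdd.eq_bot hcardL
    · intro h
      exact hX (h.trans (Subgroup.card_dvd_of_surjective (π.subgroupMap X) (π.subgroupMap_surjective X)))
    · rintro _ ⟨l, hl, rfl⟩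
      have hl' := hLX hl
      rw [mem_normalizer_iff] at hl' ⊢
      intro y
      constructor
      · rintro ⟨x, hx, rfl⟩
        exact ⟨l * x * l⁻¹, (hl' x).1 hx, by simp only [_root_.map_mul, _root_.map_inv]⟩
      · rintro ⟨x, hx, hxy⟩
        refine ⟨l⁻¹ * x * l, ?_, ?_⟩
        · have h1 : l * (l⁻¹ * x * l) * l⁻¹ = x := by group
          apply (hl' _).2
          rw [h1]; exact hx
        · rw [map_mul, map_mul, hxy, map_inv]
          group
  have hXN : X ≤ Q ⊔ K := by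
    rw [← hker]
    exact (Subgroup.map_eq_bot_iff X).1 hXmap
  intro x hx
  have hxN := hXN hx
  -- the image in `C / K` is a 2-element of odd order
  rw [← QuotientGroup.eq_one_iff]
  obtain ⟨q, hq, k, hk, rfl⟩ := Subgroup.mem_sup_of_normal_right.1 hxN
  have h1 : ((q * k : C) : C ⧸ K) = (q : C ⧸ K) := by
    rw [QuotientGroup.eq]
    simpa [mul_assoc] using K.inv_mem hk
  obtain ⟨m, hm⟩ := hQ ⟨q, hq⟩
  have hqm : q ^ 2 ^ m = 1 := by simpa only [_root_.SubmonoidClass.mk_pow, _root_.OneMemClass.coe_one] using congrArg Subtype.val hm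
  have h2 : orderOf ((q * k : C) : C ⧸ K) ∣ 2 ^ m := by
    apply orderOf_dvd_of_pow_eq_one
    rw [h1, ← QuotientGroup.mk_pow, hqm]
    rfl
  have h3 : orderOf ((q * k : C) : C ⧸ K) ∣ Nat.card X :=
    (orderOf_map_dvd (QuotientGroup.mk' K) (q * k)).trans (Subgroup.orderOf_dvd_natCard X hx)
  have h4 : (2 ^ m).Coprime (Nat.card X) :=
    Nat.Coprime.pow_left m ((Nat.Prime.coprime_iff_not_dvd Nat.prime_two).2 hX)
  exact orderOf_eq_one_iff.1 (Nat.eq_one_of_dvd_coprimes h4 h2 h3)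

/-- elements of a product -/
theorem mem_sup_of_normalizes {V K : Subgroup G} (h : ∀ v ∈ V, ∀ k ∈ K, v * k * v⁻¹ ∈ K) {x : G}
    (hx : x ∈ V ⊔ K) : ∃ v ∈ V, ∃ k ∈ K, x = v * k := by
  have hle : V ≤ normalizer (K : Set G) := by
    intro v hv
    rw [mem_normalizer_iff]
    intro k
    refine ⟨h v hv k, fun hk => ?_⟩
    have := h v⁻¹ (inv_mem hv) _ hk
    simpa [mul_assoc] using this
  have h1 := Subgroup.coe_mul_of_left_le_normalizer_right V K hle
  have h2 : x ∈ ((V ⊔ K : Subgroup G) : Set G) := hx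
  rw [h1, Set.mem_mul] at h2
  obtain ⟨v, hv, k, hk, e⟩ := h2
  exact ⟨v, hv, k, hk, e.symm⟩

/-- `V` is a Sylow 2-subgroup of `V K`. -/
theorem relIndex_sup_odd [Finite G] {V K : Subgroup G} (hV : IsPGroup 2 V) (hK : ¬ 2 ∣ Nat.card K)
    (h : ∀ v ∈ V, ∀ k ∈ K, v * k * v⁻¹ ∈ K) : Odd (V.relIndex (V ⊔ K)) := by
  have : Fact (Nat.Prime 2) := ⟨Nat.prime_two⟩
  have hle : V ≤ normalizer (K : Set G) := by
    intro v hv
    rw [mem_normalizer_iff]
    intro k
    refine ⟨h v hv k, fun hk => ?_⟩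
    have := h v⁻¹ (inv_mem hv) _ hk
    simpa [mul_assoc] using this
  obtain ⟨n, hn⟩ := (IsPGroup.iff_card (p := 2)).1 hV
  have hcop : (Nat.card V).Coprime (Nat.card K) := by
    rw [hn]
    exact Nat.Coprime.pow_left n ((Nat.Prime.coprime_iff_not_dvd Nat.prime_two).2 hK)
  have hbij : Nat.card (V ⊔ K : Subgroup G) ∣ Nat.card V * Nat.card K := by
    have hset := Subgroup.coe_mul_of_left_le_normalizer_right V K hle
    have hinf : V ⊓ K = ⊥ := (Subgroup.disjoint_of_coprime_natCard hcop).eq_bot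
    have hinj : Function.Injective (fun p : V × K => ((p.1 : G) * (p.2 : G))) := by
      rintro ⟨⟨v, hv⟩, ⟨k, hk⟩⟩ ⟨⟨v', hv'⟩, ⟨k', hk'⟩⟩ e
      have e' : v * k = v' * k' := e
      have h1 : v'⁻¹ * v = k' * k⁻¹ := by
        rw [eq_mul_inv_iff_mul_eq, mul_assoc, e', inv_mul_cancel_left]
      have h2 : v'⁻¹ * v ∈ V ⊓ K := mem_inf.2
        ⟨V.mul_mem (V.inv_mem hv') hv, h1 ▸ K.mul_mem hk' (K.inv_mem hk)⟩
      rw [hinf, mem_bot] at h2
      have h3 : v = v' := by rw [inv_mul_eq_one] at h2; exact h2.symm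
      subst h3
      have h4 : k = k' := mul_left_cancel e'
      subst h4
      rfl
    have hrange : Set.range (fun p : V × K => ((p.1 : G) * (p.2 : G))) =
        ((V ⊔ K : Subgroup G) : Set G) := by
      rw [hset]
      ext x
      rw [Set.mem_mul]
      constructor
      · rintro ⟨⟨v, k⟩, rfl⟩
        exact ⟨v, v.2, k, k.2, rfl⟩
      · rintro ⟨v, hv, k, hk, rfl⟩
        exact ⟨⟨⟨v, hv⟩, ⟨k, hk⟩⟩, rfl⟩
    have h5 : Nat.card (V ⊔ K : Subgroup G) = Nat.card (V × K) := by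
      have h6 : Nat.card (Set.range (fun p : V × K => ((p.1 : G) * (p.2 : G)))) =
          Nat.card (V × K) := Nat.card_range_of_injective hinj
      rw [hrange] at h6
      exact h6
    rw [h5, Nat.card_prod]
  have h7 : Nat.card V * V.relIndex (V ⊔ K) = Nat.card (V ⊔ K : Subgroup G) := by
    rw [← Subgroup.card_mul_index (V.subgroupOf (V ⊔ K))]
    congr 1
    exact (Nat.card_congr (Subgroup.subgroupOfEquivOfLe le_sup_left).toEquiv).symm
  rw [← h7] at hbij
  have h8 : V.relIndex (V ⊔ K) ∣ Nat.card K := Nat.dvd_of_mul_dvd_mul_left Nat.card_pos hbij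
  rw [← Nat.not_even_iff_odd, even_iff_two_dvd]
  exact fun h9 => hK (h9.trans h8)

/-- Frattini: `V` a 2-subgroup of `C` such that `V K` is normal, `K` normal of odd order. -/
theorem frattini [Finite G] {C K V : Subgroup G} (hV : IsPGroup 2 V) (hVC : V ≤ C) (hKC : K ≤ C)
    (hK : ¬ 2 ∣ Nat.card K) (hKn : ∀ c ∈ C, ∀ k ∈ K, c * k * c⁻¹ ∈ K)
    (hVn : ∀ c ∈ C, ∀ v ∈ V, c * v * c⁻¹ ∈ V ⊔ K) {c : G} (hc : c ∈ C) :
    ∃ o ∈ K, ∃ n ∈ C, (∀ v ∈ V, n * v * n⁻¹ ∈ V) ∧ c = o * n := by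
  have hVK : ∀ v ∈ V, ∀ k ∈ K, v * k * v⁻¹ ∈ K := fun v hv k hk => hKn v (hVC hv) k hk
  have hodd := relIndex_sup_odd hV hK hVK
  have hP : IsPGroup 2 (V.map (MulAut.conj c).toMonoidHom) := hV.map _
  have hPle : V.map (MulAut.conj c).toMonoidHom ≤ V ⊔ K := by
    rintro _ ⟨v, hv, rfl⟩
    exact hVn c hc v hv
  obtain ⟨m, hm, hmV⟩ := exists_conj_le _ _ _ hP hPle hodd
  obtain ⟨v0, hv0, k0, hk0, rfl⟩ := mem_sup_of_normalizes hVK hm
  refine ⟨k0⁻¹, inv_mem hk0, k0 * c, mul_mem (hKC hk0) hc, ?_, by group⟩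
  intro v hv
  have h1 := hmV (c * v * c⁻¹) ⟨v, hv, rfl⟩
  have h2 : v0⁻¹ * (v0 * k0 * (c * v * c⁻¹) * (v0 * k0)⁻¹) * v0 ∈ V :=
    mul_mem (mul_mem (inv_mem hv0) h1) hv0
  have h3 : v0⁻¹ * (v0 * k0 * (c * v * c⁻¹) * (v0 * k0)⁻¹) * v0 = k0 * c * v * (k0 * c)⁻¹ := by
    group
  rwa [h3] at h2

/-- A criterion for the 2-layer to be trivial. -/
theorem pLayer_eq_bot {C : Type*} [Group C] [Finite C] {Q : Subgroup C} (hQ : IsPGroup 2 Q)
    (hn : (Q ⊔ pPrimeCore 2 C).Normal)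
    (hcent : ∀ g : C, (∀ x ∈ Q, g * x * g⁻¹ * x⁻¹ ∈ pPrimeCore 2 C) → g ∈ Q ⊔ pPrimeCore 2 C) :
    pLayer 2 C = ⊥ := by
  have : Fact (Nat.Prime 2) := ⟨Nat.prime_two⟩
  rw [← SignalizersComponents.PConstrained.isPConstrained_iff_pLayer_eq_bot,
    SignalizersComponents.PConstrained.isPConstrained_iff_quotient]
  set O := pPrimeCore 2 C with hO
  set π := QuotientGroup.mk' O with hπ
  have hmap : (Q ⊔ O).map π = Q.map π := by
    rw [Subgroup.map_sup]
    have : O.map π = ⊥ := by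
      rw [Subgroup.map_eq_bot_iff, hπ, QuotientGroup.ker_mk']
    rw [this, sup_bot_eq]
  have hQn : (Q.map π).Normal := by
    rw [← hmap]
    exact hn.map π (QuotientGroup.mk'_surjective O)
  have hQp : IsPGroup 2 (Q.map π) := hQ.map π
  have hle : Q.map π ≤ pCore 2 (C ⧸ O) := Lib.Cores.le_pCore hQn hQp
  intro q hq
  obtain ⟨g, rfl⟩ := QuotientGroup.mk'_surjective O q
  apply hle
  rw [← hmap]
  refine ⟨g, hcent g ?_, rfl⟩
  intro x hx
  have h1 : π x ∈ pCore 2 (C ⧸ O) := hle ⟨x, hx, rfl⟩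
  have h2 : π x * π g = π g * π x := (mem_centralizer_iff.1 hq) _ h1
  rw [← QuotientGroup.eq_one_iff]
  change π (g * x * g⁻¹ * x⁻¹) = 1
  rw [map_mul, map_mul, map_mul, map_inv, map_inv, ← h2]
  group

end Cfsg.Agent.J2Sylow.BalancedTools
end

-- part: J2Sylow/Balanced
section
/-!
The balanced end of the characterisation by the Sylow 2-subgroup of `J₂`: from the structure of `C(z)` to the
hypotheses of `BalancedEnd`.
-/

set_option autoImplicit false

namespace Cfsg.Agent.J2Sylow.Balanced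

open Subgroup Cfsg Model
open Cfsg.Agent.Dichotomy.Elem Cfsg.Agent.Dichotomy.Functor

/-! ### The model group -/

namespace TM

theorem tau_zv : T.tau * (T.z * T.v) * T.tau⁻¹ = T.v := by decide
theorem vz : T.v * T.z = T.z * T.v := by decide
theorem v_ne_z : T.v ≠ T.z := by decide
theorem v_ne_one : T.v ≠ 1 := by decide
theorem z_ne_one : T.z ≠ 1 := by decide
theorem Q_conj_v : ∀ x : T, x ∈ T.Q → x * T.v * x⁻¹ = T.v ∨ x * T.v * x⁻¹ = T.z * T.v := by
  decide +kernel
theorem sq_Q_R : ∀ x : T, x ∈ T.Q → x ∈ T.R → x ∉ T.U → x * x = T.z := by decide +kernel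
theorem center_R : ∀ x : T, x ∈ T.R → (∀ y : T, y ∈ T.R → x * y = y * x) → x ∈ T.U := by
  decide +kernel
theorem card_Q_R : Nat.card (T.Q ⊓ T.R : Subgroup T) = 16 := by
  have h : Nat.card (T.Q ⊓ T.R : Subgroup T) = Nat.card {x : T // x ∈ T.Q ∧ x ∈ T.R} := rfl
  rw [h, Nat.card_eq_fintype_card, Fintype.card_subtype]; decide +kernel

end TM

variable {G : Type*} [Group G]

/-- The hypotheses on `C(z)`. -/
structure CZ (h : Setup G) : Prop where
  hom : ∃ π : ↥(centralizer ({h.z} : Set G)) →* alternatingGroup (Fin 5),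
    π.ker = (h.Q ⊔ centralizerPPrimeCore 2 h.z).subgroupOf (centralizer {h.z})
  cent : ∀ g, g * h.z = h.z * g →
    (∀ x ∈ h.Q, g * x * g⁻¹ * x⁻¹ ∈ centralizerPPrimeCore 2 h.z) →
      g ∈ h.Q ⊔ centralizerPPrimeCore 2 h.z

variable (h : Setup G)

/-! ### Elements of the set-up -/

theorem z_sq : h.z * h.z = 1 := by
  show h.φ T.z * h.φ T.z = 1
  rw [← map_mul, show T.z * T.z = 1 from by decide, map_one]

theorem v_sq : h.v * h.v = 1 := by
  show h.φ T.v * h.φ T.v = 1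
  rw [← map_mul, show T.v * T.v = 1 from by decide, map_one]

theorem phi_ne_one {t : T} (ht : t ≠ 1) : h.φ t ≠ 1 := fun e =>
  ht (h.inj (e.trans (map_one _).symm))

theorem z_ne_one : h.z ≠ 1 := phi_ne_one h TM.z_ne_one

theorem v_ne_one : h.v ≠ 1 := phi_ne_one h TM.v_ne_one

theorem v_ne_z : h.v ≠ h.z := fun e => TM.v_ne_z (h.inj e)

theorem z_v : h.z * h.v = h.v * h.z := by
  show h.φ T.z * h.φ T.v = h.φ T.v * h.φ T.z
  rw [← map_mul, ← map_mul, TM.vz]

theorem U_le_E1 : h.U ≤ h.E1 := Subgroup.map_mono T.U_le_E1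
theorem U_le_R : h.U ≤ h.R := Subgroup.map_mono T.U_le_R
theorem U_le_Q : h.U ≤ h.Q := Subgroup.map_mono T.U_le_Q
theorem z_mem_E1 : h.z ∈ h.E1 := U_le_E1 h h.z_mem_U
theorem v_mem_E1 : h.v ∈ h.E1 := U_le_E1 h h.v_mem_U
theorem z_mem_Q : h.z ∈ h.Q := U_le_Q h h.z_mem_U
theorem v_mem_Q : h.v ∈ h.Q := U_le_Q h h.v_mem_U
theorem big_E1 : Big h.E1 := by
  refine ⟨isElementaryAbelian_of ?_ ?_, ?_⟩
  · rintro _ ⟨x, hx, rfl⟩ _ ⟨y, hy, rfl⟩
    rw [← map_mul, ← map_mul, T.E1_comm x y hx hy]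
  · rintro _ ⟨x, hx, rfl⟩
    rw [← map_mul, T.E1_sq x hx, map_one]
  · have h1 : Nat.card h.E1 = 16 := (h.card_map T.E1).trans T.card_E1
    rw [h1]; norm_num

theorem card_U : Nat.card h.U = 4 := (h.card_map T.U).trans T.card_U

theorem U_comm_R {x y : G} (hx : x ∈ h.U) (hy : y ∈ h.R) : x * y = y * x := by
  obtain ⟨s, hs, rfl⟩ := hx
  obtain ⟨t, ht, rfl⟩ := hy
  rw [← map_mul, ← map_mul, T.U_central s t hs ht]

/-- elements normalising `R` normalise `U` -/
theorem conj_U [Finite G] {g : G} (hg : ∀ x ∈ h.R, g * x * g⁻¹ ∈ h.R) :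
    ∀ x ∈ h.U, g * x * g⁻¹ ∈ h.U := by
  intro x hx
  have h1 : h.R.map (MulAut.conj g).toMonoidHom = h.R := by
    refine Subgroup.eq_of_le_of_card_ge ?_
      (by rw [card_map_of_injective (MulAut.conj g).injective])
    rintro _ ⟨v, hv, rfl⟩
    exact hg v hv
  have h2 : ∀ y ∈ h.R, (g * x * g⁻¹) * y = y * (g * x * g⁻¹) := by
    intro y hy
    rw [← h1] at hy
    obtain ⟨w, hw, rfl⟩ := hy
    show (g * x * g⁻¹) * (g * w * g⁻¹) = (g * w * g⁻¹) * (g * x * g⁻¹)
    calc (g * x * g⁻¹) * (g * w * g⁻¹) = g * (x * w) * g⁻¹ := by group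
      _ = g * (w * x) * g⁻¹ := by rw [U_comm_R h hx hw]
      _ = _ := by group
  obtain ⟨t, ht, e⟩ := hg x (U_le_R h hx)
  rw [← e] at h2 ⊢
  refine ⟨t, TM.center_R t ht ?_, rfl⟩
  intro y hy
  apply h.inj
  rw [map_mul, map_mul]
  exact h2 _ ⟨y, hy, rfl⟩

/-- an element of a finite group which conjugates a subgroup into itself normalises it -/
theorem inv_conj_mem [Finite G] {H : Subgroup G} {g : G} (hg : ∀ x ∈ H, g * x * g⁻¹ ∈ H) :
    ∀ x ∈ H, g⁻¹ * x * g ∈ H := by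
  intro x hx
  have h1 : H.map (MulAut.conj g).toMonoidHom = H := by
    refine Subgroup.eq_of_le_of_card_ge ?_
      (by rw [card_map_of_injective (MulAut.conj g).injective])
    rintro _ ⟨v, hv, rfl⟩
    exact hg v hv
  rw [← h1] at hx
  obtain ⟨w, hw, rfl⟩ := hx
  show g⁻¹ * (g * w * g⁻¹) * g ∈ H
  have : g⁻¹ * (g * w * g⁻¹) * g = w := by group
  rw [this]; exact hw

theorem K_le_C (x : G) : centralizerPPrimeCore 2 x ≤ centralizer ({x} : Set G) :=
  Subgroup.map_subtype_le _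

theorem Q_le_C : h.Q ≤ centralizer ({h.z} : Set G) := h.Q_le_S.trans h.S_le_centralizer_z

theorem K_odd [Finite G] (x : G) : ¬ 2 ∣ Nat.card (centralizerPPrimeCore 2 x) := by
  have : Fact (Nat.Prime 2) := ⟨Nat.prime_two⟩
  exact S1295.core_card 2 x

theorem K_normal [Finite G] {x c k : G} (hc : c ∈ centralizer ({x} : Set G))
    (hk : k ∈ centralizerPPrimeCore 2 x) : c * k * c⁻¹ ∈ centralizerPPrimeCore 2 x := by
  have : Fact (Nat.Prime 2) := ⟨Nat.prime_two⟩
  exact (mem_normalizer_iff.1 (S1295.core_normalized 2 x hc) k).1 hk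

theorem Q_norm_K [Finite G] : ∀ v ∈ h.Q, ∀ k ∈ centralizerPPrimeCore 2 h.z,
    v * k * v⁻¹ ∈ centralizerPPrimeCore 2 h.z :=
  fun _ hv _ hk => K_normal (Q_le_C h hv) hk

/-- a 2-element of odd order is trivial -/
theorem eq_one_of_mem [Finite G] {S K : Subgroup G} (hS : IsPGroup 2 S) (hK : ¬ 2 ∣ Nat.card K)
    {x : G} (hxS : x ∈ S) (hxK : x ∈ K) : x = 1 := by
  obtain ⟨n, hn⟩ := hS ⟨x, hxS⟩
  have h1 : x ^ 2 ^ n = 1 := by simpa only [_root_.SubmonoidClass.mk_pow, _root_.OneMemClass.coe_one] using congrArg Subtype.val hn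
  have h2 : orderOf x ∣ 2 ^ n := orderOf_dvd_of_pow_eq_one h1
  have h3 : orderOf x ∣ Nat.card K := Subgroup.orderOf_dvd_natCard K hxK
  have h4 : (2 ^ n).Coprime (Nat.card K) :=
    Nat.Coprime.pow_left n ((Nat.Prime.coprime_iff_not_dvd Nat.prime_two).2 hK)
  exact orderOf_eq_one_iff.1 (Nat.eq_one_of_dvd_coprimes h4 h2 h3)

/-- `S ∩ Q K = Q` -/
theorem mem_Q_of_mem_sup [Finite G] {x : G} (hxS : x ∈ h.S)
    (hx : x ∈ h.Q ⊔ centralizerPPrimeCore 2 h.z) : x ∈ h.Q := by
  obtain ⟨q, hq, k, hk, rfl⟩ := BalancedTools.mem_sup_of_normalizes (Q_norm_K h) hx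
  have h1 : k ∈ h.S := by
    have := h.S.mul_mem (h.S.inv_mem (h.Q_le_S hq)) hxS
    simpa using this
  rw [eq_one_of_mem h.isPGroup_S (K_odd h.z) h1 hk, mul_one]
  exact hq

/-- The normal subgroup `Q K` of `C(z)`. -/
theorem sup_normal (cz : CZ h) {c x : G} (hc : c ∈ centralizer ({h.z} : Set G))
    (hx : x ∈ h.Q ⊔ centralizerPPrimeCore 2 h.z) :
    c * x * c⁻¹ ∈ h.Q ⊔ centralizerPPrimeCore 2 h.z := by
  obtain ⟨π, hπ⟩ := cz.hom
  have hle : h.Q ⊔ centralizerPPrimeCore 2 h.z ≤ centralizer ({h.z} : Set G) :=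
    sup_le (Q_le_C h) (K_le_C h.z)
  have h1 : (⟨x, hle hx⟩ : ↥(centralizer ({h.z} : Set G))) ∈ π.ker := by
    rw [hπ]; exact hx
  have h2 := (MonoidHom.normal_ker π).conj_mem _ h1 ⟨c, hc⟩
  rw [hπ] at h2
  exact h2

/-- Frattini factorisation of `C(z)`. -/
theorem frattini_z [Finite G] (cz : CZ h) {c : G} (hc : c ∈ centralizer ({h.z} : Set G)) :
    ∃ o ∈ centralizerPPrimeCore 2 h.z, ∃ n ∈ centralizer ({h.z} : Set G),
      (∀ v ∈ h.Q, n * v * n⁻¹ ∈ h.Q) ∧ c = o * n :=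
  BalancedTools.frattini (h.isPGroup_S.to_le h.Q_le_S) (Q_le_C h) (K_le_C h.z) (K_odd h.z)
    (fun _ hc _ hk => K_normal hc hk)
    (fun _ hc _ hv => sup_normal h cz hc (Subgroup.mem_sup_left hv)) hc

/-- The key lemma, for a conjugation `v' ↦ z` in `N(R)`. -/
theorem key_aux [Finite G] (cz : CZ h) {g v' : G} (hg : ∀ x ∈ h.R, g * x * g⁻¹ ∈ h.R)
    (hv' : v' ∈ h.U) (hne : v' ≠ h.z) (hgv : g * v' * g⁻¹ = h.z) {X : Subgroup G}
    (hX : ¬ 2 ∣ Nat.card X) (hXv : X ≤ centralizer ({v'} : Set G))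
    (hXQ : ∀ q ∈ h.Q, q * v' = v' * q → ∀ x ∈ X, q * x * q⁻¹ ∈ X) :
    X ≤ centralizerPPrimeCore 2 v' := by
  have hRC : h.R ≤ centralizer ({h.z} : Set G) := h.R_le_S.trans h.S_le_centralizer_z
  set C := centralizer ({h.z} : Set G) with hC
  have hgU := conj_U h hg
  have hgU' := inv_conj_mem hgU
  -- the group `L`
  set L : Subgroup G := (h.Q ⊓ h.R).map (MulAut.conj g).toMonoidHom with hL
  set X' : Subgroup G := X.map (MulAut.conj g).toMonoidHom with hX'
  have hLR : L ≤ h.R := by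
    rintro _ ⟨x, hx, rfl⟩
    exact hg x hx.2
  have hLC : L ≤ C := hLR.trans hRC
  have hX'C : X' ≤ C := by
    have h1 := Subgroup.map_mono (f := (MulAut.conj g).toMonoidHom) hXv
    rwa [S1295.centralizer_conj, hgv] at h1
  have hKC : centralizerPPrimeCore 2 h.z ≤ C := K_le_C h.z
  have hQC : h.Q ≤ C := Q_le_C h
  have hinf : L ⊓ (h.Q ⊔ centralizerPPrimeCore 2 h.z) = h.U := by
    apply le_antisymm
    · rintro _ ⟨⟨x, hx, rfl⟩, hxQ⟩
      have h1 : g * x * g⁻¹ ∈ h.R := hg x hx.2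
      have h2 : g * x * g⁻¹ ∈ h.Q := mem_Q_of_mem_sup h (h.R_le_S h1) hxQ
      show g * x * g⁻¹ ∈ h.U
      by_contra h3
      have h4 : x ∉ h.U := fun h5 => h3 (hgU x h5)
      obtain ⟨s, hs, hs'⟩ := hx.1
      obtain ⟨t, ht, ht'⟩ := h2
      have hsR : s ∈ T.R := by
        rw [← h.phi_mem_R, hs']; exact hx.2
      have hsU : s ∉ T.U := by
        rw [← h.phi_mem_U, hs']; exact h4
      have htR : t ∈ T.R := by
        rw [← h.phi_mem_R, ht']; exact h1
      have htU : t ∉ T.U := by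
        rw [← h.phi_mem_U, ht']; exact h3
      have h5 : x * x = h.z := by
        rw [← hs', ← map_mul, TM.sq_Q_R s hs hsR hsU]; rfl
      have h6 : (g * x * g⁻¹) * (g * x * g⁻¹) = h.z := by
        rw [← ht', ← map_mul, TM.sq_Q_R t ht htR htU]; rfl
      have h7 : g * h.z * g⁻¹ = h.z := by
        rw [← h5]
        calc g * (x * x) * g⁻¹ = (g * x * g⁻¹) * (g * x * g⁻¹) := by group
          _ = x * x := by rw [h6, h5]
      apply hne
      have h8 : g * v' * g⁻¹ = g * h.z * g⁻¹ := by rw [hgv, h7]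
      exact mul_left_cancel (mul_right_cancel h8)
    · intro x hx
      refine ⟨⟨g⁻¹ * x * g, ⟨U_le_Q h (hgU' x hx), U_le_R h (hgU' x hx)⟩, ?_⟩,
        Subgroup.mem_sup_left (U_le_Q h hx)⟩
      show g * (g⁻¹ * x * g) * g⁻¹ = x
      group
  have hcardL : Nat.card L = 16 := by
    rw [hL, card_map_of_injective (MulAut.conj g).injective]
    have h1 : (h.Q ⊓ h.R) = (T.Q ⊓ T.R).map h.φ := (Subgroup.map_inf _ _ _ h.inj).symm
    rw [h1, h.card_map, TM.card_Q_R]
  have hLX : ∀ l ∈ L, ∀ x ∈ X', l * x * l⁻¹ ∈ X' := by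
    rintro _ ⟨q, hq, rfl⟩ _ ⟨x, hx, rfl⟩
    refine ⟨q * x * q⁻¹, hXQ q hq.1 (U_comm_R h hv' hq.2).symm x hx, ?_⟩
    show g * (q * x * q⁻¹) * g⁻¹ = (g * q * g⁻¹) * (g * x * g⁻¹) * (g * q * g⁻¹)⁻¹
    group
  -- apply the general lemma in `C`
  obtain ⟨π, hπ⟩ := cz.hom
  have hsub : (h.Q ⊔ centralizerPPrimeCore 2 h.z).subgroupOf C =
      h.Q.subgroupOf C ⊔ (centralizerPPrimeCore 2 h.z).subgroupOf C :=
    Subgroup.subgroupOf_sup hQC hKC
  have hKn : ((centralizerPPrimeCore 2 h.z).subgroupOf C).Normal := by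
    constructor
    intro k hk c
    exact K_normal c.2 hk
  have hle : X'.subgroupOf C ≤ (centralizerPPrimeCore 2 h.z).subgroupOf C := by
    refine BalancedTools.le_of_normalized (Q := h.Q.subgroupOf C) (L := L.subgroupOf C)
      ((h.isPGroup_S.to_le h.Q_le_S).comap_of_injective C.subtype C.subtype_injective) π ?_ ?_ ?_ ?_
    · rw [← hsub]; exact hπ
    · rw [Nat.card_congr (Subgroup.subgroupOfEquivOfLe hX'C).toEquiv, hX',
        card_map_of_injective (MulAut.conj g).injective]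
      exact hX
    · intro l hl
      rw [mem_normalizer_iff]
      intro x
      refine ⟨fun hx => hLX _ hl _ hx, fun hx => ?_⟩
      have h1 := hLX _ (L.inv_mem hl) _ hx
      show (x : G) ∈ X'
      have h2 : ((l : G))⁻¹ * ((l * x * l⁻¹ : C) : G) * ((l : G))⁻¹⁻¹ = (x : G) := by
        show ((l : G))⁻¹ * ((l : G) * (x : G) * (l : G)⁻¹) * ((l : G))⁻¹⁻¹ = (x : G)
        group
      rwa [← h2]
    · have h1 : L.subgroupOf C ⊓ (h.Q.subgroupOf C ⊔ (centralizerPPrimeCore 2 h.z).subgroupOf C) =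
          h.U.subgroupOf C := by
        rw [← hsub, ← hinf]; rfl
      rw [h1, Nat.card_congr (Subgroup.subgroupOfEquivOfLe hLC).toEquiv, hcardL,
        Nat.card_congr (Subgroup.subgroupOfEquivOfLe ((U_le_R h).trans hRC)).toEquiv, card_U]
  intro x hx
  have h1 : g * x * g⁻¹ ∈ centralizerPPrimeCore 2 h.z := by
    have h2 : g * x * g⁻¹ ∈ X' := ⟨x, hx, rfl⟩
    exact hle (show (⟨g * x * g⁻¹, hX'C h2⟩ : C) ∈ X'.subgroupOf C from h2)
  rw [← hgv, th_conj] at h1
  obtain ⟨y, hy, e⟩ := h1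
  have h3 : g * y * g⁻¹ = g * x * g⁻¹ := e
  rwa [← mul_left_cancel (mul_right_cancel h3)]

/-- The key lemma. -/
theorem key [Finite G] (hf : Fused h) (cz : CZ h) : ∀ v' : G, (v' = h.v ∨ v' = h.z * h.v) →
    ∀ X : Subgroup G, ¬ 2 ∣ Nat.card X → X ≤ centralizer ({v'} : Set G) →
      (∀ q ∈ h.Q, q * v' = v' * q → ∀ x ∈ X, q * x * q⁻¹ ∈ X) →
      X ≤ centralizerPPrimeCore 2 v' := by
  obtain ⟨g, hgR, hgv⟩ := hf.f1
  rintro v' (rfl | rfl) X hX hXv hXQ
  · exact key_aux h cz hgR h.v_mem_U (v_ne_z h) hgv hX hXv hXQ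
  · have htau : h.tau * (h.z * h.v) * h.tau⁻¹ = h.v := by
      show h.φ T.tau * (h.φ T.z * h.φ T.v) * (h.φ T.tau)⁻¹ = h.φ T.v
      rw [← map_mul, h.phi_conj, TM.tau_zv]
    refine key_aux h cz (g := g * h.tau) ?_ ?_ ?_ ?_ hX hXv hXQ
    · rintro _ ⟨t, ht, rfl⟩
      have h1 : h.φ (T.tau * t * T.tau⁻¹) ∈ h.R := ⟨_, T.R_normal t T.tau ht, rfl⟩
      have h2 := hgR _ h1
      rw [← h.phi_conj] at h2
      have h3 : g * h.tau * h.φ t * (g * h.tau)⁻¹ = g * (h.φ T.tau * h.φ t * (h.φ T.tau)⁻¹) * g⁻¹ := by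
        show g * h.φ T.tau * h.φ t * (g * h.φ T.tau)⁻¹ = _
        group
      rw [h3]; exact h2
    · exact h.U.mul_mem h.z_mem_U h.v_mem_U
    · intro e
      exact v_ne_one h (mul_eq_left.1 e)
    · calc g * h.tau * (h.z * h.v) * (g * h.tau)⁻¹ = g * (h.tau * (h.z * h.v) * h.tau⁻¹) * g⁻¹ := by
            group
        _ = h.z := by rw [htau, hgv]

/-! ### The normaliser of `W` -/

section

variable {h}

theorem mem_normalizer_E1 [Finite G] {g : G} (hg : ∀ x ∈ h.E1, g * x * g⁻¹ ∈ h.E1) :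
    g ∈ normalizer (W h.E1 : Set G) := by
  apply mem_normalizer_of_map_eq
  have h1 : h.E1.map (MulAut.conj g).toMonoidHom = h.E1 := by
    refine Subgroup.eq_of_le_of_card_ge ?_
      (by rw [card_map_of_injective (MulAut.conj g).injective])
    rintro _ ⟨v, hv, rfl⟩
    exact hg v hv
  rw [W_conj, h1]

theorem mem_normalizer_U [Finite G] (hF : Fun G) {g : G} (hg : ∀ x ∈ h.U, g * x * g⁻¹ ∈ h.U) :
    g ∈ normalizer (W h.E1 : Set G) := by
  apply mem_normalizer_of_map_eq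
  have h1 : h.U.map (MulAut.conj g).toMonoidHom = h.U := by
    refine Subgroup.eq_of_le_of_card_ge ?_
      (by rw [card_map_of_injective (MulAut.conj g).injective])
    rintro _ ⟨v, hv, rfl⟩
    exact hg v hv
  rw [← W_eq_of_le hF (big_E1 h) (U_le_E1 h) (card_U h).ge, W_conj, h1]

/-- `C(z) ≤ N(W)`. -/
theorem centralizer_z_le [Finite G] (hf : Fused h) (cz : CZ h) (hF : Fun G) :
    centralizer ({h.z} : Set G) ≤ normalizer (W h.E1 : Set G) := by
  intro c hc
  obtain ⟨o, ho, n, hn, hnQ, rfl⟩ := frattini_z h cz hc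
  refine (normalizer (W h.E1 : Set G)).mul_mem
    (le_normalizer (le_W _ (z_mem_E1 h) (z_ne_one h) ho)) ?_
  refine BalancedEnd.mem_normalizer_W hF (big_E1 h) (z_sq h) (z_ne_one h) (v_sq h) (v_ne_one h)
    (v_ne_z h) (z_v h) (z_mem_E1 h) (v_mem_E1 h) (z_mem_Q h) (v_mem_Q h)
    (fun q hq => (h.z_comm (h.Q_le_S hq)).symm) ?_ (key h hf cz)
    (mem_centralizer_singleton_iff.1 hn) (inv_conj_mem hnQ)
  rintro _ ⟨t, ht, rfl⟩
  rcases TM.Q_conj_v t ht with h1 | h1
  · left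
    show h.φ t * h.φ T.v * (h.φ t)⁻¹ = h.φ T.v
    rw [h.phi_conj, h1]
  · right
    show h.φ t * h.φ T.v * (h.φ t)⁻¹ = h.φ T.z * h.φ T.v
    rw [h.phi_conj, h1, map_mul]

theorem centralizer_le_of_conj {M : Subgroup G} {z a g : G}
    (hz : centralizer ({z} : Set G) ≤ M) (hg : g ∈ M) (hga : g * a * g⁻¹ = z) :
    centralizer ({a} : Set G) ≤ M := by
  intro x hx
  rw [mem_centralizer_singleton_iff] at hx
  have h1 : g * x * g⁻¹ ∈ M := by
    refine hz (mem_centralizer_singleton_iff.2 ?_)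
    rw [← hga]
    calc g * x * g⁻¹ * (g * a * g⁻¹) = g * (x * a) * g⁻¹ := by group
      _ = g * a * g⁻¹ * (g * x * g⁻¹) := by rw [hx]; group
  have h2 := M.mul_mem (M.mul_mem (M.inv_mem hg) h1) hg
  have h3 : g⁻¹ * (g * x * g⁻¹) * g = x := by group
  rwa [h3] at h2

theorem U_to_z (hf : Fused h) {x : G} (hx : x ∈ h.U) (hx1 : x ≠ 1) :
    ∃ g : G, (∀ y ∈ h.R, g * y * g⁻¹ ∈ h.R) ∧ g * x * g⁻¹ = h.z := by
  obtain ⟨g, hgR, hgv⟩ := hf.f1
  obtain ⟨t, ht, rfl⟩ := hx
  rcases T.U_cases t ht with rfl | rfl | rfl | rfl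
  · exact absurd (map_one _) hx1
  · exact ⟨1, fun y hy => by simpa using hy, by simp [Setup.z]⟩
  · exact ⟨g, hgR, hgv⟩
  · refine ⟨g * h.tau, ?_, ?_⟩
    · rintro _ ⟨t, ht, rfl⟩
      have h1 : h.φ (T.tau * t * T.tau⁻¹) ∈ h.R := ⟨_, T.R_normal t T.tau ht, rfl⟩
      have h2 := hgR _ h1
      rw [← h.phi_conj] at h2
      have h3 : g * h.tau * h.φ t * (g * h.tau)⁻¹ =
          g * (h.φ T.tau * h.φ t * (h.φ T.tau)⁻¹) * g⁻¹ := by
        show g * h.φ T.tau * h.φ t * (g * h.φ T.tau)⁻¹ = _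
        group
      rw [h3]; exact h2
    · have htau : h.tau * h.φ (T.v * T.z) * h.tau⁻¹ = h.v := by
        show h.φ T.tau * h.φ (T.v * T.z) * (h.φ T.tau)⁻¹ = h.φ T.v
        rw [h.phi_conj, TM.vz, TM.tau_zv]
      calc g * h.tau * h.φ (T.v * T.z) * (g * h.tau)⁻¹ =
            g * (h.tau * h.φ (T.v * T.z) * h.tau⁻¹) * g⁻¹ := by group
        _ = h.z := by rw [htau, hgv]

end

/-! ### Elementary abelian subgroups of order 16 -/

namespace TM

theorem card_le_four {A : Subgroup T} {x y w : T} (hA : ∀ a ∈ A, a = 1 ∨ a = x ∨ a = y ∨ a = w) :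
    Nat.card A ≤ 4 := by
  classical
  have h1 : (A : Set T) ⊆ (({1, x, y, w} : Finset T) : Set T) := by
    intro a ha
    simpa only [_root_.Finset.coe_insert, _root_.Finset.coe_singleton, _root_.Set.mem_insert_iff, _root_.Set.mem_singleton_iff] using hA a ha
  calc Nat.card A = (A : Set T).ncard := rfl
    _ ≤ ((({1, x, y, w} : Finset T) : Set T)).ncard := Set.ncard_le_ncard h1 (Finset.finite_toSet _)
    _ = ({1, x, y, w} : Finset T).card := Set.ncard_coe_finset _
    _ ≤ 4 := Finset.card_le_four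

theorem elem_sixteen {A : Subgroup T} (hA : ∀ x ∈ A, x * x = 1) (hcard : Nat.card A = 16) :
    A = T.E1 ∨ A = T.E2 := by
  have hcomm : ∀ x ∈ A, ∀ y ∈ A, x * y = y * x := by
    intro x hx y hy
    have h1 := hA _ (mul_mem hx hy)
    have h2 := hA x hx
    have h3 := hA y hy
    calc x * y = x * (y * 1) := by rw [mul_one]
      _ = x * (y * (x * y * (x * y))) := by rw [h1]
      _ = x * (y * x * y * x * y) := by group
      _ = (x * y * (x * y)) * (x * y) := by group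
      _ = (x * y) := by rw [h1, one_mul]
      _ = (y * y) * (x * y) * (x * x) := by rw [h2, h3, one_mul, mul_one]
      _ = y * (y * x * y * x) * x := by group
      _ = y * (y * (x * y * (x * y)) * y⁻¹) * x := by group
      _ = y * x := by rw [h1]; group
  by_cases hAR : A ≤ T.R
  · by_cases hAU : A ≤ T.U
    · exfalso
      have := Subgroup.card_le_of_le hAU
      rw [hcard, T.card_U] at this
      omega
    · obtain ⟨x, hx, hxU⟩ := SetLike.not_le_iff_exists.1 hAU
      rcases T.inv_R x (hA x hx) (hAR hx) with h1 | h1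
      · left
        apply Subgroup.eq_of_le_of_card_ge
        · intro y hy
          exact T.comm_E1 x y h1 hxU (hcomm x hx y hy)
        · rw [hcard, T.card_E1]
      · right
        apply Subgroup.eq_of_le_of_card_ge
        · intro y hy
          exact T.comm_E2 x y h1 hxU (hcomm x hx y hy)
        · rw [hcard, T.card_E2]
  · exfalso
    obtain ⟨x, hx, hxR⟩ := SetLike.not_le_iff_exists.1 hAR
    have hxs : x.s = true := by
      rw [T.mem_R] at hxR
      simpa using hxR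
    have := card_le_four (A := A) (x := x) (y := T.z) (w := x * T.z) (by
      intro y hy
      exact T.comm_of_not_R x y hxs (hA x hx) (hA y hy) (hcomm x hx y hy))
    omega

end TM

/-- The elementary abelian subgroups of order 16 of `S`. -/
theorem elem_sixteen {A : Subgroup G} (hAS : A ≤ h.S) (hA : ∀ x ∈ A, x * x = 1)
    (hcard : Nat.card A = 16) : A = h.E1 ∨ A = h.E2 := by
  have h1 : (A.comap h.φ).map h.φ = A := Subgroup.map_comap_eq_self hAS
  have h2 : Nat.card (A.comap h.φ) = 16 := by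
    rw [← h.card_map, h1, hcard]
  have h3 : ∀ x ∈ A.comap h.φ, x * x = 1 := by
    intro x hx
    apply h.inj
    rw [map_mul, map_one]
    exact hA _ hx
  rcases TM.elem_sixteen h3 h2 with h4 | h4
  · left; rw [← h1, h4]; rfl
  · right; rw [← h1, h4]; rfl

/-- conjugates of `z` in `E1` -/
theorem E1_to_z [Finite G] {a : G} (ha : a ∈ h.E1) (hc : IsConj h.z a) :
    ∃ g : G, (∀ x ∈ h.E1, g * x * g⁻¹ ∈ h.E1) ∧ g * a * g⁻¹ = h.z := by
  obtain ⟨c, hc⟩ := isConj_iff.1 hc
  have hca : c⁻¹ * a * c⁻¹⁻¹ = h.z := by rw [← hc]; group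
  set A : Subgroup G := h.E1.map (MulAut.conj c⁻¹).toMonoidHom with hA
  have hAC : A ≤ centralizer ({h.z} : Set G) := by
    rintro _ ⟨x, hx, rfl⟩
    rw [mem_centralizer_singleton_iff, ← hca]
    show c⁻¹ * x * c⁻¹⁻¹ * (c⁻¹ * a * c⁻¹⁻¹) = c⁻¹ * a * c⁻¹⁻¹ * (c⁻¹ * x * c⁻¹⁻¹)
    calc c⁻¹ * x * c⁻¹⁻¹ * (c⁻¹ * a * c⁻¹⁻¹) = c⁻¹ * (x * a) * c⁻¹⁻¹ := by group
      _ = c⁻¹ * (a * x) * c⁻¹⁻¹ := by rw [elem_comm (big_E1 h).1 x hx a ha]
      _ = _ := by group
  have hAp : IsPGroup 2 A := (isPGroup_of_elem (big_E1 h).1).map _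
  obtain ⟨d, hd, hdS⟩ := exists_conj_le A _ h.S hAp hAC (h.relIndex_odd h.S_le_centralizer_z)
  have hd' : d * h.z = h.z * d := mem_centralizer_singleton_iff.1 hd
  set g : G := d * c⁻¹ with hg
  have hga : g * a * g⁻¹ = h.z := by
    calc g * a * g⁻¹ = d * (c⁻¹ * a * c⁻¹⁻¹) * d⁻¹ := by rw [hg]; group
      _ = h.z := by rw [hca, hd']; group
  have hgS : ∀ x ∈ h.E1, g * x * g⁻¹ ∈ h.S := by
    intro x hx
    have h1 := hdS _ ⟨x, hx, rfl⟩
    have h2 : d * (c⁻¹ * x * c⁻¹⁻¹) * d⁻¹ = g * x * g⁻¹ := by rw [hg]; group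
    rw [← h2]; exact h1
  have hle : h.E1.map (MulAut.conj g).toMonoidHom ≤ h.S := by
    rintro _ ⟨x, hx, rfl⟩
    exact hgS x hx
  have hsq : ∀ x ∈ h.E1.map (MulAut.conj g).toMonoidHom, x * x = 1 := by
    rintro _ ⟨x, hx, rfl⟩
    rw [← map_mul, elem_sq (big_E1 h).1 hx, map_one]
  have hcard : Nat.card (h.E1.map (MulAut.conj g).toMonoidHom) = 16 := by
    rw [card_map_of_injective (MulAut.conj g).injective]
    exact (h.card_map T.E1).trans T.card_E1
  rcases elem_sixteen h hle hsq hcard with h1 | h1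
  · refine ⟨g, ?_, hga⟩
    intro x hx
    rw [← h1]
    exact ⟨x, hx, rfl⟩
  · refine ⟨h.tau * g, ?_, ?_⟩
    · intro x hx
      have h2 : g * x * g⁻¹ ∈ h.E2 := by
        rw [← h1]
        exact ⟨x, hx, rfl⟩
      obtain ⟨t, ht, e⟩ := h2
      have h3 : h.tau * g * x * (h.tau * g)⁻¹ = h.φ T.tau * (g * x * g⁻¹) * (h.φ T.tau)⁻¹ := by
        show h.φ T.tau * g * x * (h.φ T.tau * g)⁻¹ = _
        group
      rw [h3, ← e, h.phi_conj]
      exact ⟨_, T.tau_swap' t ht, rfl⟩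
    · calc h.tau * g * a * (h.tau * g)⁻¹ = h.tau * (g * a * g⁻¹) * h.tau⁻¹ := by group
        _ = h.z := by rw [hga, ← h.z_comm h.tau_mem_S]; group

/-- Involutions of `S` are `C(z)`-conjugate into `E1`. -/
theorem S_to_E1 (hf : Fused h) {t : G} (ht : t ∈ h.S) (ht2 : orderOf t = 2) :
    ∃ m ∈ centralizer ({h.z} : Set G), m * t * m⁻¹ ∈ h.E1 := by
  obtain ⟨s, rfl⟩ := ht
  have hss : s * s = 1 := by
    apply h.inj
    rw [map_mul, map_one]
    exact sq_of_orderOf ht2
  by_cases hsR : s ∈ T.R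
  · rcases T.inv_R s hss hsR with h1 | h1
    · exact ⟨1, one_mem _, by simpa using h.phi_mem_E1.2 h1⟩
    · refine ⟨h.tau, h.S_le_centralizer_z h.tau_mem_S, ?_⟩
      show h.φ T.tau * h.φ s * (h.φ T.tau)⁻¹ ∈ h.E1
      rw [h.phi_conj]
      exact ⟨_, T.tau_swap' s h1, rfl⟩
  · have hs : s.s = true := by
      rw [T.mem_R] at hsR
      simpa using hsR
    obtain ⟨g, hg⟩ := T.tau_conj s hs hss
    obtain ⟨k, hkz, -, hkv⟩ := hf.f2
    refine ⟨k * h.φ g, mul_mem (mem_centralizer_singleton_iff.2 hkz)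
      (h.S_le_centralizer_z (h.phi_mem_S g)), ?_⟩
    have h1 : k * h.φ g * h.φ s * (k * h.φ g)⁻¹ = k * (h.φ g * h.φ s * (h.φ g)⁻¹) * k⁻¹ := by
      group
    rw [h1, h.phi_conj, hg]
    show k * h.tau * k⁻¹ ∈ h.E1
    rw [hkv]
    exact v_mem_E1 h

theorem exists_conj_mem_S [Finite G] {b : G} (hb : orderOf b = 2) : ∃ c : G, c * b * c⁻¹ ∈ h.S := by
  have hp : IsPGroup 2 (zpowers b) := by
    rw [IsPGroup.iff_card]; exact ⟨1, by rw [Nat.card_zpowers, hb]; norm_num⟩
  obtain ⟨c, -, hc⟩ := exists_conj_le (zpowers b) ⊤ h.S hp le_top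
    (by rw [relIndex_top_right]; exact h.odd_index)
  exact ⟨c, hc b (mem_zpowers b)⟩

theorem orderOf_conj (g a : G) : orderOf (g * a * g⁻¹) = orderOf a :=
  orderOf_injective (MulAut.conj g).toMonoidHom (MulAut.conj g).injective a

/-- The involutions of `G`. -/
theorem conj_cases [Finite G] (hf : Fused h) {b : G} (hb : orderOf b = 2) :
    ∃ g : G, g * b * g⁻¹ = h.z ∨
      (g * b * g⁻¹ ∈ h.E1 ∧ g * b * g⁻¹ ∉ h.U ∧ ¬ IsConj h.z (g * b * g⁻¹)) := by
  by_cases hc : IsConj b h.z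
  · obtain ⟨g, hg⟩ := isConj_iff.1 hc
    exact ⟨g, Or.inl hg⟩
  · obtain ⟨c, hcS⟩ := exists_conj_mem_S h hb
    obtain ⟨m, -, hm⟩ := S_to_E1 h hf hcS (by rw [orderOf_conj, hb])
    have e : m * (c * b * c⁻¹) * m⁻¹ = (m * c) * b * (m * c)⁻¹ := by group
    rw [e] at hm
    have hnc : ¬ IsConj h.z ((m * c) * b * (m * c)⁻¹) := by
      intro hz
      apply hc
      exact (isConj_iff.2 ⟨m * c, rfl⟩ : IsConj b ((m * c) * b * (m * c)⁻¹)).trans hz.symm
    refine ⟨m * c, Or.inr ⟨hm, ?_, hnc⟩⟩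
    intro hU
    obtain ⟨g, -, hg⟩ := U_to_z hf hU (by
      intro h1
      have h2 := orderOf_conj (m * c) b
      rw [h1, orderOf_one, hb] at h2
      norm_num at h2)
    exact hnc (isConj_iff.2 ⟨g, hg⟩ : IsConj ((m * c) * b * (m * c)⁻¹) h.z).symm

/-- the 2-layer of `C(z)` is trivial -/
theorem pLayer_z [Finite G] (cz : CZ h) : pLayer 2 ↥(centralizer ({h.z} : Set G)) = ⊥ := by
  set C := centralizer ({h.z} : Set G) with hC
  have hQC : h.Q ≤ C := Q_le_C h
  have hKC : centralizerPPrimeCore 2 h.z ≤ C := K_le_C h.z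
  have hK : (centralizerPPrimeCore 2 h.z).subgroupOf C = pPrimeCore 2 C := by
    unfold centralizerPPrimeCore
    exact Subgroup.comap_map_eq_self_of_injective C.subtype_injective _
  have hsub : (h.Q ⊔ centralizerPPrimeCore 2 h.z).subgroupOf C =
      h.Q.subgroupOf C ⊔ pPrimeCore 2 C := by
    rw [Subgroup.subgroupOf_sup hQC hKC, hK]
  refine BalancedTools.pLayer_eq_bot (Q := h.Q.subgroupOf C)
    ((h.isPGroup_S.to_le h.Q_le_S).comap_of_injective C.subtype C.subtype_injective) ?_ ?_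
  · rw [← hsub]
    constructor
    intro x hx c
    exact sup_normal h cz c.2 hx
  · intro g hg
    rw [← hsub]
    apply cz.cent g (mem_centralizer_singleton_iff.1 g.2)
    intro x hx
    have h1 := hg ⟨x, hQC hx⟩ hx
    rw [← hK] at h1
    exact h1

/-- The core functor is balanced. -/
theorem fun_of [Finite G] (hf : Fused h) (cz : CZ h)
    (hbal : ∀ e ∈ h.E1, e ∉ h.U → ¬ IsConj h.z e → ∀ a : G, orderOf a = 2 → a * e = e * a →
      centralizerPPrimeCore 2 a ⊓ centralizer ({e} : Set G) ≤ centralizerPPrimeCore 2 e) :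
    Fun G := by
  have : Fact (Nat.Prime 2) := ⟨Nat.prime_two⟩
  refine ⟨?_, ?_⟩
  · intro a _
    apply Cfsg.Agent.S0205.result
    rw [← Nat.not_even_iff_odd, even_iff_two_dvd]
    exact K_odd a
  · intro a b ha hb hab
    obtain ⟨g, hg⟩ := conj_cases h hf hb
    have ha' : orderOf (g * a * g⁻¹) = 2 := by rw [orderOf_conj, ha]
    have hab' : (g * a * g⁻¹) * (g * b * g⁻¹) = (g * b * g⁻¹) * (g * a * g⁻¹) := by
      calc (g * a * g⁻¹) * (g * b * g⁻¹) = g * (a * b) * g⁻¹ := by group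
        _ = (g * b * g⁻¹) * (g * a * g⁻¹) := by rw [hab]; group
    have key : centralizerPPrimeCore 2 (g * a * g⁻¹) ⊓ centralizer ({g * b * g⁻¹} : Set G) ≤
        centralizerPPrimeCore 2 (g * b * g⁻¹) := by
      rcases hg with hg | hg
      · rw [hg] at hab' ⊢
        exact S1295.balance 2 ha' (pLayer_z h cz) hab'
      · exact hbal _ hg.1 hg.2.1 hg.2.2 _ ha' hab'
    intro x hx
    have h1 : g * x * g⁻¹ ∈ centralizerPPrimeCore 2 (g * b * g⁻¹) := by
      apply key
      refine ⟨?_, ?_⟩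
      · rw [th_conj]; exact ⟨x, hx.1, rfl⟩
      · rw [← S1295.centralizer_conj]; exact ⟨x, hx.2, rfl⟩
    rw [th_conj] at h1
    obtain ⟨y, hy, e⟩ := h1
    have h3 : g * y * g⁻¹ = g * x * g⁻¹ := e
    rwa [← mul_left_cancel (mul_right_cancel h3)]

/-- The core functor is balanced: only `E1` needs to be checked. -/
theorem fun_of' [Finite G] (hf : Fused h) (cz : CZ h)
    (hsyl : ∀ e ∈ h.E1, e ∉ h.U → ¬ IsConj h.z e → ∀ a : G, orderOf a = 2 → a * e = e * a →
      ∃ c : G, c * e = e * c ∧ c * a * c⁻¹ ∈ h.E1)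
    (hbal : ∀ e ∈ h.E1, e ∉ h.U → ¬ IsConj h.z e → ∀ a ∈ h.E1, a ≠ 1 →
      centralizerPPrimeCore 2 a ⊓ centralizer ({e} : Set G) ≤ centralizerPPrimeCore 2 e) :
    Fun G := by
  have : Fact (Nat.Prime 2) := ⟨Nat.prime_two⟩
  refine fun_of h hf cz ?_
  intro e he heU hez a ha hae x hx
  obtain ⟨c, hce, hca⟩ := hsyl e he heU hez a ha hae
  have h1 : c * x * c⁻¹ ∈ centralizerPPrimeCore 2 e := by
    apply hbal e he heU hez _ hca
    · intro h1
      have h2 := orderOf_conj c a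
      rw [h1, orderOf_one, ha] at h2
      norm_num at h2
    · refine mem_inf.2 ⟨?_, ?_⟩
      · rw [th_conj]; exact ⟨x, hx.1, rfl⟩
      · have h2 := mem_centralizer_singleton_iff.1 hx.2
        rw [mem_centralizer_singleton_iff]
        have hce' : c⁻¹ * e = e * c⁻¹ := ((show Commute c e from hce).inv_left).eq
        calc c * x * c⁻¹ * e = c * x * (c⁻¹ * e) := by group
          _ = c * (x * e) * c⁻¹ := by rw [hce']; group
          _ = c * e * x * c⁻¹ := by rw [h2]; group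
          _ = e * (c * x * c⁻¹) := by rw [hce]; group
  have h2 : c⁻¹ ∈ centralizer ({e} : Set G) :=
    inv_mem (mem_centralizer_singleton_iff.2 hce)
  have h3 := K_normal h2 h1
  have h4 : c⁻¹ * (c * x * c⁻¹) * c⁻¹⁻¹ = x := by group
  rwa [h4] at h3

/-- `N(S) ≤ C(z)` -/
theorem normalizer_S_le : normalizer (h.S : Set G) ≤ centralizer ({h.z} : Set G) := by
  intro n hn
  have h1 : n * h.z * n⁻¹ ∈ h.S := (mem_normalizer_iff.1 hn _).1 h.z_mem_S
  obtain ⟨t, ht⟩ := h1
  have h2 : ∀ y : T, t * y = y * t := by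
    intro y
    apply h.inj
    rw [map_mul, map_mul, ht]
    have h3 : n⁻¹ * h.φ y * n ∈ h.S := by
      have := (mem_normalizer_iff.1 (inv_mem hn) (h.φ y)).1 (h.phi_mem_S y)
      simpa using this
    have h4 := h.z_comm h3
    calc n * h.z * n⁻¹ * h.φ y = n * (h.z * (n⁻¹ * h.φ y * n)) * n⁻¹ := by group
      _ = n * (n⁻¹ * h.φ y * n * h.z) * n⁻¹ := by rw [h4]
      _ = h.φ y * (n * h.z * n⁻¹) := by group
  rcases T.center_eq t h2 with h3 | h3
  · exfalso
    rw [h3, map_one] at ht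
    apply z_ne_one h
    have h4 : h.z = n⁻¹ * (n * h.z * n⁻¹) * n := by group
    rw [h4, ← ht]; group
  · rw [mem_centralizer_singleton_iff]
    have h4 : n * h.z * n⁻¹ = h.z := by rw [← ht, h3]; rfl
    calc n * h.z = (n * h.z * n⁻¹) * n := by group
      _ = h.z * n := by rw [h4]

/-- The hypotheses of `BalancedEnd.core_eq_bot`. -/
theorem main [Finite G] (hf : Fused h) (cz : CZ h) (hF : Fun G)
    (hfr : ∀ e ∈ h.E1, e ∉ h.U → ¬ IsConj h.z e →
      centralizer ({e} : Set G) ≤ normalizer (W h.E1 : Set G)) :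
    normalizer (h.S : Set G) ≤ normalizer (W h.E1 : Set G) ∧
    (∀ a ∈ h.E1, a ≠ 1 → centralizer ({a} : Set G) ≤ normalizer (W h.E1 : Set G)) ∧
    (∀ t ∈ h.S, orderOf t = 2 → ∃ m ∈ normalizer (W h.E1 : Set G), m * t * m⁻¹ ∈ h.E1) := by
  have hCz := centralizer_z_le hf cz hF
  refine ⟨(normalizer_S_le h).trans hCz, ?_, ?_⟩
  · intro a ha ha1
    by_cases haU : a ∈ h.U
    · obtain ⟨g, hgR, hga⟩ := U_to_z hf haU ha1
      exact centralizer_le_of_conj hCz (mem_normalizer_U hF (conj_U h hgR)) hga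
    · by_cases hc : IsConj h.z a
      · obtain ⟨g, hgE, hga⟩ := E1_to_z h ha hc
        exact centralizer_le_of_conj hCz (mem_normalizer_E1 hgE) hga
      · exact hfr a ha haU hc
  · intro t ht ht2
    obtain ⟨m, hm, hmt⟩ := S_to_E1 h hf ht ht2
    exact ⟨m, hCz hm, hmt⟩

/-- From helper322's description of `C(e)`. -/
theorem centralizer_e_le [Finite G] (hF : Fun G) {V : Subgroup G} (hV : V ≤ h.E1)
    (h4 : 4 ≤ Nat.card V) {e : G} (heV : e ∈ h.E1) (he1 : e ≠ 1)
    (hc : ∀ c : G, c * e = e * c → ∀ v ∈ V, c * v * c⁻¹ * v⁻¹ ∈ centralizerPPrimeCore 2 e) :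
    centralizer ({e} : Set G) ≤ normalizer (W h.E1 : Set G) := by
  refine BalancedEnd.centralizer_le_of_frattini hF (big_E1 h) hV h4 heV he1 ?_
  intro c hcC
  obtain ⟨o, ho, n, -, hn, e⟩ := BalancedTools.frattini (K := centralizerPPrimeCore 2 e)
    (C := centralizer ({e} : Set G)) (V := V)
    ((isPGroup_of_elem (big_E1 h).1).to_le hV)
    (fun x hx => mem_centralizer_singleton_iff.2 (elem_comm (big_E1 h).1 x (hV hx) e heV))
    (K_le_C e) (K_odd e) (fun _ hc _ hk => K_normal hc hk) (by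
      intro c hc' v hv
      have h1 := hc c (mem_centralizer_singleton_iff.1 hc') v hv
      have h2 := mul_mem (Subgroup.mem_sup_right h1 :
        c * v * c⁻¹ * v⁻¹ ∈ V ⊔ centralizerPPrimeCore 2 e) (Subgroup.mem_sup_left hv)
      simpa only [_root_.inv_mul_cancel_right] using h2) hcC
  exact ⟨o, ho, n, hn, e⟩

end Cfsg.Agent.J2Sylow.Balanced
end

-- part: J2Sylow/Final
section
/-!
The final step of the characterisation of `J₂` and `J₃` by a Sylow 2-subgroup: `C(z) = Q : A₅`.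
-/

set_option autoImplicit false

namespace Cfsg.Agent.J2Sylow.Final

open Cfsg Subgroup Model

theorem zQ : T.z ∈ T.Q := by decide

theorem dec_center : ∀ x : T, x ∈ T.Q → (∀ y : T, y ∈ T.Q → y * x = x * y) → x = 1 ∨ x = T.z := by
  decide +kernel

theorem dec_sq : ∀ x : T, x ∈ T.Q → x * x = 1 ∨ x * x = T.z := by decide +kernel

theorem dec_nonab : ∃ x y : T, x ∈ T.Q ∧ y ∈ T.Q ∧ x * y ≠ y * x := by decide +kernel

theorem dec_comm : ∀ x y : T, x ∈ T.Q → y ∈ T.Q → x * x = 1 → y * y = 1 → x * y = y * x →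
    x = 1 ∨ x = T.z ∨ y = 1 ∨ y = T.z ∨ y = x ∨ y = x * T.z := by decide +kernel

theorem z_ne : T.z ≠ 1 := by decide

/-- the model of the extraspecial group -/
theorem isExtraspecial_Q : Cfsg.IsExtraspecial 2 T.Q := by
  haveI : Fact (Nat.Prime 2) := ⟨Nat.prime_two⟩
  have hP : IsPGroup 2 T.Q := by
    rw [IsPGroup.iff_card]; exact ⟨5, by rw [T.card_Q]; norm_num⟩
  have hz : (⟨T.z, zQ⟩ : T.Q) ∈ center T.Q := by
    rw [mem_center_iff]
    intro g
    exact Subtype.ext (T.z_comm g).symm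
  have hc : ∀ x : T.Q, x ∈ center T.Q ↔ (x = 1 ∨ x = ⟨T.z, zQ⟩) := by
    intro x
    constructor
    · intro hx
      rw [mem_center_iff] at hx
      rcases dec_center x x.2 (fun y hy => congrArg Subtype.val (hx ⟨y, hy⟩)) with h | h
      · left; exact Subtype.ext h
      · right; exact Subtype.ext h
    · rintro (rfl | rfl)
      · exact one_mem _
      · exact hz
  have hset : ((center T.Q : Subgroup T.Q) : Set T.Q) = {1, ⟨T.z, zQ⟩} := by
    ext x
    exact hc x
  refine J2.ExtQuot.isExtraspecial_two hP ?_ ?_ ?_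
  · show Nat.card ((center T.Q : Subgroup T.Q) : Set T.Q) = 2
    rw [hset, Nat.card_coe_set_eq, Set.ncard_pair]
    intro h
    exact z_ne (congrArg Subtype.val h).symm
  · intro x
    rw [hc]
    rcases dec_sq x x.2 with h | h
    · left; rw [pow_two]; exact Subtype.ext h
    · right; rw [pow_two]; exact Subtype.ext h
  · obtain ⟨x, y, hx, hy, hxy⟩ := dec_nonab
    exact ⟨⟨x, hx⟩, ⟨y, hy⟩, fun h => hxy (congrArg Subtype.val h)⟩

/-- elementary abelian subgroups of the extraspecial group -/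
theorem card_le_four {P : Type*} [Group P] (e : P ≃* T.Q) (E : Subgroup P)
    (hE : Cfsg.IsElementaryAbelian 2 E) : Nat.card E ≤ 2 ^ 2 := by
  classical
  haveI : Finite P := Finite.of_equiv _ e.symm.toEquiv
  have hcomm : ∀ x ∈ E, ∀ y ∈ E, x * y = y * x := by
    intro x hx y hy
    have := hE.1.is_comm.comm (⟨x, hx⟩ : E) ⟨y, hy⟩
    exact congrArg Subtype.val this
  have hsq : ∀ x ∈ E, x * x = 1 := fun x hx => by rw [← pow_two]; exact hE.2 x hx
  let f : P → T := fun x => (e x : T)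
  have hf : Function.Injective f := fun x y h => e.injective (Subtype.ext h)
  have hfm : ∀ x y : P, f (x * y) = f x * f y := fun x y => by simp only [f, _root_.map_mul, _root_.Subgroup.coe_mul]
  have hf1 : f 1 = 1 := by simp only [f, _root_.map_one, _root_.OneMemClass.coe_one]
  -- the image is contained in a set with four elements
  have key : ∃ s : Finset T, s.card ≤ 4 ∧ ∀ x ∈ E, f x ∈ s := by
    by_cases h : ∃ x ∈ E, f x ≠ 1 ∧ f x ≠ T.z
    · obtain ⟨x, hx, h1, h2⟩ := h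
      refine ⟨{1, T.z, f x, f x * T.z}, Finset.card_le_four, ?_⟩
      intro y hy
      have hx2 : f x * f x = 1 := by rw [← hfm, hsq x hx, hf1]
      have hy2 : f y * f y = 1 := by rw [← hfm, hsq y hy, hf1]
      have hxy : f x * f y = f y * f x := by rw [← hfm, hcomm x hx y hy, hfm]
      simp only [Finset.mem_insert, Finset.mem_singleton]
      rcases dec_comm (f x) (f y) (e x).2 (e y).2 hx2 hy2 hxy with h3 | h3 | h3 | h3 | h3 | h3
      · exact absurd h3 h1
      · exact absurd h3 h2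
      · left; exact h3
      · right; left; exact h3
      · right; right; left; exact h3
      · right; right; right; exact h3
    · push Not at h
      refine ⟨{1, T.z}, (Finset.card_le_two).trans (by norm_num), ?_⟩
      intro y hy
      simp only [Finset.mem_insert, Finset.mem_singleton]
      by_cases h1 : f y = 1
      · left; exact h1
      · right; exact h y hy h1
  obtain ⟨s, hs, hsE⟩ := key
  have h1 : Nat.card E ≤ Nat.card s :=
    Nat.card_le_card_of_injective (fun x : E => (⟨f x, hsE x x.2⟩ : s))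
      (fun x y h => by
        have h2 : f x = f y := congrArg (fun w : s => (w : T)) h
        exact Subtype.ext (hf h2))
  rw [Nat.card_eq_fintype_card (α := s), Fintype.card_coe] at h1
  omega

variable {G : Type*} [Group G] [Finite G]

omit [Finite G] in
theorem orderOf_z (h : Setup G) : orderOf h.z = 2 := by
  have h1 : orderOf T.z = 2 := orderOf_eq_prime (by decide) z_ne
  rw [← h1]
  exact orderOf_injective h.φ h.inj T.z

omit [Finite G] in
theorem Q_le (h : Setup G) : h.Q ≤ centralizer ({h.z} : Set G) := by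
  rintro _ ⟨x, -, rfl⟩
  rw [mem_centralizer_singleton_iff]
  show h.φ x * h.φ T.z = h.φ T.z * h.φ x
  rw [← map_mul, ← map_mul, T.z_comm]

/-- the isomorphism of `Q` with its model -/
noncomputable def equivQ (h : Setup G) : (h.Q.subgroupOf (centralizer ({h.z} : Set G))) ≃* T.Q :=
  (subgroupOfEquivOfLe (Q_le h)).trans (T.Q.equivMapOfInjective h.φ h.inj).symm

omit [Finite G] in
/-- the data about `C(z)` needed for the recognition theorems -/
theorem data (h : Setup G)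
    (hc : ∀ g, g * h.z = h.z * g → (∀ x ∈ h.Q, g * x = x * g) → g ∈ h.Q) :
    Cfsg.IsExtraspecial 2 (h.Q.subgroupOf (centralizer ({h.z} : Set G))) ∧
    Nat.card (h.Q.subgroupOf (centralizer ({h.z} : Set G))) = 32 ∧
    (∀ E : Subgroup (h.Q.subgroupOf (centralizer ({h.z} : Set G))),
      Cfsg.IsElementaryAbelian 2 E → Nat.card E ≤ 2 ^ 2) ∧
    centralizer ((h.Q.subgroupOf (centralizer ({h.z} : Set G)) :
      Subgroup (centralizer ({h.z} : Set G))) : Set (centralizer ({h.z} : Set G))) ≤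
      h.Q.subgroupOf (centralizer ({h.z} : Set G)) := by
  refine ⟨J2.ExtQuot.isExtraspecial_of_equiv (equivQ h).symm isExtraspecial_Q, ?_,
    fun E hE => card_le_four (equivQ h) E hE, ?_⟩
  · rw [Nat.card_congr (equivQ h).toEquiv, T.card_Q]
  · intro x hx
    rw [mem_subgroupOf]
    refine hc x (mem_centralizer_singleton_iff.mp x.2) ?_
    intro q hq
    have h1 := (mem_centralizer_iff.mp hx) ⟨q, Q_le h hq⟩ (mem_subgroupOf.mpr hq)
    exact (congrArg Subtype.val h1).symm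

/-- The final step for `J₂`. -/
theorem isoJ2_of [IsSimpleGroup G] (h : Setup G)
    (hN : (h.Q.subgroupOf (centralizer ({h.z} : Set G))).Normal)
    (hq : Nonempty ((centralizer ({h.z} : Set G)) ⧸ h.Q.subgroupOf (centralizer ({h.z} : Set G)) ≃*
      alternatingGroup (Fin 5)))
    (hc : ∀ g, g * h.z = h.z * g → (∀ x ∈ h.Q, g * x = x * g) → g ∈ h.Q)
    (hcl : ∃ e : G, ∀ t : G, orderOf t = 2 → IsConj h.z t ∨ IsConj e t)
    (hone : ¬ ∀ x y : G, orderOf x = 2 → orderOf y = 2 → IsConj x y) :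
    Cfsg.Spor.IsoJ2 G := by
  haveI := hN
  obtain ⟨eA⟩ := hq
  obtain ⟨e, he⟩ := hcl
  obtain ⟨hQ, hcard, hminus, h2c⟩ := data h hc
  refine S1665.result h.z (orderOf_z h) _ hQ hcard hminus h2c eA ?_
  -- `e` is an involution, not conjugate to `z`
  have hex : ∃ t : G, orderOf t = 2 ∧ ¬ IsConj h.z t := by
    by_contra hcon
    push Not at hcon
    exact hone fun x y hx hy => (hcon x hx).symm.trans (hcon y hy)
  obtain ⟨t, ht2, htz⟩ := hex
  have het : IsConj e t := (he t ht2).resolve_left htz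
  refine ⟨h.z, t, orderOf_z h, ht2, htz, ?_⟩
  intro x hx
  rcases he x hx with h1 | h1
  · left; exact h1.symm
  · right; exact h1.symm.trans het

end Cfsg.Agent.J2Sylow.Final
end

-- part: J2Sylow/FinalJ3
section
/-!
The final step of the characterisation of `J₂` and `J₃` by a Sylow 2-subgroup: `C(z) = Q : A₅`.
-/

set_option autoImplicit false

namespace Cfsg.Agent.J2Sylow.FinalJ3

open Cfsg Subgroup Model Cfsg.Agent.J2Sylow.Final

variable {G : Type*} [Group G] [Finite G]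

/-- The final step for `J₃`. -/
theorem isoJ3_of [IsSimpleGroup G] (h : Setup G)
    (hN : (h.Q.subgroupOf (centralizer ({h.z} : Set G))).Normal)
    (hq : Nonempty ((centralizer ({h.z} : Set G)) ⧸ h.Q.subgroupOf (centralizer ({h.z} : Set G)) ≃*
      alternatingGroup (Fin 5)))
    (hc : ∀ g, g * h.z = h.z * g → (∀ x ∈ h.Q, g * x = x * g) → g ∈ h.Q)
    (hone : ∀ x y : G, orderOf x = 2 → orderOf y = 2 → IsConj x y) :
    Cfsg.Spor.IsoJ3 G := by
  haveI := hN
  obtain ⟨eA⟩ := hq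
  obtain ⟨hQ, hcard, hminus, h2c⟩ := data h hc
  exact S1658.result h.z (orderOf_z h) _ hQ hcard hminus h2c eA hone

/-- The final step. -/
theorem isoJ2_or_isoJ3 [IsSimpleGroup G] (h : Setup G)
    (hN : (h.Q.subgroupOf (centralizer ({h.z} : Set G))).Normal)
    (hq : Nonempty ((centralizer ({h.z} : Set G)) ⧸ h.Q.subgroupOf (centralizer ({h.z} : Set G)) ≃*
      alternatingGroup (Fin 5)))
    (hc : ∀ g, g * h.z = h.z * g → (∀ x ∈ h.Q, g * x = x * g) → g ∈ h.Q)
    (hcl : ∃ e : G, ∀ t : G, orderOf t = 2 → IsConj h.z t ∨ IsConj e t) :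
    Cfsg.Spor.IsoJ2 G ∨ Cfsg.Spor.IsoJ3 G := by
  by_cases hone : ∀ x y : G, orderOf x = 2 → orderOf y = 2 → IsConj x y
  · right
    exact isoJ3_of h hN hq hc hone
  · left
    exact isoJ2_of h hN hq hc hcl hone

end Cfsg.Agent.J2Sylow.FinalJ3
end

-- part: J2Sylow/Main
section
/-!
The main theorem on groups with a Sylow 2-subgroup of J2 type.
-/

set_option autoImplicit false

namespace Cfsg.Agent.J2Sylow.Main

open Subgroup Model Cfsg
open Cfsg.Agent.Dichotomy.Elem Cfsg.Agent.Dichotomy.Functor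
open Cfsg.Agent.J2Sylow.TabAll Cfsg.Agent.J2Sylow.E1J2 Cfsg.Agent.J2Sylow.Twist
open Cfsg.Agent.J2Sylow.VaSub Cfsg.Agent.Lib

universe u

/-- strongly embedded subgroups have their cores in the core of the group (S1221) -/
def SECore : Prop := ∀ {G : Type u} [Group G] [Finite G] (H : Subgroup G),
  IsStronglyEmbedded H → (Cfsg.oddCore ↥H).map H.subtype ≤ Cfsg.oddCore G

section

variable {G : Type u} [Group G]

theorem cz_of_centZ {h : Setup G} (c : CentZ h) : Balanced.CZ h := by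
  have := c.normal
  obtain ⟨e⟩ := c.quot
  refine ⟨⟨e.toMonoidHom.comp (QuotientGroup.mk' _), ?_⟩, c.cent⟩
  have h1 : (e.toMonoidHom.comp (QuotientGroup.mk' ((h.Q ⊔ Functor.K h.z).subgroupOf
      (centralizer ({h.z} : Set G))))).ker = (QuotientGroup.mk' ((h.Q ⊔ Functor.K h.z).subgroupOf
      (centralizer ({h.z} : Set G)))).ker := MonoidHom.ker_mulEquiv_comp _ e
  rw [h1, QuotientGroup.ker_mk']

/-- A normal subgroup of odd order lies in the odd core. -/
theorem le_oddCore {G : Type*} [Group G] {N : Subgroup G} (hN : N.Normal)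
    (hodd : ¬ 2 ∣ Nat.card N) : N ≤ Cfsg.oddCore G :=
  le_sSup ⟨hN, ((Nat.Prime.coprime_iff_not_dvd Nat.prime_two).mpr hodd).symm⟩

theorem oddCore_eq_bot [Finite G] [IsSimpleGroup G] (h : Setup G) : Cfsg.oddCore G = ⊥ := by
  have h1 : (Cfsg.oddCore G).Normal := Cores.pPrimeCore_normal (G := G) 2
  rcases h1.eq_bot_or_eq_top with h2 | h2
  · exact h2
  · exfalso
    have h3 := Cores.pPrimeCore_coprime (G := G) 2
    have h4 := h.card_dvd
    rw [show pPrimeCore 2 G = ⊤ from h2, card_top, Nat.coprime_two_right] at h3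
    rw [Nat.odd_iff] at h3
    omega

/-- In the J3-type and the J2-type case the core functor is balanced. -/
theorem fun_of_simple (hSF : Functor.SolvFun.{u}) (hFT : Functor.OddSolv.{u})
    (hZS : ZNonsing.ZStar.{u}) (gw : CentPSL.GW.{u}) [Finite G] (h : Setup G) (F : Fused h) :
    Fun G := by
  have c := centZ_of hSF hFT hZS h F
  have hc := cz0_of c
  have cz := cz_of_centZ c
  by_cases hn : IsConj h.z h.a
  · have hall : ∀ e ∈ h.E1, e ∉ h.U → IsConj h.z e := by
      rintro _ ⟨x, hx, rfl⟩ hU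
      have hxU : x ∉ T.U := fun h1 => hU ⟨x, h1, rfl⟩
      exact hn.trans (h.isConj_E1 F hx hxU).symm
    exact Balanced.fun_of' h F cz (fun e he hU hcn => absurd (hall e he hU) hcn)
      (fun e he hU hcn => absurd (hall e he hU) hcn)
  · have hJ : J2 h := (J2_iff hc).mpr hn
    refine Balanced.fun_of' h F cz ?_ ?_
    · intro e he hU _ a ha hae
      exact CentA.conj_mem_E1 F hJ he hU ha hae
    · intro e he hU _ a ha ha1
      exact balance_final hSF hFT hZS gw F hn ha ha1 he hU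

/-- All the cores `O(C(t))` are trivial. -/
theorem core_eq_bot (hSF : Functor.SolvFun.{u}) (hFT : Functor.OddSolv.{u})
    (hZS : ZNonsing.ZStar.{u}) (gw : CentPSL.GW.{u}) (hse : SECore.{u}) [Finite G]
    [IsSimpleGroup G] (h : Setup G) (F : Fused h) :
    ∀ t : G, orderOf t = 2 → centralizerPPrimeCore 2 t = ⊥ := by
  have c := centZ_of hSF hFT hZS h F
  have hc := cz0_of c
  have cz := cz_of_centZ c
  have hF := fun_of_simple hSF hFT hZS gw h F
  have hfr : ∀ e ∈ h.E1, e ∉ h.U → ¬ IsConj h.z e →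
      centralizer ({e} : Set G) ≤ normalizer (W h.E1 : Set G) := by
    intro e he hU hze
    have hn : ¬ IsConj h.z h.a := by
      intro hn
      obtain ⟨x, hx, rfl⟩ := he
      have hxU : x ∉ T.U := fun h1 => hU ⟨x, h1, rfl⟩
      exact hze (hn.trans (h.isConj_E1 F hx hxU).symm)
    have hJ : J2 h := (J2_iff hc).mpr hn
    obtain ⟨r, hr⟩ := exists_rot F hJ hc he hU
    exact Balanced.centralizer_e_le h hF (V := Va h e) Va_le (hr.card_Va F hJ he hU).ge he
      (fun h1 => hU (h1 ▸ one_mem _))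
      (fun c hc v hv => CentA.central' F hJ he hU hr hv hc)
  obtain ⟨hNS, hCA, hinv⟩ := Balanced.main h F cz hF hfr
  refine (BalancedEnd.core_eq_bot hF h.sylow (Balanced.big_E1 h) ?_ hNS hCA hinv).2
  intro H hH hHW
  have hodd := (complete hF (Balanced.big_E1 h)).1
  have hWH : W h.E1 ≤ H := by
    rw [← hHW]; exact le_normalizer
  have hn : ((W h.E1).subgroupOf H).Normal := by
    rw [← hHW]
    exact normal_in_normalizer
  have h1 : ¬ 2 ∣ Nat.card ((W h.E1).subgroupOf H) := by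
    rwa [Nat.card_congr (subgroupOfEquivOfLe hWH).toEquiv]
  have h2 := le_oddCore hn h1
  have h3 := (map_mono h2 : ((W h.E1).subgroupOf H).map H.subtype ≤ _).trans (hse H hH)
  rw [oddCore_eq_bot h, subgroupOf_map_subtype, inf_eq_left.mpr hWH] at h3
  exact le_bot_iff.mp h3

/-- **The main theorem**: a finite simple group with a Sylow 2-subgroup of J2 type is `J2` or
`J3`. -/
theorem main (hSF : Functor.SolvFun.{u}) (hFT : Functor.OddSolv.{u})
    (hZS : ZNonsing.ZStar.{u}) (gw : CentPSL.GW.{u}) (hse : SECore.{u}) [Finite G]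
    [IsSimpleGroup G] (h : Setup G) : Cfsg.Spor.IsoJ2 G ∨ Cfsg.Spor.IsoJ3 G := by
  have F := h.fused_of_simple
  have c := centZ_of hSF hFT hZS h F
  have hK := core_eq_bot hSF hFT hZS gw hse h F h.z (h.orderOf_phi_two (by decide) (by decide))
  have hK' : Functor.K h.z = ⊥ := hK
  have h1 : h.Q ⊔ Functor.K h.z = h.Q := by rw [hK', sup_bot_eq]
  obtain ⟨hN, hq, hc⟩ := c
  have hN' : (h.Q.subgroupOf (centralizer ({h.z} : Set G))).Normal := by rwa [h1] at hN
  have h1' : (h.Q ⊔ Functor.K h.z).subgroupOf (centralizer ({h.z} : Set G)) =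
      h.Q.subgroupOf (centralizer ({h.z} : Set G)) := by rw [h1]
  refine FinalJ3.isoJ2_or_isoJ3 h hN' (CentZBuild.quot_congr h1' hN hN' hq) ?_ ?_
  · intro g hg hgQ
    have h2 := hc g hg (fun x hx => by
      rw [hgQ x hx, mul_inv_cancel_right, mul_inv_cancel]; exact one_mem _)
    rwa [h1] at h2
  · refine ⟨h.t, fun t ht => ?_⟩
    have h2 : t * t = 1 := by rw [← pow_two, ← ht, pow_orderOf_eq_one]
    have h3 : t ≠ 1 := by rintro rfl; rw [orderOf_one] at ht; norm_num at ht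
    rcases h.isConj_z_or_t F h2 h3 with h4 | h4
    · exact Or.inl h4.symm
    · exact Or.inr h4.symm

end

end Cfsg.Agent.J2Sylow.Main
end

-- part: J2Sylow/Start
section
set_option autoImplicit false

/-!
# The set-up from an isomorphism of a Sylow subgroup with the model
-/

namespace Cfsg.Agent.J2Sylow.Setup

open Model Subgroup

/-- The set-up from an isomorphism with a subgroup of odd index. -/
def ofEquiv {G : Type*} [Group G] (S : Subgroup G) (hS : Odd S.index) (e : T ≃* S) : Setup G where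
  φ := S.subtype.comp e.toMonoidHom
  inj := S.subtype_injective.comp e.injective
  odd_index := by
    have h1 : (S.subtype.comp e.toMonoidHom).range = S := by
      ext x
      constructor
      · rintro ⟨t, rfl⟩
        exact (e t).2
      · intro hx
        exact ⟨e.symm ⟨x, hx⟩, by simp only [_root_.MulEquiv.toMonoidHom_eq_coe, _root_.MonoidHom.coe_comp, _root_.Subgroup.coe_subtype, _root_.MonoidHom.coe_coe, _root_.Function.comp_apply, _root_.MulEquiv.apply_symm_apply]⟩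
    rw [h1]
    exact hS

theorem odd_index_sylow {G : Type*} [Group G] [Finite G] (S : Sylow 2 G) :
    Odd (S : Subgroup G).index := by
  have : Fact (Nat.Prime 2) := ⟨Nat.prime_two⟩
  rw [← Nat.not_even_iff_odd, even_iff_two_dvd]
  exact S.not_dvd_index

/-- The set-up from a Sylow 2-subgroup isomorphic to the model. -/
theorem exists_of_sylow {G : Type*} [Group G] [Finite G] (S : Sylow 2 G)
    (e : Nonempty (T ≃* (S : Subgroup G))) : Nonempty (Setup G) :=
  e.elim fun e => ⟨ofEquiv _ (odd_index_sylow S) e⟩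

end Cfsg.Agent.J2Sylow.Setup
end

-- part: SignalizersComponents/GoldschmidtTwo
section
set_option autoImplicit false

/-!
The solvable signalizer functor theorem for primes `p` that are not Fermat primes, in particular for
`p = 2`, in the form of statement S0217 and with `SolComplete`.
-/

namespace Cfsg.Agent.SignalizersComponents.GoldschmidtTwo

open Subgroup
open Cfsg.Agent.SignalizersComponents.FunctorTools
open Cfsg.Agent.SignalizersComponents.FunctorInduction

universe u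

/-- S0217 for primes that are not Fermat primes. -/
theorem solvable_signalizer_functor_of_not_fermat {G : Type*} [Group G] [Finite G] {p : ℕ}
    [Fact p.Prime] (hF : ∀ m : ℕ, m ≠ 0 → p ≠ 2 ^ m + 1) (A : Subgroup G)
    (hAcomm : ∀ a ∈ A, ∀ b ∈ A, a * b = b * a) (hAexp : ∀ a ∈ A, a ^ p = 1)
    (hArank : p ^ 3 ≤ Nat.card A) (θ : G → Subgroup G)
    (hθC : ∀ a ∈ A, a ≠ 1 → θ a ≤ Subgroup.centralizer {a})
    (hθp : ∀ a ∈ A, a ≠ 1 → ¬ p ∣ Nat.card (θ a))
    (hθinv : ∀ a ∈ A, a ≠ 1 → ∀ b ∈ A, ∀ x ∈ θ a, b * x * b⁻¹ ∈ θ a)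
    (hθsolv : ∀ a ∈ A, a ≠ 1 → Group.IsSolvable (θ a))
    (hbal : ∀ a ∈ A, a ≠ 1 → ∀ b ∈ A, b ≠ 1 → θ a ⊓ Subgroup.centralizer {b} ≤ θ b) :
    ¬ p ∣ Nat.card ↥(⨆ a : {a : G // a ∈ A ∧ a ≠ 1}, θ a) ∧
      ∀ a ∈ A, a ≠ 1 →
        (⨆ b : {a : G // a ∈ A ∧ a ≠ 1}, θ b) ⊓ Subgroup.centralizer {a} = θ a := by
  have hA : Cfsg.IsElementaryAbelian p A :=
    ⟨⟨⟨fun x y => Subtype.ext (hAcomm x x.2 y y.2)⟩⟩, hAexp⟩
  have hθ : Cfsg.IsSolvableSignalizerFunctor p A θ :=
    ⟨⟨hθC, hθp, hθinv, fun a ha ha1 b hb hb1 => hbal a ha ha1 b hb hb1⟩, hθsolv⟩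
  obtain ⟨h1, h2⟩ := SolComplete.conclusion hA hθ
    (ThetaRadicalEnd.solComplete_of_not_fermat hF hA hArank hθ)
  exact ⟨h1.2.1, h2⟩

/-- **The solvable signalizer functor theorem for `2`-groups `A`** (S0217 with `p = 2`). -/
theorem solvable_signalizer_functor_two {G : Type*} [Group G] [Finite G] (A : Subgroup G)
    (hAcomm : ∀ a ∈ A, ∀ b ∈ A, a * b = b * a) (hAexp : ∀ a ∈ A, a ^ 2 = 1)
    (hArank : 2 ^ 3 ≤ Nat.card A) (θ : G → Subgroup G)
    (hθC : ∀ a ∈ A, a ≠ 1 → θ a ≤ Subgroup.centralizer {a})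
    (hθp : ∀ a ∈ A, a ≠ 1 → ¬ 2 ∣ Nat.card (θ a))
    (hθinv : ∀ a ∈ A, a ≠ 1 → ∀ b ∈ A, ∀ x ∈ θ a, b * x * b⁻¹ ∈ θ a)
    (hθsolv : ∀ a ∈ A, a ≠ 1 → Group.IsSolvable (θ a))
    (hbal : ∀ a ∈ A, a ≠ 1 → ∀ b ∈ A, b ≠ 1 → θ a ⊓ Subgroup.centralizer {b} ≤ θ b) :
    ¬ 2 ∣ Nat.card ↥(⨆ a : {a : G // a ∈ A ∧ a ≠ 1}, θ a) ∧
      ∀ a ∈ A, a ≠ 1 →
        (⨆ b : {a : G // a ∈ A ∧ a ≠ 1}, θ b) ⊓ Subgroup.centralizer {a} = θ a :=
  solvable_signalizer_functor_of_not_fermat ThetaRadicalEnd.two_not_fermat A hAcomm hAexp hArank θ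
    hθC hθp hθinv hθsolv hbal

end Cfsg.Agent.SignalizersComponents.GoldschmidtTwo
end

-- part: J2Sylow/MainGW
section
/-!
The main theorem on groups with a Sylow 2-subgroup of J2 type, with the Gorenstein-Walter theorem
(S0483) as the only hypothesis.
-/

set_option autoImplicit false

namespace Cfsg.Agent.J2Sylow.MainGW

universe u

theorem solvFun : Functor.SolvFun.{u} := by
  intro X _ _ A θ h1 h2 h3 h4 h5 h6 h7 h8
  exact (SignalizersComponents.GoldschmidtTwo.solvable_signalizer_functor_two A h1 h2 h3 θ h4 h5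
    h6 h7 h8).1

theorem oddSolv : Functor.OddSolv.{u} := fun _ _ _ hX => S0205.result hX

theorem zStar : ZNonsing.ZStar.{u} := fun _ _ _ P a ha haP h => S0215.result P a ha haP h

theorem seCore : Main.SECore.{u} := fun H hH => S1221.result H hH

/-- **A finite simple group with a Sylow 2-subgroup of J2 type is `J2` or `J3`** (Set-up form). -/
theorem main (gw : CentPSL.GW.{u}) {G : Type u} [Group G] [Finite G] [IsSimpleGroup G]
    (h : Setup G) : Cfsg.Spor.IsoJ2 G ∨ Cfsg.Spor.IsoJ3 G :=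
  Main.main solvFun oddSolv zStar gw seCore h

/-- The statement S1776, with S0483 as a hypothesis. -/
theorem of_sylow (gw : CentPSL.GW.{u}) {G : Type u} [Group G] [Finite G] [IsSimpleGroup G]
    (S : Sylow 2 G) (P : Sylow 2 Cfsg.Spor.J2)
    (hS : (Nonempty (↥(S : Subgroup G) ≃* ↥(P : Subgroup Cfsg.Spor.J2)) :)) :
    Cfsg.Spor.IsoJ2 G ∨ Cfsg.Spor.IsoJ3 G := by
  obtain ⟨e1⟩ := SporSylow.exists_equiv P
  obtain ⟨e2⟩ := hS
  obtain ⟨h⟩ := Setup.exists_of_sylow S ⟨e1.trans e2.symm⟩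
  exact main gw h

end Cfsg.Agent.J2Sylow.MainGW
end

private theorem dce_cf8d2c6be66e : _root_.True := by
  try have : _root_.True := by simp only [_root_.Cfsg.Agent.J2Sylow.Setup.z.eq_1]
  exact _root_.True.intro
end
end
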